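import Cfsg.Agent.Lib.KnownB.MinDeg.SLn.RepTools
import Cfsg.Agent.Lib.KnownA.MinIndex.Transv
import Cfsg.Agent.Lib.KnownB.MinDeg.SpEven

/-!
# The point parabolic of the special linear group
-/

set_option autoImplicit false
set_option linter.unusedSectionVars false
set_option backward.isDefEq.respectTransparency false

open Matrix

namespace CfsgLib.MinDeg.SLn

open CfsgLib.KnownA.MinIndex (T T_coe T_mulVec T_conj T_mul_right T_smul transvection_eq_T)

variable {F : Type*} [Field F] {r : ℕ}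

/-- `SL` of rank `r`. -/
abbrev SLg (F : Type*) [Field F] (r : ℕ) := SpecialLinearGroup (Fin (r + 1)) F

/-- The standard vectors. -/
abbrev ev (F : Type*) [Field F] {r : ℕ} (i : Fin (r + 1)) : Fin (r + 1) → F := Pi.single i 1

/-- The action on vectors. -/
def ac (g : SLg F r) (v : Fin (r + 1) → F) : Fin (r + 1) → F :=
  (g : Matrix (Fin (r + 1)) (Fin (r + 1)) F) *ᵥ v

@[simp] theorem ac_one (v : Fin (r + 1) → F) : ac 1 v = v := by simp [ac]

theorem ac_mul (g h : SLg F r) (v : Fin (r + 1) → F) : ac (g * h) v = ac g (ac h v) := by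
  simp [ac, Matrix.mulVec_mulVec]

theorem ac_add (g : SLg F r) (v w : Fin (r + 1) → F) : ac g (v + w) = ac g v + ac g w :=
  Matrix.mulVec_add _ _ _

theorem ac_smul (g : SLg F r) (c : F) (v : Fin (r + 1) → F) : ac g (c • v) = c • ac g v :=
  Matrix.mulVec_smul _ _ _

theorem ac_neg (g : SLg F r) (v : Fin (r + 1) → F) : ac g (-v) = -ac g v :=
  Matrix.mulVec_neg _ _

theorem ac_zero (g : SLg F r) : ac g (0 : Fin (r + 1) → F) = 0 := Matrix.mulVec_zero _

@[simp] theorem ac_inv_ac (g : SLg F r) (v : Fin (r + 1) → F) : ac g⁻¹ (ac g v) = v := by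
  rw [← ac_mul, inv_mul_cancel, ac_one]

@[simp] theorem ac_ac_inv (g : SLg F r) (v : Fin (r + 1) → F) : ac g (ac g⁻¹ v) = v := by
  rw [← ac_mul, mul_inv_cancel, ac_one]

theorem ac_inj (g : SLg F r) : Function.Injective (ac g) :=
  Function.LeftInverse.injective (g := ac g⁻¹) (ac_inv_ac g)

theorem ac_ne_zero (g : SLg F r) {v : Fin (r + 1) → F} (hv : v ≠ 0) : ac g v ≠ 0 :=
  fun h => hv (ac_inj g (h.trans (ac_zero g).symm))

theorem sl_ext_ac {g h : SLg F r} (H : ∀ i, ac g (ev F i) = ac h (ev F i)) : g = h :=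
  Subtype.ext (Matrix.ext_of_mulVec_single H)

theorem ac_sum (g : SLg F r) {ι : Type*} (s : Finset ι) (f : ι → Fin (r + 1) → F) :
    ac g (∑ i ∈ s, f i) = ∑ i ∈ s, ac g (f i) :=
  map_sum (Matrix.mulVecLin (g : Matrix (Fin (r + 1)) (Fin (r + 1)) F)) f s

/-- The radical of the point stabilizer. -/
noncomputable def u (v : Fin r → F) : SLg F r := T (ev F 0) (Fin.cons 0 v)

theorem cons_dot_ev0 (v : Fin r → F) : (Fin.cons 0 v : Fin (r + 1) → F) ⬝ᵥ ev F 0 = 0 := by
  simp

theorem u_add (v w : Fin r → F) : u (v + w) = u v * u w := by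
  rw [u, u, u, T_mul_right (cons_dot_ev0 v) (cons_dot_ev0 w)]
  congr 1
  funext i
  refine Fin.cases ?_ ?_ i <;> simp

theorem u_ac (v : Fin r → F) (z : Fin (r + 1) → F) :
    ac (u v) z = z + (v ⬝ᵥ Fin.tail z) • ev F 0 := by
  rw [ac, u, T_mulVec (cons_dot_ev0 v)]
  congr 2
  simp [dotProduct, Fin.sum_univ_succ, Fin.tail]

theorem u_ev0 (v : Fin r → F) : ac (u v) (ev F 0) = ev F 0 := by
  rw [u_ac]
  simp [Fin.tail, dotProduct]

/-- The matrix of a Levi element. -/
def levMat (A : GL (Fin r) F) : Matrix (Fin (r + 1)) (Fin (r + 1)) F :=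
  Matrix.of (Fin.cons (Fin.cons ((A : Matrix (Fin r) (Fin r) F).det)⁻¹ 0)
    fun i => Fin.cons 0 ((A : Matrix (Fin r) (Fin r) F) i))

theorem levMat_zero_zero (A : GL (Fin r) F) :
    levMat A 0 0 = ((A : Matrix (Fin r) (Fin r) F).det)⁻¹ := by simp [levMat]

theorem levMat_zero_succ (A : GL (Fin r) F) (j : Fin r) : levMat A 0 j.succ = 0 := by
  simp [levMat]

theorem levMat_succ_zero (A : GL (Fin r) F) (i : Fin r) : levMat A i.succ 0 = 0 := by
  simp [levMat]

theorem levMat_succ_succ (A : GL (Fin r) F) (i j : Fin r) :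
    levMat A i.succ j.succ = (A : Matrix (Fin r) (Fin r) F) i j := by simp [levMat]

theorem det_gl_ne_zero (A : GL (Fin r) F) : (A : Matrix (Fin r) (Fin r) F).det ≠ 0 :=
  ((Matrix.isUnit_iff_isUnit_det _).1 A.isUnit).ne_zero

theorem det_levMat (A : GL (Fin r) F) : (levMat A).det = 1 := by
  rw [Matrix.det_succ_row_zero, Fin.sum_univ_succ]
  simp only [levMat_zero_succ, mul_zero, zero_mul, Finset.sum_const_zero, add_zero,
    Fin.succAbove_zero, Fin.val_zero, pow_zero, one_mul, levMat_zero_zero]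
  rw [show (levMat A).submatrix Fin.succ Fin.succ = (A : Matrix (Fin r) (Fin r) F) from
    Matrix.ext fun i j => levMat_succ_succ A i j, inv_mul_cancel₀ (det_gl_ne_zero A)]

theorem levMat_mulVec (A : GL (Fin r) F) (z : Fin (r + 1) → F) :
    levMat A *ᵥ z = Fin.cons (((A : Matrix (Fin r) (Fin r) F).det)⁻¹ * z 0)
      ((A : Matrix (Fin r) (Fin r) F) *ᵥ Fin.tail z) := by
  funext i
  refine Fin.cases ?_ ?_ i
  · simp [Matrix.mulVec, dotProduct, Fin.sum_univ_succ, levMat_zero_zero, levMat_zero_succ]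
  · intro i
    simp [Matrix.mulVec, dotProduct, Fin.sum_univ_succ, levMat_succ_zero, levMat_succ_succ, Fin.tail]

/-- The Levi complement. -/
def lev : GL (Fin r) F →* SLg F r where
  toFun A := ⟨levMat A, det_levMat A⟩
  map_one' := Subtype.ext (Matrix.ext_of_mulVec_single fun i => by
    show levMat 1 *ᵥ _ = (1 : Matrix (Fin (r + 1)) (Fin (r + 1)) F) *ᵥ _
    rw [levMat_mulVec, Matrix.one_mulVec, Units.val_one, Matrix.det_one, inv_one, one_mul,
      Matrix.one_mulVec]
    exact Fin.cons_self_tail _)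
  map_mul' A B := Subtype.ext (Matrix.ext_of_mulVec_single fun i => by
    show levMat (A * B) *ᵥ _ = (levMat A * levMat B) *ᵥ _
    rw [← Matrix.mulVec_mulVec]
    simp only [levMat_mulVec, Fin.tail_cons, Fin.cons_zero, Units.val_mul, Matrix.det_mul,
      ← Matrix.mulVec_mulVec]
    congr 1
    rw [mul_inv, mul_assoc])

theorem lev_ac (A : GL (Fin r) F) (z : Fin (r + 1) → F) :
    ac (lev A) z = Fin.cons (((A : Matrix (Fin r) (Fin r) F).det)⁻¹ * z 0)
      ((A : Matrix (Fin r) (Fin r) F) *ᵥ Fin.tail z) :=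
  levMat_mulVec A z

theorem lev_ev0 (A : GL (Fin r) F) :
    ac (lev A) (ev F 0) = ((A : Matrix (Fin r) (Fin r) F).det)⁻¹ • ev F 0 := by
  rw [lev_ac]
  funext i
  refine Fin.cases ?_ ?_ i
  · simp
  · intro i
    have : Fin.tail (ev F (0 : Fin (r + 1))) = (0 : Fin r → F) := by funext j; simp [Fin.tail]
    simp [this]

/-- The action of the Levi complement on the radical. -/
noncomputable def levConj (A : GL (Fin r) F) : (Fin r → F) ≃+ (Fin r → F) where
  toFun v := ((A : Matrix (Fin r) (Fin r) F).det)⁻¹ • (v ᵥ* ((A⁻¹ : GL (Fin r) F) : Matrix (Fin r) (Fin r) F))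
  invFun v := (A : Matrix (Fin r) (Fin r) F).det • (v ᵥ* (A : Matrix (Fin r) (Fin r) F))
  left_inv v := by
    simp only [Matrix.smul_vecMul, Matrix.vecMul_vecMul, smul_smul, ← Units.val_mul, inv_mul_cancel,
      Units.val_one, Matrix.vecMul_one]
    rw [mul_inv_cancel₀ (det_gl_ne_zero A), one_smul]
  right_inv v := by
    simp only [Matrix.smul_vecMul, Matrix.vecMul_vecMul, smul_smul, ← Units.val_mul, mul_inv_cancel,
      Units.val_one, Matrix.vecMul_one]
    rw [inv_mul_cancel₀ (det_gl_ne_zero A), one_smul]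
  map_add' v w := by simp only [Matrix.add_vecMul, smul_add]

theorem levConj_apply (A : GL (Fin r) F) (v : Fin r → F) : levConj A v =
    ((A : Matrix (Fin r) (Fin r) F).det)⁻¹ • (v ᵥ* ((A⁻¹ : GL (Fin r) F) : Matrix (Fin r) (Fin r) F)) :=
  rfl

theorem lev_u (A : GL (Fin r) F) (v : Fin r → F) : lev A * u v = u (levConj A v) * lev A := by
  refine sl_ext_ac fun i => ?_
  rw [ac_mul, ac_mul, u_ac, ac_add, ac_smul, lev_ev0, u_ac, levConj_apply, smul_smul]
  congr 2
  rw [lev_ac A (ev F i), Fin.tail_cons, smul_dotProduct, Matrix.dotProduct_mulVec,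
    Matrix.vecMul_vecMul, ← Units.val_mul, inv_mul_cancel, Units.val_one, Matrix.vecMul_one,
    smul_eq_mul, mul_comm]

/-- The point stabilizer is the semidirect product of the radical and the Levi complement. -/
theorem exists_decomp {g : SLg F r} {c : F} (hg : ac g (ev F 0) = c • ev F 0) :
    ∃ (v : Fin r → F) (A : GL (Fin r) F), g = u v * lev A ∧
      c = ((A : Matrix (Fin r) (Fin r) F).det)⁻¹ := by
  set M := (g : Matrix (Fin (r + 1)) (Fin (r + 1)) F) with hM
  have hcol : ∀ i, M i 0 = (c • ev F 0 : Fin (r + 1) → F) i := fun i => by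
    rw [← congrFun hg i, ac, Matrix.mulVec_single_one]
    rfl
  have hdet : M.det = c * (M.submatrix Fin.succ Fin.succ).det := by
    rw [Matrix.det_succ_column_zero, Fin.sum_univ_succ]
    simp [hcol]
  rw [hM, g.2] at hdet
  have hA : (M.submatrix Fin.succ Fin.succ).det ≠ 0 := fun h => by
    rw [← hM, h, mul_zero] at hdet
    exact one_ne_zero hdet
  let A : GL (Fin r) F := Matrix.GeneralLinearGroup.mkOfDetNeZero _ hA
  have hc : c = ((A : Matrix (Fin r) (Fin r) F).det)⁻¹ := eq_inv_of_mul_eq_one_left hdet.symm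
  refine ⟨(fun j => M 0 j.succ) ᵥ* ((A⁻¹ : GL (Fin r) F) : Matrix (Fin r) (Fin r) F), A, ?_, hc⟩
  refine sl_ext_ac fun i => ?_
  rw [ac_mul, u_ac, lev_ac, Fin.tail_cons, Matrix.dotProduct_mulVec, Matrix.vecMul_vecMul,
    ← Units.val_mul, inv_mul_cancel, Units.val_one, Matrix.vecMul_one]
  funext k
  rw [ac, ← hM, Matrix.mulVec_single_one]
  refine Fin.cases ?_ ?_ k
  · refine Fin.cases ?_ ?_ i
    · simp [← hc, hcol, Fin.tail, dotProduct, Matrix.col]
    · intro j
      simp [Fin.tail, dotProduct, Matrix.col, Pi.single_apply, Fin.succ_ne_zero]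
  · intro k
    refine Fin.cases ?_ ?_ i
    · simp [hcol, Fin.tail, dotProduct, Matrix.col, Matrix.mulVec]
    · intro j
      simp [A, Fin.tail, dotProduct, Matrix.col, Matrix.mulVec, Pi.single_apply]

theorem u_lev_inj {v v' : Fin r → F} {A A' : GL (Fin r) F} (h : u v * lev A = u v' * lev A') :
    v = v' ∧ A = A' := by
  have key : ∀ z, ac (u v * lev A) z = ac (u v' * lev A') z := fun z => by rw [h]
  simp only [ac_mul, u_ac, lev_ac, Fin.tail_cons] at key
  have hA : A = A' := by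
    refine Units.ext (Matrix.ext_of_mulVec_single fun j => funext fun i => ?_)
    have := congrFun (key (Fin.cons 0 (Pi.single j 1))) i.succ
    simpa using this
  subst hA
  refine ⟨?_, rfl⟩
  funext j
  have := key (Fin.cons 0 (((A⁻¹ : GL (Fin r) F) : Matrix (Fin r) (Fin r) F) *ᵥ Pi.single j 1))
  simp only [Fin.tail_cons, Matrix.mulVec_mulVec, ← Units.val_mul, mul_inv_cancel, Units.val_one,
    Matrix.one_mulVec] at this
  simpa using congrFun this 0

section Maps

/-- Independent vectors extend to a basis. -/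
theorem exists_extend_indep {n : ℕ} : ∀ (m k : ℕ) (v : Fin k → Fin n → F), LinearIndependent F v →
    k + m = n → ∃ σ : Fin n → Fin n → F, LinearIndependent F σ ∧
      ∀ (i : Fin k) (h : i.val < n), σ ⟨i, h⟩ = v i := by
  intro m
  induction m with
  | zero =>
    intro k v hv hk
    obtain rfl : k = n := by omega
    exact ⟨v, hv, fun i h => rfl⟩
  | succ m ih =>
    intro k v hv hk
    obtain ⟨x, hx⟩ := exists_linearIndependent_snoc_of_lt_finrank hv
      (by rw [Module.finrank_fin_fun]; omega)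
    obtain ⟨σ, h1, h2⟩ := ih (k + 1) _ hx (by omega)
    refine ⟨σ, h1, fun i h => ?_⟩
    have := h2 i.castSucc (by simpa using h)
    simpa using this

/-- `SL` maps the first standard vectors onto independent vectors, up to one scalar. -/
theorem exists_sl_map {k : ℕ} (v : Fin k → Fin (r + 1) → F) (hv : LinearIndependent F v)
    (hk : k ≤ r + 1) (i₀ : Fin (r + 1)) :
    ∃ (g : SLg F r) (c : F), c ≠ 0 ∧ ∀ (i : Fin k) (h : i.val < r + 1),
      ac g (ev F ⟨i, h⟩) = (if i.val = i₀.val then c else 1) • v i := by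
  obtain ⟨σ, hσ, hσv⟩ := exists_extend_indep (r + 1 - k) k v hv (by omega)
  let M : Matrix (Fin (r + 1)) (Fin (r + 1)) F := (Matrix.of σ)ᵀ
  have hM : M.det ≠ 0 := by
    have hu : IsUnit (Matrix.of σ) := Matrix.linearIndependent_rows_iff_isUnit.1 hσ
    rw [Matrix.det_transpose]
    exact ((Matrix.isUnit_iff_isUnit_det _).1 hu).ne_zero
  refine ⟨⟨M.updateCol i₀ (M.det⁻¹ • fun i => M i i₀), ?_⟩, M.det⁻¹, inv_ne_zero hM, fun i h => ?_⟩
  · rw [Matrix.det_updateCol_smul, Matrix.updateCol_eq_self, inv_mul_cancel₀ hM]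
  · funext j
    rw [ac, Matrix.mulVec_single_one]
    simp only [Matrix.col, Matrix.updateCol_apply, Pi.smul_apply, smul_eq_mul, Matrix.transpose_apply]
    by_cases hi : i.val = i₀.val
    · have hi' : (⟨i.val, h⟩ : Fin (r + 1)) = i₀ := Fin.ext hi
      rw [if_pos hi, if_pos hi', ← hi']
      simp [M, hσv i h]
    · rw [if_neg hi, if_neg (fun h' => hi (congrArg Fin.val h')), one_mul]
      simp [M, hσv i h]

/-- `SL` maps the first standard vectors onto fewer than `n` independent vectors. -/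
theorem exists_sl_map_exact {k : ℕ} (v : Fin k → Fin (r + 1) → F) (hv : LinearIndependent F v)
    (hk : k < r + 1) : ∃ g : SLg F r, ∀ (i : Fin k) (h : i.val < r + 1),
      ac g (ev F ⟨i, h⟩) = v i := by
  obtain ⟨g, c, -, hg⟩ := exists_sl_map v hv hk.le (Fin.last r)
  refine ⟨g, fun i h => ?_⟩
  rw [hg i h, if_neg (by simp only [Fin.val_last]; omega), one_smul]

theorem exists_sl_map_one (hr : 1 ≤ r) {x : Fin (r + 1) → F} (hx : x ≠ 0) :
    ∃ g : SLg F r, ac g (ev F 0) = x := by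
  obtain ⟨g, hg⟩ := exists_sl_map_exact ![x]
    (LinearIndependent.of_subsingleton 0 (by simpa using hx)) (by omega)
  exact ⟨g, hg 0 (by simp)⟩

theorem exists_gl_map (hr : 1 ≤ r) {y y' : Fin r → F} (hy : y ≠ 0) (hy' : y' ≠ 0) :
    ∃ A : GL (Fin r) F, (A : Matrix (Fin r) (Fin r) F) *ᵥ y = y' := by
  obtain ⟨t, rfl⟩ : ∃ t, r = t + 1 := ⟨r - 1, by omega⟩
  have aux : ∀ {x : Fin (t + 1) → F}, x ≠ 0 → ∃ A : GL (Fin (t + 1)) F,
      (A : Matrix (Fin (t + 1)) (Fin (t + 1)) F) *ᵥ ev F 0 = x := by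
    intro x hx
    obtain ⟨σ, hσ, hσv⟩ := exists_extend_indep t 1 ![x]
      (LinearIndependent.of_subsingleton 0 (by simpa using hx)) (by omega)
    have hu : IsUnit ((Matrix.of σ)ᵀ) := by
      rw [Matrix.isUnit_transpose]
      exact Matrix.linearIndependent_rows_iff_isUnit.1 hσ
    refine ⟨hu.unit, ?_⟩
    rw [IsUnit.unit_spec, Matrix.mulVec_single_one]
    funext j
    simpa [Matrix.col] using congrFun (hσv 0 (by simp)) j
  obtain ⟨A, hA⟩ := aux hy
  obtain ⟨A', hA'⟩ := aux hy'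
  refine ⟨A' * A⁻¹, ?_⟩
  rw [Units.val_mul, ← hA, ← Matrix.mulVec_mulVec, Matrix.mulVec_mulVec (M := ((A⁻¹ : GL (Fin (t + 1)) F) : Matrix (Fin (t + 1)) (Fin (t + 1)) F)),
    ← Units.val_mul, inv_mul_cancel, Units.val_one, Matrix.one_mulVec, hA']

/-- Every transvection is conjugate into the radical. -/
theorem eq_top_of_conj_u (hr : 1 ≤ r) (K : Subgroup (SLg F r))
    (h : ∀ g v, g * u v * g⁻¹ ∈ K) : K = ⊤ := by
  refine CfsgLib.Classical.sl_subgroup_eq_top K fun i j hij c => ?_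
  obtain ⟨g, hg⟩ := exists_sl_map_one (F := F) hr (x := ev F i) (by simp)
  set φ := (Pi.single j c : Fin (r + 1) → F) ᵥ* (g : Matrix (Fin (r + 1)) (Fin (r + 1)) F) with hφ
  have h0 : φ ⬝ᵥ ev F 0 = 0 := by
    rw [hφ, ← Matrix.dotProduct_mulVec, show (g : Matrix (Fin (r + 1)) (Fin (r + 1)) F) *ᵥ ev F 0 = ev F i from hg]
    simp [hij]
  have hcons : φ = Fin.cons 0 (Fin.tail φ) := by
    conv_lhs => rw [← Fin.cons_self_tail φ]
    rw [show φ 0 = 0 by simpa using h0]
  have hT := T_conj g h0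
  rw [show (g : Matrix (Fin (r + 1)) (Fin (r + 1)) F) *ᵥ ev F 0 = ev F i from hg, hφ,
    Matrix.vecMul_vecMul, show (g : Matrix (Fin (r + 1)) (Fin (r + 1)) F) *
      ((g⁻¹ : SLg F r) : Matrix (Fin (r + 1)) (Fin (r + 1)) F) = 1 from congrArg Subtype.val (mul_inv_cancel g),
    Matrix.vecMul_one, ← hφ, hcons] at hT
  have e : SpecialLinearGroup.transvection hij c = T (ev F i) (Pi.single j c) := by
    rw [transvection_eq_T hij c, show (Pi.single i c : Fin (r + 1) → F) = c • ev F i by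
      rw [← Pi.single_smul', smul_eq_mul, mul_one],
      T_smul (CfsgLib.KnownA.MinIndex.single_dot_single hij.symm 1 1), ← Pi.single_smul', smul_eq_mul,
      mul_one]
  rw [e, ← hT]
  exact h g _

end Maps

section Chars

variable (ψ₀ : AddChar F ℂ)

/-- The characters of the radical. -/
def ch (y : Fin r → F) : AddChar (Fin r → F) ℂ where
  toFun v := ψ₀ (y ⬝ᵥ v)
  map_zero_eq_one' := by simp
  map_add_eq_mul' v w := by rw [dotProduct_add, AddChar.map_add_eq_mul]

theorem ch_apply (y v : Fin r → F) : ch ψ₀ y v = ψ₀ (y ⬝ᵥ v) := rfl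

theorem ch_zero : ch ψ₀ (0 : Fin r → F) = 0 := by
  ext v
  simp [ch_apply]

variable {ψ₀} [Fintype F] [DecidableEq F]

theorem ch_bijective (hψ : ψ₀ ≠ 0) : Function.Bijective (ch (r := r) ψ₀) := by
  refine (Fintype.bijective_iff_injective_and_card _).2 ⟨fun y y' h => ?_, (AddChar.card_eq (α := Fin r → F)).symm⟩
  by_contra hne
  obtain ⟨i, hi⟩ := Function.ne_iff.1 hne
  obtain ⟨x, hx⟩ := AddChar.ne_zero_iff.1 hψ
  apply hx
  have h1 := DFunLike.congr_fun h (Pi.single i (x / (y i - y' i)))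
  simp only [ch_apply, dotProduct_single] at h1
  have h2 : y i * (x / (y i - y' i)) - y' i * (x / (y i - y' i)) = x := by
    rw [← sub_mul, mul_div_cancel₀ _ (sub_ne_zero.2 hi)]
  rw [← h2, sub_eq_add_neg, AddChar.map_add_eq_mul, AddChar.map_neg_eq_inv, h1, mul_inv_cancel₀]
  exact (ψ₀.val_isUnit _).ne_zero

/-- A Levi element carries the weights. -/
theorem levConj_ch (A : GL (Fin r) F) (y v : Fin r → F) :
    ch ψ₀ ((A : Matrix (Fin r) (Fin r) F).det • ((A : Matrix (Fin r) (Fin r) F) *ᵥ y)) (levConj A v) =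
      ch ψ₀ y v := by
  rw [ch_apply, ch_apply, levConj_apply]
  congr 1
  rw [smul_dotProduct, dotProduct_smul, smul_smul, mul_inv_cancel₀ (det_gl_ne_zero A), one_smul,
    dotProduct_comm, Matrix.dotProduct_mulVec, Matrix.vecMul_vecMul, ← Units.val_mul, inv_mul_cancel,
    Units.val_one, Matrix.vecMul_one, dotProduct_comm]

end Chars

section Torus

variable {s : ℕ}

theorem idx_ne : (0 : Fin (s + 3)) ≠ 1 ∧ (0 : Fin (s + 3)) ≠ 2 ∧ (1 : Fin (s + 3)) ≠ 2 := by
  simp [Fin.ext_iff, Nat.mod_eq_of_lt (show 2 < s + 2 + 1 by omega)]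

/-- The diagonal entries of a torus element. -/
def torDiag (a b : F) : Fin (s + 3) → F :=
  fun i => if i = 0 then a else if i = 1 then b else if i = 2 then (a * b)⁻¹ else 1

theorem torDiag_prod {a b : F} (ha : a ≠ 0) (hb : b ≠ 0) : ∏ i, torDiag (s := s) a b i = 1 := by
  obtain ⟨h01, h02, h12⟩ := idx_ne (s := s)
  rw [← Finset.prod_subset (Finset.subset_univ ({0, 1, 2} : Finset (Fin (s + 3)))) fun i _ hi => by
      simp only [Finset.mem_insert, Finset.mem_singleton, not_or] at hi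
      simp [torDiag, hi.1, hi.2.1, hi.2.2],
    Finset.prod_insert (by simp [h01, h02]), Finset.prod_insert (by simp [h12]),
    Finset.prod_singleton]
  simp only [torDiag, if_pos, h01.symm, h02.symm, h12.symm, if_false]
  field_simp

/-- Torus elements. -/
noncomputable def tor (a b : Fˣ) : SLg F (s + 2) :=
  ⟨Matrix.diagonal (torDiag (a : F) b), by rw [Matrix.det_diagonal, torDiag_prod a.ne_zero b.ne_zero]⟩

theorem tor_ac_ev (a b : Fˣ) (i : Fin (s + 3)) :
    ac (tor (s := s) a b) (ev F i) = torDiag (a : F) b i • ev F i := by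
  rw [ac]
  show Matrix.diagonal _ *ᵥ _ = _
  funext j
  rw [Matrix.mulVec_diagonal]
  by_cases h : j = i
  · subst h; simp
  · simp [Pi.single_apply, h]

theorem tor_mul (a b a' b' : Fˣ) : tor (s := s) (a * a') (b * b') = tor a b * tor a' b' := by
  refine sl_ext_ac fun i => ?_
  rw [ac_mul, tor_ac_ev, tor_ac_ev, ac_smul, tor_ac_ev, smul_smul]
  congr 1
  simp only [torDiag, Units.val_mul]
  split_ifs <;> ring

end Torus

end CfsgLib.MinDeg.SLn
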