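import Cfsg.Agent.Lib.KnownB.MinDeg.SLn.OrthFalse
import Cfsg.Agent.Lib.KnownB.MinDeg.OrthSiegel.SLBound

/-!
# Representations of `SL n` below the number of points: the model on the points
-/

set_option autoImplicit false
set_option linter.unusedSectionVars false
set_option backward.isDefEq.respectTransparency false
set_option maxHeartbeats 1000000

open Matrix
open scoped ComplexConjugate

namespace CfsgLib.MinDeg.SLn

variable {F : Type*} [Field F] [Fintype F] [DecidableEq F]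
  {V : Type*} [AddCommGroup V] [Module ℂ V] [FiniteDimensional ℂ V] {s : ℕ}
  {π : Representation ℂ (SLg F (s + 2)) V}

local notation "qq" => Fintype.card F

theorem dimLe_of_small (hq : 3 ≤ qq)
    (hlt : (Module.finrank ℂ V : ℝ) * ((qq : ℝ) - 1) < (qq : ℝ) ^ (s + 3) - 1) : DimLe π := by
  obtain ⟨d, hd⟩ := exists_uniform π (MonoidHom.id _) (sl_transitive (by omega) π)
  intro χ hχ
  by_contra h2
  have hd' : Module.finrank ℂ (weightSpace π u χ) = d := hd χ hχ
  have h := finrank_eq_of_uniform (ρ := π) u_add hd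
  rw [Fintype.card_fun, Fintype.card_fin] at h
  have h3 : 2 * (qq ^ (s + 2) - 1) ≤ Module.finrank ℂ V := by
    rw [h]
    exact (Nat.mul_le_mul_right _ (show 2 ≤ d by omega)).trans (Nat.le_add_left _ _)
  have hq3 : (3 : ℝ) ≤ qq := by exact_mod_cast hq
  have h4 : (2 : ℝ) * ((qq : ℝ) ^ (s + 2) - 1) ≤ Module.finrank ℂ V := by
    have := (Nat.cast_le (α := ℝ)).2 h3
    rwa [Nat.cast_mul, Nat.cast_sub (Nat.one_le_pow _ _ Fintype.card_pos), Nat.cast_pow, Nat.cast_one,
      Nat.cast_ofNat] at this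
  have hM : (qq : ℝ) ^ 2 ≤ (qq : ℝ) ^ (s + 2) := pow_le_pow_right₀ (by linarith) (by omega)
  rw [pow_succ' (qq : ℝ) (s + 2)] at hlt
  nlinarith [mul_le_mul_of_nonneg_right h4 (show (0 : ℝ) ≤ (qq : ℝ) - 1 by linarith),
    mul_le_mul_of_nonneg_left hM (show (0 : ℝ) ≤ (qq : ℝ) - 2 by linarith)]

/-- Below the number of points a moved vector fixed by the point radical excludes fixed vectors. -/
theorem no_fixed_of_small
    (hlt : (Module.finrank ℂ V : ℝ) * ((qq : ℝ) - 1) < (qq : ℝ) ^ (s + 3) - 1) {w : V}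
    (hw : w ∈ fixQ π) {g₀ : SLg F (s + 2)} (hg₀ : π g₀ w ≠ w) :
    ∀ v, (∀ g, π g v = v) → v = 0 := by
  classical
  intro v hv
  let A : Module.End ℂ V := (Fintype.card (SLg F (s + 2)) : ℂ)⁻¹ • ∑ g, π g
  have hA : ∀ v, A v = (Fintype.card (SLg F (s + 2)) : ℂ)⁻¹ • ∑ g, π g v := fun v => by simp [A]
  have hinv : ∀ g v, π g (A v) = A v := fun g v => by
    rw [hA, map_smul, map_sum]
    congr 1
    refine Fintype.sum_equiv (Equiv.mulLeft g) _ _ fun k => ?_
    rw [Equiv.coe_mulLeft, map_mul, Module.End.mul_apply]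
  have hcomm : ∀ g v, A (π g v) = A v := fun g v => by
    rw [hA, hA]
    congr 1
    refine Fintype.sum_equiv (Equiv.mulRight g) _ _ fun k => ?_
    rw [Equiv.coe_mulRight, map_mul, Module.End.mul_apply]
  have hW : ∀ g, ∀ v ∈ LinearMap.ker A, π g v ∈ LinearMap.ker A := fun g v hv => by
    rw [LinearMap.mem_ker] at hv ⊢
    rw [hcomm, hv]
  have hfixA : ∀ v, (∀ g, π g v = v) → A v = v := fun v hv => by
    rw [hA]
    simp only [hv, Finset.sum_const, Finset.card_univ, ← Nat.cast_smul_eq_nsmul ℂ]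
    rw [inv_smul_smul₀ (Nat.cast_ne_zero.2 Fintype.card_ne_zero)]
  let π' := resRep (ρ := π) (LinearMap.ker A) hW
  have hw' : w - A w ∈ LinearMap.ker A := by
    rw [LinearMap.mem_ker, map_sub, hfixA (A w) (fun g => hinv g w), sub_self]
  have hne : fixQ π' ≠ ⊥ := by
    refine fun h => hg₀ ?_
    have hm : (⟨w - A w, hw'⟩ : LinearMap.ker A) ∈ fixQ π' := mem_fixQ.2 fun a => Subtype.ext (by
      rw [resRep_coe]
      show π (u a) (w - A w) = w - A w
      rw [map_sub, mem_fixQ.1 hw a, hinv])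
    rw [h, Submodule.mem_bot] at hm
    have e : w = A w := sub_eq_zero.1 (congrArg Subtype.val hm)
    rw [e, hinv]
  have hfix : ∀ x, (∀ g, π' g x = x) → x = 0 := fun x hx => Subtype.ext (by
    rw [← hfixA x.1 fun g => by
      rw [← resRep_coe (ρ := π) (LinearMap.ker A) hW g x]; exact congrArg Subtype.val (hx g)]
    exact LinearMap.mem_ker.1 x.2)
  by_contra hv0
  have hlt2 : Module.finrank ℂ (LinearMap.ker A) < Module.finrank ℂ V := by
    refine Submodule.finrank_lt fun h => hv0 ?_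
    have hm : v ∈ LinearMap.ker A := h ▸ Submodule.mem_top
    rwa [LinearMap.mem_ker, hfixA v hv] at hm
  have hb := fixQ_bound π' hfix hne
  have h1 : (Module.finrank ℂ (LinearMap.ker A) : ℝ) + 1 ≤ Module.finrank ℂ V := by exact_mod_cast hlt2
  have hq : (2 : ℝ) ≤ qq := by exact_mod_cast Fintype.one_lt_card (α := F)
  nlinarith [mul_le_mul_of_nonneg_right h1 (show (0 : ℝ) ≤ (qq : ℝ) - 1 by linarith)]

/-- A vector fixed by the stabilizer of a vector, with trivial character of the scalings. -/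
structure PModel (π : Representation ℂ (SLg F (s + 2)) V) where
  I : InvForm π
  e : V
  fix : MFix π e
  unit : I.B e e = 1
  scale : ∀ (a : F) (x : Fin (s + 3) → F), a ≠ 0 → Φ1 π e (a • x) = Φ1 π e x
  span : ∀ v : V, ∃ f : (Fin (s + 3) → F) → ℂ, v = ∑ x, f x • Φ1 π e x
  star : ∑ x, Φ1 π e x = 0

theorem phi1_zero (π : Representation ℂ (SLg F (s + 2)) V) (e : V) :
    Φ1 π e (0 : Fin (s + 3) → F) = 0 := by
  rw [Φ1, dif_neg]
  rintro ⟨g, hg⟩
  exact ac_ne_zero g (by simp) hg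

theorem exists_mfix_of_small (hq : 3 ≤ qq) (hne : fixQ π ≠ ⊥)
    (hlt : (Module.finrank ℂ V : ℝ) * ((qq : ℝ) - 1) < (qq : ℝ) ^ (s + 3) - 1) :
    ∃ e, MFix π e ∧ e ≠ 0 := by
  by_contra hM
  push Not at hM
  obtain ⟨v, -, hv0⟩ := Submodule.exists_mem_ne_zero_of_ne_bot hne
  have : Nontrivial V := ⟨⟨v, 0, hv0⟩⟩
  have hle := dimLe_of_small (π := π) hq hlt
  obtain ⟨I⟩ := exists_invForm π
  have hMs := exists_mfix (s + 1) (by omega) _ (sig π) (dimLe_sig hle) (sigQ_ne_bot hle hM I hne)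
  obtain ⟨D⟩ := exists_flag I hMs
  by_cases hψ : D.ψ = 1
  · exact D.star_false hle hM hψ
  · exact D.orth_false hle hM hψ

theorem mfix_tor {e : V} (he : MFix π e) (a : Fˣ) : MFix π (π (tor a 1) e) := by
  intro g hg
  have e0 : ac (tor (s := s) a 1) (ev F 0) = (a : F) • ev F 0 := by rw [tor_ac_ev]; simp [torDiag]
  have i0 : ac (tor (s := s) a 1)⁻¹ (ev F 0) = (a : F)⁻¹ • ev F 0 := by
    apply ac_inj (tor (s := s) a 1)
    rw [ac_ac_inv, ac_smul, e0, smul_smul, inv_mul_cancel₀ a.ne_zero, one_smul]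
  have := he ((tor a 1)⁻¹ * g * tor a 1) (by
    rw [ac_mul, ac_mul, e0, ac_smul, hg, ac_smul, i0, smul_smul, mul_inv_cancel₀ a.ne_zero, one_smul])
  conv_rhs => rw [← this]
  rw [← Module.End.mul_apply, ← Module.End.mul_apply, ← map_mul, ← map_mul, mul_assoc (tor a 1)⁻¹,
    mul_inv_cancel_left]

theorem exists_pmodel (hq : 3 ≤ qq) (hfix : ∀ v, (∀ g, π g v = v) → v = 0) (hne : fixQ π ≠ ⊥)
    (hlt : (Module.finrank ℂ V : ℝ) * ((qq : ℝ) - 1) < (qq : ℝ) ^ (s + 3) - 1) :
    Nonempty (PModel π) := by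
  classical
  obtain ⟨e₁, he₁, he₁0⟩ := exists_mfix_of_small hq hne hlt
  -- an eigenvector of the scalings
  let ut : Additive Fˣ → SLg F (s + 2) := fun a => tor a.toMul 1
  have hut : ∀ a b, ut (a + b) = ut a * ut b := fun a b => by
    show tor (a + b).toMul 1 = tor a.toMul 1 * tor b.toMul 1
    rw [← tor_mul, mul_one, toMul_add]
  obtain ⟨χ, hχ⟩ : ∃ χ : AddChar (Additive Fˣ) ℂ, proj π ut χ e₁ ≠ 0 := by
    by_contra h
    push Not at h
    apply he₁0
    rw [← sum_proj (ρ := π) (u := ut) hut e₁, Finset.sum_eq_zero fun χ _ => h χ]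
  set e₂ := proj π ut χ e₁ with he₂
  have hM2 : MFix π e₂ := by
    intro g hg
    rw [he₂, proj_apply, map_smul, map_sum]
    congr 1
    refine Finset.sum_congr rfl fun b _ => ?_
    rw [map_smul, mfix_tor he₁ _ g hg]
  obtain ⟨I⟩ := exists_invForm π
  obtain ⟨c, hc0, hc⟩ := I.exists_unit hχ
  set e := c • e₂ with he_def
  have he : MFix π e := fun g hg => by rw [map_smul, hM2 g hg]
  have heig : ∀ a : Fˣ, π (tor a 1) e = χ (Additive.ofMul a) • e := fun a => by
    rw [map_smul, show π (tor a 1) e₂ = χ (Additive.ofMul a) • e₂ from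
      proj_mem hut χ e₁ (Additive.ofMul a), smul_comm]
  have hirr : NoProper π := noProper_of_weights (by omega) π (MonoidHom.id _) (dimLe_of_small hq hlt)
    (sl_transitive (by omega) π) hfix
  have hmul : ∀ (a : Fˣ) (x : Fin (s + 3) → F), x ≠ 0 →
      Φ1 π e ((a : F) • x) = χ (Additive.ofMul a) • Φ1 π e x := by
    intro a x hx
    obtain ⟨g, hg⟩ := exists_sl_map_one (F := F) (r := s + 2) (by omega) hx
    have e0 : ac (tor (s := s) a 1) (ev F 0) = (a : F) • ev F 0 := by rw [tor_ac_ev]; simp [torDiag]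
    rw [phi1_eq he (g := g * tor a 1) (by rw [ac_mul, e0, ac_smul, hg]), phi1_eq he hg, map_mul,
      Module.End.mul_apply, heig, map_smul]
  have hstar : ∑ x, Φ1 π e x = 0 := hfix _ fun k => by
    rw [map_sum]
    exact Fintype.sum_equiv ⟨ac k, ac k⁻¹, ac_inv_ac k, ac_ac_inv k⟩ _ _
      fun x => (phi1_map he (by omega) k x).symm
  have hspan : ∀ v : V, ∃ f : (Fin (s + 3) → F) → ℂ, v = ∑ x, f x • Φ1 π e x := by
    let L : ((Fin (s + 3) → F) → ℂ) →ₗ[ℂ] V := Fintype.linearCombination ℂ (Φ1 π e)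
    have hL : ∀ f, L f = ∑ x, f x • Φ1 π e x := fun f => Fintype.linearCombination_apply _ _ _
    have hW : ∀ g, ∀ v ∈ LinearMap.range L, π g v ∈ LinearMap.range L := by
      rintro g _ ⟨f, rfl⟩
      refine ⟨fun x => f (ac g⁻¹ x), ?_⟩
      rw [hL, hL, map_sum]
      symm
      refine Fintype.sum_equiv ⟨ac g, ac g⁻¹, ac_inv_ac g, ac_ac_inv g⟩ _ _ fun x => ?_
      rw [Equiv.coe_fn_mk, ac_inv_ac, map_smul, phi1_map he (by omega)]
    rcases hirr _ hW with h | h
    · exfalso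
      have : Φ1 π e (ev F 0) ∈ LinearMap.range L := ⟨Pi.single (ev F 0) 1, by
        rw [hL, Finset.sum_eq_single (ev F (0 : Fin (s + 3))) (fun b _ hb => by simp [hb]) (by simp)]
        simp⟩
      rw [h, Submodule.mem_bot, phi1_eq he (g := 1) (by simp), map_one, Module.End.one_apply] at this
      rw [this, I.zero_left] at hc
      exact zero_ne_one hc
    · intro v
      obtain ⟨f, hf⟩ : v ∈ LinearMap.range L := h ▸ Submodule.mem_top
      exact ⟨f, by rw [← hf, hL]⟩
  by_cases htriv : ∀ a : Fˣ, χ (Additive.ofMul a) = 1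
  · exact ⟨⟨I, e, he, hc, fun a x ha => by
      by_cases hx : x = 0
      · rw [hx, smul_zero]
      · have := hmul (Units.mk0 a ha) x hx
        rwa [htriv, one_smul, Units.val_mk0] at this, hspan, hstar⟩⟩
  exfalso
  push Not at htriv
  obtain ⟨a, ha⟩ := htriv
  set rr : (Fin (s + 3) → F) → ℂ := fun x => I.B e (Φ1 π e x) with hrr
  have hout : ∀ x, x ∉ Flag.L0 F s → rr x = rr (ev F 1) := by
    intro x hx
    obtain ⟨g, g0, g1⟩ := Flag.exists_g (indep_two.2 ⟨(by simp : ev F (0 : Fin (s + 3)) ≠ 0), hx⟩)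
    simp only [hrr]
    rw [← g1, phi1_map he (by omega)]
    calc I.B e (π g (Φ1 π e (ev F 1))) = I.B (π g e) (π g (Φ1 π e (ev F 1))) := by rw [he g g0]
      _ = _ := I.inv g _ _
  have h1out : ev F (1 : Fin (s + 3)) ∉ Flag.L0 F s := (indep_two.1 (indep_std (F := F) (s := s))).2
  have hzero : rr (ev F 1) = 0 := by
    have hx : (a : F) • ev F (1 : Fin (s + 3)) ∉ Flag.L0 F s := fun h => h1out (by
      have := Submodule.smul_mem _ (a : F)⁻¹ h
      rwa [inv_smul_smul₀ a.ne_zero] at this)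
    have h := hout _ hx
    simp only [hrr] at h ⊢
    rw [hmul a _ (by simp), I.smul_right] at h
    exact Flag.zero_of_factor (y := 1) (by rw [h, one_mul]) ha
  let α := {x : Fin (s + 3) → F // x ≠ 0}
  have ht := sum_transitive (G := SLg F (s + 2)) (α := α)
    (fun g => ⟨ac g (ev F 0), ac_ne_zero g (by simp)⟩)
    (fun g x => ⟨ac g x.1, ac_ne_zero g x.2⟩) (fun g k => Subtype.ext (ac_mul g k _))
    (fun x => by
      obtain ⟨g, hg⟩ := exists_sl_map_one (F := F) (r := s + 2) (by omega) x.2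
      exact ⟨g, Subtype.ext hg⟩)
    (fun x => ‖rr x.1‖ ^ 2)
  have hα : (Fintype.card α : ℝ) = (qq : ℝ) ^ (s + 3) - 1 := by
    rw [Fintype.card_subtype_compl, Fintype.card_subtype_eq, Fintype.card_fun, Fintype.card_fin,
      Nat.cast_sub (Nat.one_le_pow _ _ Fintype.card_pos)]
    simp
  have hnorm : ∑ x : α, ‖rr x.1‖ ^ 2 = (qq : ℝ) - 1 := by
    have h0 : ∀ x, x = 0 → ‖rr x‖ ^ 2 = 0 := fun x hx => by simp [hrr, hx, phi1_zero, I.zero_right]
    rw [← Finset.sum_subtype (Finset.univ.filter fun x : Fin (s + 3) → F => x ≠ 0) (fun x => by simp)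
      (fun x => ‖rr x‖ ^ 2), Finset.sum_filter_of_ne (p := fun x => x ≠ 0) fun x _ hx h => hx (h0 x h),
      sum_chain2 (F := F) (W := Fin (s + 3) → F) (β := ℝ) ⊥ (Flag.L0 F s) bot_le _ 1 0
      (fun y hy => h0 y ((Submodule.mem_bot F).1 hy)) (fun y hy hy' => ?_)
      (fun y hy => by rw [hout y hy, hzero, norm_zero, zero_pow two_ne_zero])]
    · rw [Flag.card_L0, show Nat.card (⊥ : Submodule F (Fin (s + 3) → F)) = 1 by simp, smul_zero,
        add_zero, nsmul_eq_mul, mul_one, Nat.cast_sub Fintype.card_pos, Nat.cast_one]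
    · obtain ⟨b, rfl⟩ := mem_sp_one.1 hy
      have hb : b ≠ 0 := fun h => hy' ((Submodule.mem_bot F).2 (by rw [h, zero_smul]))
      have := hmul (Units.mk0 b hb) (ev F (0 : Fin (s + 3))) (by simp)
      rw [Units.val_mk0, phi1_eq he (g := 1) (x := ev F 0) (by simp), map_one, Module.End.one_apply]
        at this
      simp only [hrr, this, I.smul_right, hc, mul_one]
      rw [Complex.norm_eq_one_of_pow_eq_one (n := Fintype.card (Additive Fˣ)) ?_ Fintype.card_ne_zero]
      · norm_num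
      · rw [← AddChar.map_nsmul_eq_pow, card_nsmul_eq_zero, AddChar.map_zero_eq_one]
  have hg : ∀ g : SLg F (s + 2), ‖rr (ac g (ev F 0))‖ ^ 2 = ‖I.B e (π g e)‖ ^ 2 := fun g => by
    simp only [hrr, phi1_eq he rfl]
  have hS := schur hirr I hc
  simp only [nsmul_eq_mul, hα, hg, hnorm] at ht
  have hq2 : (3 : ℝ) ≤ qq := by exact_mod_cast hq
  have : (Module.finrank ℂ V : ℝ) * ((qq : ℝ) - 1) = (qq : ℝ) ^ (s + 3) - 1 := by
    refine mul_left_cancel₀ (Nat.cast_ne_zero.2 Fintype.card_ne_zero : (Fintype.card (SLg F (s + 2)) : ℝ) ≠ 0) ?_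
    linear_combination ((qq : ℝ) ^ (s + 3) - 1) * hS - (Module.finrank ℂ V : ℝ) * ht
  linarith

namespace PModel

variable (M : PModel π)

/-- The translate at a point. -/
noncomputable abbrev P (x : Fin (s + 3) → F) : V := Φ1 π M.e x

/-- The combination with coefficients on the points. -/
noncomputable def lam (f : (Fin (s + 3) → F) → ℂ) : V := ∑ x, f x • M.P x

theorem lam_map (g : SLg F (s + 2)) (f : (Fin (s + 3) → F) → ℂ) :
    π g (M.lam f) = M.lam fun x => f (ac g⁻¹ x) := by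
  rw [lam, lam, map_sum]
  refine Fintype.sum_equiv ⟨ac g, ac g⁻¹, ac_inv_ac g, ac_ac_inv g⟩ _ _ fun x => ?_
  rw [Equiv.coe_fn_mk, ac_inv_ac, map_smul, P, P, phi1_map M.fix (by omega)]

/-- Functions on the points. -/
structure LineFun (f : (Fin (s + 3) → F) → ℂ) : Prop where
  zero : f 0 = 0
  scale : ∀ (a : F) x, a ≠ 0 → f (a • x) = f x

theorem lineFun_comp {f : (Fin (s + 3) → F) → ℂ} (hf : LineFun f) (g : SLg F (s + 2)) :
    LineFun fun x => f (ac g x) :=
  ⟨by rw [ac_zero, hf.zero], fun a x ha => by rw [ac_smul, hf.scale a _ ha]⟩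

theorem repr (v : V) : ∃ f, LineFun f ∧ v = M.lam f := by
  classical
  obtain ⟨f, hf⟩ := M.span v
  set n : ℂ := ((Finset.univ.filter fun a : F => a ≠ 0).card : ℂ) with hn
  have hn0 : n ≠ 0 := Nat.cast_ne_zero.2 (Finset.card_ne_zero.2 ⟨1, by simp⟩)
  refine ⟨fun x => if x = 0 then 0 else n⁻¹ * ∑ a ∈ Finset.univ.filter (fun a : F => a ≠ 0), f (a • x),
    ⟨if_pos rfl, fun b x hb => ?_⟩, ?_⟩
  · by_cases hx : x = 0
    · rw [hx, smul_zero]
    · rw [if_neg hx, if_neg (smul_ne_zero hb hx)]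
      congr 1
      refine Finset.sum_equiv (Equiv.mulRight₀ b hb) (fun a => by simp [hb]) fun a _ => ?_
      rw [smul_smul]
      rfl
  · have h : ∀ a ∈ Finset.univ.filter (fun a : F => a ≠ 0), v = ∑ x, f (a • x) • M.P x := by
      intro a ha
      have ha0 : a ≠ 0 := (Finset.mem_filter.1 ha).2
      rw [hf]
      symm
      refine Fintype.sum_equiv ⟨fun x => a • x, fun x => a⁻¹ • x, fun x => inv_smul_smul₀ ha0 x,
        fun x => smul_inv_smul₀ ha0 x⟩ _ _ fun x => ?_
      rw [Equiv.coe_fn_mk, P, M.scale a x ha0]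
    have h2 : n • v = ∑ x, (∑ a ∈ Finset.univ.filter (fun a : F => a ≠ 0), f (a • x)) • M.P x := by
      rw [hn, Nat.cast_smul_eq_nsmul, ← Finset.sum_const, Finset.sum_congr rfl h, Finset.sum_comm]
      simp only [Finset.sum_smul]
    calc v = n⁻¹ • n • v := (inv_smul_smul₀ hn0 v).symm
      _ = _ := by
        rw [h2, Finset.smul_sum, lam]
        refine Finset.sum_congr rfl fun x _ => ?_
        by_cases hx : x = 0
        · rw [hx, P, phi1_zero, smul_zero, smul_zero, smul_zero]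
        · rw [if_neg hx, smul_smul]

/-- The inner product of translates at different points. -/
noncomputable def off : ℂ := M.I.B M.e (M.P (ev F 1))

theorem P_ev0 : M.P (ev F 0) = M.e := by
  rw [P, phi1_eq M.fix (g := 1) (by simp), map_one, Module.End.one_apply]

open scoped _root_.Classical in
theorem gram {x y : Fin (s + 3) → F} (hx : x ≠ 0) (hy : y ≠ 0) :
    M.I.B (M.P x) (M.P y) = if y ∈ Sp (F := F) ![x] then 1 else M.off := by
  classical
  obtain ⟨g, hg⟩ := exists_sl_map_one (F := F) (r := s + 2) (by omega) hx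
  obtain ⟨y', rfl⟩ : ∃ y', ac g y' = y := ⟨ac g⁻¹ y, ac_ac_inv g y⟩
  rw [P, P, phi1_eq M.fix hg, phi1_map M.fix (by omega), M.I.inv]
  split_ifs with h
  · obtain ⟨a, ha⟩ := mem_sp_one.1 h
    rw [← hg, ← ac_smul] at ha
    have ha0 : a ≠ 0 := fun h0 => hy (by rw [← ha, h0, zero_smul, ac_zero])
    rw [← ac_inj g ha, M.scale a _ ha0]
    show M.I.B M.e (M.P (ev F 0)) = 1
    rw [M.P_ev0, M.unit]
  · have h' : y' ∉ Sp (F := F) ![ev F (0 : Fin (s + 3))] := fun hm => h (by
      obtain ⟨a, ha⟩ := mem_sp_one.1 hm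
      exact mem_sp_one.2 ⟨a, by rw [← hg, ← ac_smul, ha]⟩)
    obtain ⟨k, k0, k1⟩ := Flag.exists_g (indep_two.2 ⟨(by simp : ev F (0 : Fin (s + 3)) ≠ 0), h'⟩)
    rw [← k1, phi1_map M.fix (by omega)]
    calc M.I.B M.e (π k (Φ1 π M.e (ev F 1))) = M.I.B (π k M.e) (π k (Φ1 π M.e (ev F 1))) := by
          rw [M.fix k k0]
      _ = _ := M.I.inv k _ _

theorem inner_P {f : (Fin (s + 3) → F) → ℂ} (hf : LineFun f) {x : Fin (s + 3) → F} (hx : x ≠ 0) :
    M.I.B (M.P x) (M.lam f) = (1 - M.off) * ((qq : ℂ) - 1) * f x + M.off * ∑ y, f y := by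
  classical
  rw [lam, M.I.sum_right]
  simp only [M.I.smul_right]
  have e : ∀ y, f y * M.I.B (M.P x) (M.P y) =
      (if y ∈ Sp (F := F) ![x] then f y * (1 - M.off) else 0) + M.off * f y := by
    intro y
    by_cases hy : y = 0
    · subst hy
      rw [hf.zero, zero_mul, zero_mul, mul_zero, ite_self, add_zero]
    · rw [M.gram hx hy]
      split_ifs <;> ring
  rw [Finset.sum_congr rfl fun y _ => e y, Finset.sum_add_distrib, ← Finset.mul_sum]
  congr 1
  rw [sum_chain2 (F := F) (W := Fin (s + 3) → F) (β := ℂ) ⊥ (Sp ![x]) bot_le _ (f x * (1 - M.off)) 0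
    (fun y hy => by rw [(Submodule.mem_bot F).1 hy, hf.zero, zero_mul, ite_self])
    (fun y hy hy' => by
      rw [if_pos hy]
      obtain ⟨a, rfl⟩ := mem_sp_one.1 hy
      rw [hf.scale a x fun h => hy' ((Submodule.mem_bot F).2 (by rw [h, zero_smul]))])
    (fun y hy => if_neg hy)]
  rw [Flag.card_sp_one hx, show Nat.card (⊥ : Submodule F (Fin (s + 3) → F)) = 1 by simp, smul_zero,
    add_zero, nsmul_eq_mul, Nat.cast_sub Fintype.card_pos, Nat.cast_one]
  ring

theorem off_eq : ((qq : ℂ) - 1) + ((qq : ℂ) ^ (s + 3) - qq) * M.off = 0 := by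
  classical
  let f : (Fin (s + 3) → F) → ℂ := fun x => if x = 0 then 0 else 1
  have hf : LineFun f := ⟨if_pos rfl, fun a x ha => by
    by_cases hx : x = 0
    · rw [hx, smul_zero]
    · simp [f, hx, ha]⟩
  have h0 : M.lam f = 0 := by
    rw [lam, ← M.star]
    refine Finset.sum_congr rfl fun x _ => ?_
    by_cases hx : x = 0
    · rw [hx, P, phi1_zero, smul_zero]
    · simp [f, hx]
  have hsum : ∑ y, f y = (qq : ℂ) ^ (s + 3) - 1 := by
    rw [Finset.sum_ite, Finset.sum_const_zero, zero_add, Finset.sum_const, nsmul_eq_mul, mul_one,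
      Finset.filter_ne', Finset.card_erase_of_mem (Finset.mem_univ _), Finset.card_univ, Fintype.card_fun,
      Fintype.card_fin, Nat.cast_sub (Nat.one_le_pow _ _ Fintype.card_pos)]
    simp
  have h := M.inner_P hf (x := ev F 0) (by simp)
  rw [h0, M.I.zero_right, hsum, show f (ev F 0) = 1 from if_neg (by simp), mul_one] at h
  linear_combination -h

theorem off_ne_one : M.off ≠ 1 := by
  intro h
  have h1 := M.off_eq
  rw [h] at h1
  have hc : ((qq ^ (s + 3) : ℕ) : ℂ) = ((1 : ℕ) : ℂ) := by push_cast; linear_combination h1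
  rw [Nat.cast_inj] at hc
  exact absurd hc (Nat.one_lt_pow (by omega) Fintype.one_lt_card).ne'

/-- The kernel consists of the constants. -/
theorem eq_of_lam_eq_zero {f : (Fin (s + 3) → F) → ℂ} (hf : LineFun f) (h : M.lam f = 0)
    {x y : Fin (s + 3) → F} (hx : x ≠ 0) (hy : y ≠ 0) : f x = f y := by
  have h1 := M.inner_P hf hx
  have h2 := M.inner_P hf hy
  rw [h, M.I.zero_right] at h1 h2
  refine mul_left_cancel₀ (mul_ne_zero (sub_ne_zero.2 M.off_ne_one.symm)
    (sub_ne_zero.2 (?_ : (qq : ℂ) ≠ 1))) (by linear_combination h2 - h1)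
  exact Nat.cast_ne_one.2 Fintype.one_lt_card.ne'

theorem lam_sub (f g : (Fin (s + 3) → F) → ℂ) : M.lam (fun x => f x - g x) = M.lam f - M.lam g := by
  simp only [lam, sub_smul, Finset.sum_sub_distrib]

/-- Fixed combinations come from invariant functions. -/
theorem invariant_of_fixed {f : (Fin (s + 3) → F) → ℂ} (hf : LineFun f) {g : SLg F (s + 2)}
    (h : π g (M.lam f) = M.lam f) (x : Fin (s + 3) → F) : f (ac g x) = f x := by
  classical
  have hg := lineFun_comp hf g⁻¹
  set d : (Fin (s + 3) → F) → ℂ := fun x => f (ac g⁻¹ x) - f x with hd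
  have hdl : LineFun d := ⟨by simp [hd, hg.zero, hf.zero], fun a x ha => by
    simp only [hd, hg.scale a x ha, hf.scale a x ha]⟩
  have h0 : M.lam d = 0 := by rw [hd, M.lam_sub, ← M.lam_map, h, sub_self]
  have hc : ∀ x, d x = if x = 0 then 0 else d (ev F 0) := fun x => by
    split_ifs with hx
    · rw [hx, hdl.zero]
    · exact M.eq_of_lam_eq_zero hdl h0 hx (by simp)
  have hs : ∑ x, d x = 0 := by
    rw [Finset.sum_sub_distrib, sub_eq_zero]
    exact Fintype.sum_equiv ⟨ac g⁻¹, ac g, ac_ac_inv g, ac_inv_ac g⟩ _ _ fun x => rfl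
  rw [Finset.sum_congr rfl fun x _ => hc x, Finset.sum_ite, Finset.sum_const_zero, zero_add,
    Finset.sum_const, nsmul_eq_mul] at hs
  have hz : d (ev F 0) = 0 := (mul_eq_zero.1 hs).resolve_left (Nat.cast_ne_zero.2
    (Finset.card_ne_zero.2 ⟨ev F 0, by simp⟩))
  have := hc (ac g x)
  rw [hz, ite_self] at this
  simp only [hd, ac_inv_ac] at this
  exact (sub_eq_zero.1 this).symm

end PModel

end CfsgLib.MinDeg.SLn
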