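import Cfsg.Agent.Lib.KnownB.MinDeg.SLn.PermModel

/-!
# The model on the points for a prescribed invariant form
-/

set_option autoImplicit false
set_option linter.unusedSectionVars false
set_option backward.isDefEq.respectTransparency false
set_option maxHeartbeats 1000000

open Matrix
open scoped ComplexConjugate

namespace CfsgLib.MinDeg.SLn

variable {F : Type*} [Field F] [Fintype F] [DecidableEq F]
  {V : Type*} [AddCommGroup V] [Module ℂ V] [FiniteDimensional ℂ V] {s : ℕ}
  {π : Representation ℂ (SLg F (s + 2)) V}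

local notation "qq" => Fintype.card F

theorem phi1_smul (c : ℂ) (e : V) (x : Fin (s + 3) → F) : Φ1 π (c • e) x = c • Φ1 π e x := by
  classical
  rw [Φ1, Φ1]
  split_ifs with h
  · rw [map_smul]
  · rw [smul_zero]

namespace InvForm

theorem conj_sum_left {G : Type*} [Group G] {U : Type*} [AddCommGroup U] [Module ℂ U]
    {ρ : Representation ℂ G U} (I : InvForm ρ) {ι : Type*} (t : Finset ι) (c : ι → ℂ) (f : ι → U) (v : U) :
    I.B (∑ i ∈ t, c i • f i) v = ∑ i ∈ t, conj (c i) * I.B (f i) v := by
  rw [← I.conj_symm, I.sum_right, map_sum]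
  refine Finset.sum_congr rfl fun i _ => ?_
  rw [I.smul_right, map_mul, I.conj_symm]

end InvForm

namespace PModel

/-- The model normalized for another invariant form. -/
theorem exists_withForm (M : PModel π) (J : InvForm π) : ∃ M' : PModel π, M'.I = J := by
  have he : M.e ≠ 0 := fun h => by
    have := M.unit
    rw [h, M.I.zero_left] at this
    exact zero_ne_one this
  obtain ⟨c, hc0, hc⟩ := J.exists_unit he
  refine ⟨⟨J, c • M.e, fun g hg => by rw [map_smul, M.fix g hg], hc, fun a x ha => ?_, fun v => ?_, ?_⟩, rfl⟩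
  · rw [phi1_smul, phi1_smul, M.scale a x ha]
  · obtain ⟨f, hf⟩ := M.span v
    refine ⟨fun x => c⁻¹ * f x, ?_⟩
    rw [hf]
    refine Finset.sum_congr rfl fun x _ => ?_
    rw [phi1_smul, smul_smul]
    congr 1
    field_simp
  · rw [Finset.sum_congr rfl fun x _ => phi1_smul c M.e x, ← Finset.smul_sum, M.star, smul_zero]

/-- The inner product of two combinations. -/
theorem inner_lam (M : PModel π) {f h : (Fin (s + 3) → F) → ℂ} (hf : LineFun f) (hh : LineFun h) :
    M.I.B (M.lam f) (M.lam h) = (1 - M.off) * ((qq : ℂ) - 1) * (∑ x, conj (f x) * h x) +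
      M.off * (∑ x, conj (f x)) * ∑ x, h x := by
  have e : M.off * (∑ x, conj (f x)) * (∑ x, h x) = ∑ x, conj (f x) * (M.off * ∑ y, h y) := by
    rw [← Finset.sum_mul]
    ring
  rw [show M.lam f = ∑ x, f x • M.P x from rfl, InvForm.conj_sum_left, e, Finset.mul_sum,
    ← Finset.sum_add_distrib]
  refine Finset.sum_congr rfl fun x _ => ?_
  by_cases hx : x = 0
  · rw [hx, hf.zero]
    simp
  · rw [M.inner_P hh hx]
    ring

end PModel

end CfsgLib.MinDeg.SLn
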