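import Cfsg.Agent.Lib.KnownB.MinDeg.SLn.Core

/-!
# Vectors fixed by the stabilizer of a flag
-/

set_option autoImplicit false
set_option linter.unusedSectionVars false
set_option backward.isDefEq.respectTransparency false

open Matrix

namespace CfsgLib.MinDeg.SLn

open CfsgLib.KnownA.MinIndex (T T_mulVec single_dot_single)

variable {F : Type*} [Field F] [Fintype F] [DecidableEq F]
  {V : Type*} [AddCommGroup V] [Module ℂ V] [FiniteDimensional ℂ V] {s : ℕ}
  {π : Representation ℂ (SLg F (s + 2)) V}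

theorem exists_sq_ne_one (h : 4 ≤ Fintype.card F) : ∃ a : F, a ≠ 0 ∧ a ^ 2 ≠ 1 := by
  obtain ⟨g, hg⟩ := IsCyclic.exists_generator (α := Fˣ)
  refine ⟨g, g.ne_zero, fun h2 => ?_⟩
  have h3 : g ^ 2 = 1 := Units.ext (by simpa using h2)
  have h4 := Nat.le_of_dvd (by norm_num) (orderOf_dvd_of_pow_eq_one h3)
  rw [orderOf_eq_card_of_forall_mem_zpowers hg, Nat.card_eq_fintype_card, Fintype.card_units] at h4
  omega

theorem exists_cube_ne_one (h2 : Fintype.card F ≠ 2) (h4 : Fintype.card F ≠ 4) :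
    ∃ a : F, a ≠ 0 ∧ a ^ 3 ≠ 1 := by
  obtain ⟨g, hg⟩ := IsCyclic.exists_generator (α := Fˣ)
  refine ⟨g, g.ne_zero, fun h => ?_⟩
  have h3 : g ^ 3 = 1 := Units.ext (by simpa using h)
  have h5 := (Nat.dvd_prime Nat.prime_three).1 (orderOf_dvd_of_pow_eq_one h3)
  rw [orderOf_eq_card_of_forall_mem_zpowers hg, Nat.card_eq_fintype_card, Fintype.card_units] at h5
  have := Fintype.one_lt_card (α := F)
  omega

/-- The stabilizer condition for a weight. -/
def Stab (A : GL (Fin (s + 2)) F) (y : Fin (s + 2) → F) : Prop :=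
  (A : Matrix (Fin (s + 2)) (Fin (s + 2)) F).det • ((A : Matrix (Fin (s + 2)) (Fin (s + 2)) F) *ᵥ y) = y

theorem stab_toGL {g : SLg F (s + 1)} {y : Fin (s + 2) → F} (h : ac g y = y) :
    Stab (Matrix.SpecialLinearGroup.toGL g) y := by
  show ((g : Matrix (Fin (s + 2)) (Fin (s + 2)) F)).det • ac g y = y
  rw [g.2, one_smul, h]

/-- The fixed weights are stabilized by a pair of elements with commutator `A0`. -/
theorem exists_comm_pair {y : Fin (s + 2) → F} (hy : y ≠ 0) (hy1 : y 1 = 0)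
    (hex0 : s = 0 → Fintype.card F ≠ 2 ∧ Fintype.card F ≠ 4)
    (hex1 : s = 1 → Fintype.card F ≠ 2 ∧ Fintype.card F ≠ 3) :
    ∃ h r : GL (Fin (s + 2)) F, Stab h y ∧ Stab r y ∧ h * r = A0 F s * r * h := by
  classical
  have pairA : ∀ (φ b : Fin (s + 2) → F), φ 0 = 0 → φ ⬝ᵥ y = 0 → φ ⬝ᵥ b = 1 → b 1 = 0 →
      ∃ h r : GL (Fin (s + 2)) F, Stab h y ∧ Stab r y ∧ h * r = A0 F s * r * h := by
    intro φ b h0 hφy hφb hb1
    have hφe : φ ⬝ᵥ ev F 0 = 0 := by simp [h0]
    have hψb : ev F (1 : Fin (s + 2)) ⬝ᵥ b = 0 := by simp [hb1]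
    let h : SLg F (s + 1) := T (ev F 0) φ
    let r : SLg F (s + 1) := T b (ev F 1)
    have hh : ∀ z, ac h z = z + (φ ⬝ᵥ z) • ev F 0 := fun z => T_mulVec hφe z
    have hr : ∀ z, ac r z = z + z 1 • b := fun z => by
      rw [show ac r z = z + (ev F (1 : Fin (s + 2)) ⬝ᵥ z) • b from T_mulVec hψb z]
      simp
    refine ⟨Matrix.SpecialLinearGroup.toGL h, Matrix.SpecialLinearGroup.toGL r,
      stab_toGL (by rw [hh, hφy, zero_smul, add_zero]), stab_toGL (by rw [hr, hy1, zero_smul, add_zero]), ?_⟩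
    rw [A0, ← map_mul, ← map_mul, ← map_mul]
    congr 1
    refine sl_ext_ac fun i => ?_
    generalize ev F i = z
    simp only [ac_mul, u_ac, hh, hr]
    funext k
    simp only [Pi.add_apply, Pi.smul_apply, smul_eq_mul, dotProduct_add, dotProduct_smul, hφb, hb1,
      Fin.tail]
    simp [hb1, Fin.tail]
    ring
  by_cases hs : s = 0
  · subst hs
    obtain ⟨c, hc0, hc3⟩ := exists_cube_ne_one (hex0 rfl).1 (hex0 rfl).2
    let H : Matrix (Fin 2) (Fin 2) F := Matrix.diagonal ![c, (c * c)⁻¹]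
    have hHd : H.det = c⁻¹ := by
      simp only [H, Matrix.det_diagonal, Fin.prod_univ_two, Matrix.cons_val_zero, Matrix.cons_val_one]
      field_simp
    have hHd0 : H.det ≠ 0 := by rw [hHd]; exact inv_ne_zero hc0
    set μ : F := (c ^ 3 - 1)⁻¹ with hμ
    have hre : ev F (1 : Fin 2) ⬝ᵥ (μ • ev F 0) = 0 := by simp
    let r : SLg F 1 := T (μ • ev F 0) (ev F 1)
    have hr : ∀ z, ac r z = z + z 1 • μ • ev F 0 := fun z => by
      rw [show ac r z = z + (ev F (1 : Fin 2) ⬝ᵥ z) • μ • ev F 0 from T_mulVec hre z]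
      simp
    have hHy : ∀ z : Fin 2 → F, H *ᵥ z = ![c * z 0, (c * c)⁻¹ * z 1] := fun z => by
      funext k; fin_cases k <;> simp [H, Matrix.mulVec_diagonal]
    refine ⟨Matrix.GeneralLinearGroup.mkOfDetNeZero H hHd0, Matrix.SpecialLinearGroup.toGL r, ?_,
      stab_toGL (by rw [hr, hy1, zero_smul, add_zero]), ?_⟩
    · show H.det • (H *ᵥ y) = y
      rw [hHd, hHy]
      funext k
      fin_cases k <;> simp [hy1, hc0]
    · refine Units.ext (Matrix.ext_of_mulVec_single fun i => ?_)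
      simp only [Units.val_mul, ← Matrix.mulVec_mulVec]
      generalize Pi.single (M := fun _ : Fin 2 => F) i 1 = z
      show H *ᵥ ac r z = ((A0 F 0 : GL (Fin 2) F) : Matrix (Fin 2) (Fin 2) F) *ᵥ ac r (H *ᵥ z)
      rw [A0_mulVec, hr, hr, hHy, hHy]
      have hμ1 : μ * (c ^ 3 - 1) = 1 := inv_mul_cancel₀ (sub_ne_zero.2 hc3)
      have key : c * μ = (μ + 1) * (c * c)⁻¹ := by
        rw [eq_mul_inv_iff_mul_eq₀ (mul_ne_zero hc0 hc0)]
        linear_combination hμ1
      funext k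
      fin_cases k
      · simp [Matrix.vecHead, Matrix.vecTail]
        linear_combination z 1 * key
      · simp [Matrix.vecHead, Matrix.vecTail]
  have h2 : ∃ i2 : Fin (s + 2), i2.val = 2 := ⟨⟨2, by omega⟩, rfl⟩
  obtain ⟨i2, hi2⟩ := h2
  have hi20 : i2 ≠ 0 := fun h => by simp [h] at hi2
  have hi21 : i2 ≠ 1 := fun h => by simp [h] at hi2
  by_cases hy2 : y i2 = 0
  · exact pairA (ev F i2) (ev F i2) (by simp [hi20.symm]) (by simp [hy2]) (by simp) (by simp [hi21.symm])
  by_cases hs1 : s = 1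
  · subst hs1
    obtain ⟨a, ha0, ha2⟩ := exists_sq_ne_one (F := F) (by
      have := Fintype.one_lt_card (α := F)
      have := (hex1 rfl).1
      have := (hex1 rfl).2
      omega)
    obtain rfl : i2 = 2 := Fin.ext hi2
    set x : F := (y 0 - a * y 0) / y 2 with hx
    let H : Matrix (Fin 3) (Fin 3) F := !![a, 0, x; 0, a⁻¹, 0; 0, 0, 1]
    have hHd : H.det = 1 := by simp [H, Matrix.det_fin_three, ha0]
    let h : SLg F 2 := ⟨H, hHd⟩
    have hh : ∀ z, ac h z = ![a * z 0 + x * z 2, a⁻¹ * z 1, z 2] := fun z => by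
      funext k
      fin_cases k <;> simp [ac, h, H, Matrix.mulVec, dotProduct, Fin.sum_univ_three]
    set μ : F := (a ^ 2 - 1)⁻¹ with hμ
    have hre : ev F (1 : Fin 3) ⬝ᵥ (μ • ev F 0) = 0 := by simp
    let r : SLg F 2 := T (μ • ev F 0) (ev F 1)
    have hr : ∀ z, ac r z = z + z 1 • μ • ev F 0 := fun z => by
      rw [show ac r z = z + (ev F (1 : Fin 3) ⬝ᵥ z) • μ • ev F 0 from T_mulVec hre z]
      simp
    have hhy : ac h y = y := by
      rw [hh]
      funext k
      fin_cases k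
      · simp [hx, div_mul_cancel₀ _ hy2]
      · simp [hy1]
      · simp
    refine ⟨Matrix.SpecialLinearGroup.toGL h, Matrix.SpecialLinearGroup.toGL r, stab_toGL hhy,
      stab_toGL (by rw [hr, hy1, zero_smul, add_zero]), ?_⟩
    rw [A0, ← map_mul, ← map_mul, ← map_mul]
    congr 1
    refine sl_ext_ac fun i => ?_
    generalize ev F i = z
    simp only [ac_mul, u_ac, hr, hh]
    have hμ1 : μ * (a ^ 2 - 1) = 1 := inv_mul_cancel₀ (sub_ne_zero.2 ha2)
    have key : a * μ = (μ + 1) * a⁻¹ := by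
      rw [eq_mul_inv_iff_mul_eq₀ ha0]
      linear_combination hμ1
    funext k
    fin_cases k
    · simp [Fin.tail, Matrix.vecHead, Matrix.vecTail]
      linear_combination z 1 * key
    · simp [Fin.tail, Matrix.vecHead, Matrix.vecTail]
    · simp [Fin.tail, Matrix.vecHead, Matrix.vecTail]
  have h3 : ∃ i3 : Fin (s + 2), i3.val = 3 := ⟨⟨3, by omega⟩, rfl⟩
  obtain ⟨i3, hi3⟩ := h3
  have hi30 : i3 ≠ 0 := fun h => by simp [h] at hi3
  have hi31 : i3 ≠ 1 := fun h => by simp [h] at hi3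
  have hi32 : i3 ≠ i2 := fun h => by simp [h, hi2] at hi3
  exact pairA (y i3 • ev F i2 - y i2 • ev F i3) ((-(y i2)⁻¹) • ev F i3)
    (by simp [hi20.symm, hi30.symm]) (by simp [sub_dotProduct]; ring)
    (by simp [sub_dotProduct, hi32, hy2])
    (by simp [hi31.symm])

/-- The fixed space of the radical is non-zero. -/
theorem fixQ_ne_bot [Nontrivial V] (hle : DimLe π)
    (hex0 : s = 0 → Fintype.card F ≠ 2 ∧ Fintype.card F ≠ 4)
    (hex1 : s = 1 → Fintype.card F ≠ 2 ∧ Fintype.card F ≠ 3) : fixQ π ≠ ⊥ := by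
  classical
  intro hbot
  obtain ⟨ψ₀, hψ⟩ := exists_char (F := F)
  obtain ⟨d, hd⟩ := exists_uniform π (MonoidHom.id _) (sl_transitive (by omega) π)
  obtain ⟨d', hd'⟩ := exists_uniform (sig π) Matrix.SpecialLinearGroup.toGL (gl_transitive (by omega) (sig π))
  have hsub : Subsingleton (fixQ π) := Submodule.subsingleton_iff_eq_bot.2 hbot
  have hne1 : (ev F (0 : Fin (s + 1))) ≠ 0 := by simp
  have hd'0 : d' = 0 := by
    rw [← hd' (ch ψ₀ (ev F 0)) fun h => hne1 ((ch_bijective hψ).1 (h.trans (ch_zero ψ₀).symm))]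
    exact Module.finrank_zero_of_subsingleton
  obtain ⟨v, hv⟩ := exists_ne (0 : V)
  obtain ⟨χ₀, hχ₀, hne⟩ : ∃ χ : AddChar (Fin (s + 2) → F) ℂ, χ ≠ 0 ∧ weightSpace π u χ ≠ ⊥ := by
    by_contra hall
    push Not at hall
    apply hv
    rw [← sum_proj (ρ := π) (u := u) (u_add (F := F) (r := s + 2)) v]
    refine Finset.sum_eq_zero fun χ _ => ?_
    have hm := proj_mem (ρ := π) (u := u) (u_add (F := F) (r := s + 2)) χ v
    by_cases h0 : χ = 0
    · subst h0
      rw [show weightSpace π u (0 : AddChar (Fin (s + 2) → F) ℂ) = ⊥ from hbot] at hm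
      exact (Submodule.mem_bot ℂ).1 hm
    · rw [hall χ h0] at hm
      exact (Submodule.mem_bot ℂ).1 hm
  have hd1 : d = 1 := by
    refine le_antisymm ((hd χ₀ hχ₀) ▸ hle χ₀ hχ₀) (Nat.one_le_iff_ne_zero.2 fun h => hne ?_)
    exact Submodule.finrank_eq_zero.1 ((hd χ₀ hχ₀).trans h)
  have hτ : ∀ y ∈ fixed0 F s,
      LinearMap.trace ℂ V (π (lev (A0 F s)) * proj π u (ch ψ₀ y)) = 1 := by
    intro y hy
    simp only [fixed0, Finset.mem_filter] at hy
    obtain ⟨h, r, hh, hr, hcomm⟩ := exists_comm_pair hy.2.1 hy.2.2 hex0 hex1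
    have hT : ∀ v ∈ weightSpace π u (ch ψ₀ y), π (lev (A0 F s)) v ∈ weightSpace π u (ch ψ₀ y) :=
      fun v hv => mem_map_ch (by rw [A0_det, one_smul, A0_mulVec, hy.2.2, zero_smul, add_zero]) hv
    have hne' : ch ψ₀ y ≠ 0 := fun h0 => hy.2.1 ((ch_bijective hψ).1 (h0.trans (ch_zero ψ₀).symm))
    have hrk : Module.finrank ℂ (weightSpace π u (ch ψ₀ y)) = 1 := (hd _ hne').trans hd1
    rw [trace_mul_proj u_add _ _ hT]
    obtain ⟨⟨w, hw⟩, hw0, hall⟩ := finrank_eq_one_iff'.1 hrk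
    have hw0' : w ≠ 0 := fun h0 => hw0 (Subtype.ext h0)
    have hscal : ∀ A : GL (Fin (s + 2)) F, Stab A y → ∃ c : ℂ, c ≠ 0 ∧ π (lev A) w = c • w := by
      intro A hA
      obtain ⟨c, hc⟩ := hall ⟨_, mem_map_ch hA hw⟩
      have hc' : c • w = π (lev A) w := congrArg Subtype.val hc
      refine ⟨c, fun h0 => hw0' ?_, hc'.symm⟩
      have h1 := congrArg (π (lev A)⁻¹) hc'
      rwa [h0, zero_smul, map_zero, ← Module.End.mul_apply, ← map_mul, inv_mul_cancel, map_one,
        Module.End.one_apply, eq_comm] at h1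
    obtain ⟨α, hα0, hα⟩ := hscal h hh
    obtain ⟨β, hβ0, hβ⟩ := hscal r hr
    obtain ⟨l, hl⟩ := hall ⟨_, hT w hw⟩
    have hl' : l • w = π (lev (A0 F s)) w := congrArg Subtype.val hl
    have h1 := congrArg (fun g => π (lev g) w) hcomm
    simp only [map_mul, Module.End.mul_apply, hα, hβ, map_smul, ← hl', smul_smul] at h1
    have h2 : (α * β) * (1 - l) = 0 := by
      have h3 : (β * α - α * β * l) • w = 0 := by rw [sub_smul, h1, mul_assoc, sub_self]
      linear_combination (smul_eq_zero.1 h3).resolve_right hw0'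
    have hl1 : l = 1 := by
      have := (mul_eq_zero.1 h2).resolve_left (mul_ne_zero hα0 hβ0)
      linear_combination -this
    rw [show (π (lev (A0 F s))).restrict hT = 1 from LinearMap.ext fun z => by
      obtain ⟨a, rfl⟩ := hall z
      refine Subtype.ext ?_
      show π (lev (A0 F s)) (a • w) = a • w
      rw [map_smul, ← hl', hl1, one_smul], LinearMap.trace_one, hrk, Nat.cast_one]
  have h := trace_identity (π := π) hψ hd hd'
  rw [Finset.sum_congr rfl hτ, hd'0, hd1, Finset.sum_const, nsmul_eq_mul, mul_one, Nat.cast_zero,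
    zero_mul] at h
  have h' : (((1 + (fixed0 F s).card : ℕ)) : ℂ) = 0 := by push_cast at h ⊢; exact h.symm
  rw [Nat.cast_eq_zero] at h'
  omega

theorem sig_noProper (hle : DimLe π) (hno : ∀ v, MFix π v → v = 0) : NoProper (sig π) := by
  refine noProper_of_weights (by omega) (sig π) Matrix.SpecialLinearGroup.toGL (dimLe_sig hle)
    (gl_transitive (by omega) (sig π)) fun v hv => Subtype.ext (hno _ (mfix_of v.2 fun A hA => ?_))
  have := congrArg Subtype.val (hv ⟨(A : Matrix (Fin (s + 2)) (Fin (s + 2)) F), hA⟩)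
  rw [sig_coe] at this
  rwa [show Matrix.SpecialLinearGroup.toGL (⟨(A : Matrix (Fin (s + 2)) (Fin (s + 2)) F), hA⟩ :
    SLg F (s + 1)) = A from Units.ext rfl] at this

/-- A unit vector fixed by the stabilizer of a flag and eigen for the torus. -/
structure Flag (π : Representation ℂ (SLg F (s + 2)) V) (I : InvForm π) where
  e : V
  φ : Fˣ →* ℂ
  ψ : Fˣ →* ℂ
  unit : I.B e e = 1
  fix : ∀ (g : SLg F (s + 2)) (x : F), ac g (ev F 0) = ev F 0 →
    ac g (ev F 1) = ev F 1 + x • ev F 0 → π g e = e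
  tor_e : ∀ a b, π (tor a b) e = (φ a * ψ b) • e

theorem exists_flag (I : InvForm π)
    (hM : ∃ v, v ≠ 0 ∧ MFix ((sig π).comp Matrix.SpecialLinearGroup.toGL) v) :
    Nonempty (Flag π I) := by
  classical
  obtain ⟨v₀, hv₀, hMv⟩ := hM
  let E : Submodule ℂ V :=
    { carrier := {v | ∀ (g : SLg F (s + 2)) (x : F), ac g (ev F 0) = ev F 0 →
        ac g (ev F 1) = ev F 1 + x • ev F 0 → π g v = v}
      add_mem' := fun {v w} hv hw g x h0 h1 => by rw [map_add, hv g x h0 h1, hw g x h0 h1]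
      zero_mem' := fun g x _ _ => map_zero _
      smul_mem' := fun c v hv g x h0 h1 => by rw [map_smul, hv g x h0 h1] }
  have hv₀E : (v₀ : V) ∈ E := by
    intro g x h0 h1
    obtain ⟨a, A, rfl, hc⟩ := exists_decomp (c := (1 : F)) (by rw [one_smul]; exact h0)
    have hdet : (A : Matrix (Fin (s + 2)) (Fin (s + 2)) F).det = 1 := inv_eq_one.1 hc.symm
    have ht1 : Fin.tail (ev F (1 : Fin (s + 3))) = ev F (0 : Fin (s + 2)) := by
      funext i
      simp only [Fin.tail, Pi.single_apply]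
      exact if_congr (by rw [← Fin.succ_zero_eq_one', Fin.succ_inj]) rfl rfl
    have hA : (A : Matrix (Fin (s + 2)) (Fin (s + 2)) F) *ᵥ ev F 0 = ev F 0 := by
      have h2 := congrArg Fin.tail h1
      have tl : ∀ (z : Fin (s + 3) → F) (c : F), Fin.tail (z + c • ev F 0) = Fin.tail z := fun z c => by
        funext i
        simp [Fin.tail]
      rw [ac_mul, u_ac, tl, tl, lev_ac, Fin.tail_cons, ht1] at h2
      exact h2
    have h4 := congrArg Subtype.val (hMv ⟨(A : Matrix (Fin (s + 2)) (Fin (s + 2)) F), hdet⟩ hA)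
    change π (lev (Matrix.SpecialLinearGroup.toGL (⟨(A : Matrix (Fin (s + 2)) (Fin (s + 2)) F), hdet⟩ :
      SLg F (s + 1)))) (v₀ : V) = v₀ at h4
    rw [show Matrix.SpecialLinearGroup.toGL (⟨(A : Matrix (Fin (s + 2)) (Fin (s + 2)) F), hdet⟩ :
      SLg F (s + 1)) = A from Units.ext rfl] at h4
    rw [map_mul, Module.End.mul_apply, h4, mem_fixQ.1 v₀.2 a]
  obtain ⟨h01, h02, h12⟩ := idx_ne (s := s)
  have hstab : ∀ (a b : Fˣ), ∀ v ∈ E, π (tor a b) v ∈ E := by
    intro a b v hv g x h0 h1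
    have e0 : ac (tor (s := s) a b) (ev F 0) = (a : F) • ev F 0 := by
      rw [tor_ac_ev]; simp [torDiag]
    have e1 : ac (tor (s := s) a b) (ev F 1) = (b : F) • ev F 1 := by
      rw [tor_ac_ev]; simp [torDiag, h01.symm]
    have i0 : ac (tor (s := s) a b)⁻¹ (ev F 0) = (a : F)⁻¹ • ev F 0 := by
      apply ac_inj (tor (s := s) a b)
      rw [ac_ac_inv, ac_smul, e0, smul_smul, inv_mul_cancel₀ a.ne_zero, one_smul]
    have i1 : ac (tor (s := s) a b)⁻¹ (ev F 1) = (b : F)⁻¹ • ev F 1 := by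
      apply ac_inj (tor (s := s) a b)
      rw [ac_ac_inv, ac_smul, e1, smul_smul, inv_mul_cancel₀ b.ne_zero, one_smul]
    have := hv ((tor a b)⁻¹ * g * tor a b) ((b : F) * x * (a : F)⁻¹)
      (by rw [ac_mul, ac_mul, e0, ac_smul, h0, ac_smul, i0, smul_smul, mul_inv_cancel₀ a.ne_zero, one_smul])
      (by rw [ac_mul, ac_mul, e1, ac_smul, h1, ac_smul, ac_add, ac_smul, i0, i1, smul_add, smul_smul,
        smul_smul, smul_smul, mul_inv_cancel₀ b.ne_zero, one_smul, mul_assoc])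
    conv_rhs => rw [← this]
    rw [← Module.End.mul_apply, ← Module.End.mul_apply, ← map_mul, ← map_mul, mul_assoc (tor a b)⁻¹,
      mul_inv_cancel_left]
  let ut : Additive (Fˣ × Fˣ) → SLg F (s + 2) := fun p => tor p.toMul.1 p.toMul.2
  have hut : ∀ p p', ut (p + p') = ut p * ut p' := fun p p' => tor_mul _ _ _ _
  obtain ⟨χ, hχ⟩ : ∃ χ : AddChar (Additive (Fˣ × Fˣ)) ℂ, proj π ut χ (v₀ : V) ≠ 0 := by
    by_contra hall
    push Not at hall
    apply hv₀
    refine Subtype.ext ?_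
    rw [← sum_proj (ρ := π) (u := ut) hut (v₀ : V), Finset.sum_eq_zero fun χ _ => hall χ]
    rfl
  have hmemE : proj π ut χ (v₀ : V) ∈ E := by
    rw [proj_apply]
    exact E.smul_mem _ (Submodule.sum_mem _ fun p _ => E.smul_mem _ (hstab _ _ _ hv₀E))
  obtain ⟨c, hc0, hc⟩ := I.exists_unit hχ
  refine ⟨{
    e := c • proj π ut χ (v₀ : V)
    φ :=
      { toFun := fun a => χ (Additive.ofMul (a, 1))
        map_one' := AddChar.map_zero_eq_one χ
        map_mul' := fun a b => by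
          rw [← AddChar.map_add_eq_mul, ← ofMul_mul, Prod.mk_mul_mk, one_mul] }
    ψ :=
      { toFun := fun b => χ (Additive.ofMul (1, b))
        map_one' := AddChar.map_zero_eq_one χ
        map_mul' := fun a b => by
          rw [← AddChar.map_add_eq_mul, ← ofMul_mul, Prod.mk_mul_mk, one_mul] }
    unit := hc
    fix := E.smul_mem c hmemE
    tor_e := fun a b => ?_ }⟩
  have h := proj_mem (ρ := π) (u := ut) hut χ (v₀ : V) (Additive.ofMul (a, b))
  show π (tor a b) _ = (χ (Additive.ofMul (a, 1)) * χ (Additive.ofMul (1, b))) • _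
  rw [← AddChar.map_add_eq_mul, ← ofMul_mul, Prod.mk_mul_mk, mul_one, one_mul, map_smul, smul_comm]
  congr 1

end CfsgLib.MinDeg.SLn
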