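import Cfsg.Agent.Lib.KnownB.MinDeg.SLn.Geometry

/-!
# The fixed space of the radical: weights of multiplicity one pass to the Levi complement
-/

set_option autoImplicit false
set_option linter.unusedSectionVars false
set_option backward.isDefEq.respectTransparency false

open Matrix

namespace CfsgLib.MinDeg.SLn

variable {F : Type*} [Field F] [Fintype F] [DecidableEq F]
  {V : Type*} [AddCommGroup V] [Module ℂ V]

/-- Fixed by the stabilizer of the first standard vector. -/
def MFix {r : ℕ} (π : Representation ℂ (SLg F r) V) (v : V) : Prop :=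
  ∀ g : SLg F r, ac g (ev F 0) = ev F 0 → π g v = v

/-- The fixed space of the radical. -/
noncomputable abbrev fixQ {r : ℕ} (π : Representation ℂ (SLg F r) V) : Submodule ℂ V :=
  weightSpace π u (0 : AddChar (Fin r → F) ℂ)

theorem mem_fixQ {r : ℕ} {π : Representation ℂ (SLg F r) V} {v : V} :
    v ∈ fixQ π ↔ ∀ a, π (u a) v = v := by
  simp [fixQ, mem_weightSpace]

/-- All non-trivial weights have multiplicity at most one. -/
def DimLe {r : ℕ} (π : Representation ℂ (SLg F r) V) : Prop :=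
  ∀ χ : AddChar (Fin r → F) ℂ, χ ≠ 0 → Module.finrank ℂ (weightSpace π u χ) ≤ 1

theorem exists_char : ∃ ψ : AddChar F ℂ, ψ ≠ 0 := by
  obtain ⟨ψ, hψ⟩ := AddChar.exists_apply_ne_zero.2 (one_ne_zero (α := F))
  exact ⟨ψ, fun h => hψ (by simp [h])⟩

theorem mfix_of {r : ℕ} {π : Representation ℂ (SLg F r) V} {v : V} (hQ : v ∈ fixQ π)
    (h : ∀ A : GL (Fin r) F, (A : Matrix (Fin r) (Fin r) F).det = 1 → π (lev A) v = v) : MFix π v := by
  intro g hg
  obtain ⟨a, A, rfl, hc⟩ := exists_decomp (c := (1 : F)) (by rw [one_smul]; exact hg)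
  rw [map_mul, Module.End.mul_apply, h A (inv_eq_one.1 hc.symm), mem_fixQ.1 hQ a]

/-- A representation with weights of multiplicity one and no fixed vectors has no proper invariant
subspaces. -/
theorem noProper_of_weights {r : ℕ} (hr : 1 ≤ r) {G : Type*} [Group G] (ρ : Representation ℂ G V)
    [FiniteDimensional ℂ V] (j : SLg F r →* G)
    (hd : DimLe (ρ.comp j))
    (htr : ∀ χ χ' : AddChar (Fin r → F) ℂ, χ ≠ 0 → χ' ≠ 0 →
      ∃ l : G, ∀ v ∈ weightSpace (ρ.comp j) u χ, ρ l v ∈ weightSpace (ρ.comp j) u χ')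
    (hfix : ∀ v, (∀ g, ρ (j g) v = v) → v = 0) : NoProper ρ := by
  classical
  intro W hW
  set π := ρ.comp j with hπ
  have hWπ : ∀ g, ∀ v ∈ W, π g v ∈ W := fun g => hW (j g)
  have hproj : ∀ χ, ∀ v ∈ W, proj π u χ v ∈ W := fun χ v hv => by
    rw [proj_apply]
    exact W.smul_mem _ (Submodule.sum_mem _ fun b _ => W.smul_mem _ (hWπ _ v hv))
  by_cases hcase : ∃ χ : AddChar (Fin r → F) ℂ, χ ≠ 0 ∧ ∃ v ∈ W, proj π u χ v ≠ 0
  · right
    obtain ⟨χ, hχ, v, hv, hne⟩ := hcase
    have hall : ∀ χ' : AddChar (Fin r → F) ℂ, χ' ≠ 0 → weightSpace π u χ' ≤ W := by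
      intro χ' hχ'
      obtain ⟨l, hl⟩ := htr χ χ' hχ hχ'
      have hw : ρ l (proj π u χ v) ∈ weightSpace π u χ' := hl _ (proj_mem u_add χ v)
      have hw0 : ρ l (proj π u χ v) ≠ 0 := fun h0 => hne (by
        have := congrArg (ρ l⁻¹) h0
        rwa [← Module.End.mul_apply, ← map_mul, inv_mul_cancel, map_one, Module.End.one_apply,
          map_zero] at this)
      intro w hw'
      obtain ⟨⟨z, hz⟩, hz0, hzall⟩ := finrank_eq_one_iff'.1 (le_antisymm (hd χ' hχ')
        (Nat.one_le_iff_ne_zero.2 fun h0 => hw0 (by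
          have : Subsingleton (weightSpace π u χ') := Module.finrank_zero_iff.1 h0
          exact congrArg Subtype.val (Subsingleton.elim (⟨_, hw⟩ : weightSpace π u χ') 0))))
      obtain ⟨a, ha⟩ := hzall ⟨_, hw⟩
      obtain ⟨b, hb⟩ := hzall ⟨w, hw'⟩
      have ha' : a • z = ρ l (proj π u χ v) := congrArg Subtype.val ha
      have hb' : b • z = w := congrArg Subtype.val hb
      have hzW : z ∈ W := by
        have h1 : ρ l (proj π u χ v) ∈ W := hW l _ (hproj χ v hv)
        rw [← ha'] at h1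
        have h2 := W.smul_mem a⁻¹ h1
        rwa [inv_smul_smul₀ (fun h0 => hw0 (by rw [← ha', h0, zero_smul]))] at h2
      rw [← hb']
      exact W.smul_mem b hzW
    have hu : ∀ a v, π (u a) v - v ∈ W := by
      intro a x
      have hsum := sum_proj (ρ := π) (u := u) (u_add (F := F) (r := r)) x
      rw [show π (u a) x - x = ∑ χ', (π (u a) (proj π u χ' x) - proj π u χ' x) by
        rw [Finset.sum_sub_distrib, ← map_sum, hsum]]
      refine Submodule.sum_mem _ fun χ' _ => ?_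
      rw [mem_weightSpace.1 (proj_mem u_add χ' x) a]
      by_cases h0 : χ' = 0
      · simp [h0]
      · exact W.sub_mem (W.smul_mem _ (hall χ' h0 (proj_mem u_add χ' x)))
          (hall χ' h0 (proj_mem u_add χ' x))
    let K : Subgroup (SLg F r) :=
      { carrier := {g | ∀ x, π g x - x ∈ W}
        one_mem' := fun x => by simp
        mul_mem' := fun {g h} hg hh x => by
          have := W.add_mem (hg (π h x)) (hh x)
          rwa [sub_add_sub_cancel, ← Module.End.mul_apply, ← map_mul] at this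
        inv_mem' := fun {g} hg x => by
          have := W.neg_mem (hg (π g⁻¹ x))
          rwa [← Module.End.mul_apply, ← map_mul, mul_inv_cancel, map_one, Module.End.one_apply,
            neg_sub] at this }
    have hK : K = ⊤ := eq_top_of_conj_u hr K fun g a x => by
      have h1 := hWπ g _ (hu a (π g⁻¹ x))
      rwa [map_sub, ← Module.End.mul_apply, ← Module.End.mul_apply, ← map_mul, ← Module.End.mul_apply,
        ← map_mul, ← map_mul, mul_inv_cancel, map_one, Module.End.one_apply] at h1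
    refine eq_top_iff.2 fun x _ => ?_
    have hsum : ∑ g, π g x = 0 := hfix _ fun k => by
      show π k _ = _
      rw [map_sum]
      refine Fintype.sum_equiv (Equiv.mulLeft k) _ _ fun g => ?_
      rw [Equiv.coe_mulLeft, map_mul, Module.End.mul_apply]
    have h1 : ∑ g : SLg F r, (π g x - x) ∈ W :=
      Submodule.sum_mem _ fun g _ => (hK ▸ Subgroup.mem_top g : g ∈ K) x
    rw [Finset.sum_sub_distrib, hsum, zero_sub, Finset.sum_const, ← Nat.cast_smul_eq_nsmul ℂ] at h1
    have h2 := W.smul_mem ((Finset.univ : Finset (SLg F r)).card : ℂ)⁻¹ (W.neg_mem h1)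
    rwa [neg_neg, inv_smul_smul₀ (by simp [Fintype.card_ne_zero])] at h2
  · left
    push Not at hcase
    refine (Submodule.eq_bot_iff W).2 fun v hv => hfix v fun g => ?_
    let K : Subgroup (SLg F r) :=
      { carrier := {g | ∀ x ∈ W, π g x = x}
        one_mem' := fun x _ => by simp
        mul_mem' := fun {g h} hg hh x hx => by
          rw [map_mul, Module.End.mul_apply, hh x hx, hg x hx]
        inv_mem' := fun {g} hg x hx => by
          conv_lhs => rw [← hg x hx]
          rw [← Module.End.mul_apply, ← map_mul, inv_mul_cancel, map_one, Module.End.one_apply] }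
    have hK : K = ⊤ := eq_top_of_conj_u hr K fun g a x hx => by
      have hy := hWπ g⁻¹ x hx
      have hfixu : π (u a) (π g⁻¹ x) = π g⁻¹ x := by
        have h0 : π g⁻¹ x ∈ fixQ π := by
          rw [← sum_proj (ρ := π) (u := u) (u_add (F := F) (r := r)) (π g⁻¹ x)]
          rw [Finset.sum_eq_single (0 : AddChar (Fin r → F) ℂ) (fun χ _ hχ => hcase χ hχ _ hy) (by simp)]
          exact proj_mem u_add 0 _
        exact mem_fixQ.1 h0 a
      rw [map_mul, map_mul, Module.End.mul_apply, Module.End.mul_apply, hfixu,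
        ← Module.End.mul_apply, ← map_mul, mul_inv_cancel, map_one, Module.End.one_apply]
    exact (hK ▸ Subgroup.mem_top g : g ∈ K) v hv

/-- `SL` is transitive on the non-trivial weights. -/
theorem sl_transitive {r : ℕ} (hr : 2 ≤ r) (π : Representation ℂ (SLg F r) V)
    (χ χ' : AddChar (Fin r → F) ℂ) (h : χ ≠ 0) (h' : χ' ≠ 0) :
    ∃ l, ∀ v ∈ weightSpace π u χ, π l v ∈ weightSpace π u χ' := by
  obtain ⟨t, rfl⟩ : ∃ t, r = t + 1 := ⟨r - 1, by omega⟩
  obtain ⟨ψ₀, hψ⟩ := exists_char (F := F)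
  obtain ⟨y, rfl⟩ := (ch_bijective hψ).2 χ
  obtain ⟨y', rfl⟩ := (ch_bijective hψ).2 χ'
  obtain ⟨g, hg⟩ := exists_sl_map_one (F := F) (r := t) (by omega) (x := y) (fun h0 => h (by rw [h0, ch_zero]))
  obtain ⟨g', hg'⟩ := exists_sl_map_one (F := F) (r := t) (by omega) (x := y') (fun h0 => h' (by rw [h0, ch_zero]))
  set A : GL (Fin (t + 1)) F := Matrix.SpecialLinearGroup.toGL (g' * g⁻¹) with hA
  have hmat : (A : Matrix (Fin (t + 1)) (Fin (t + 1)) F) =
      ((g' * g⁻¹ : SLg F t) : Matrix (Fin (t + 1)) (Fin (t + 1)) F) := rfl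
  have key : (A : Matrix (Fin (t + 1)) (Fin (t + 1)) F).det •
      ((A : Matrix (Fin (t + 1)) (Fin (t + 1)) F) *ᵥ y) = y' := by
    rw [hmat, Matrix.SpecialLinearGroup.det_coe, one_smul]
    show ac (g' * g⁻¹) y = y'
    rw [← hg, ac_mul, ac_inv_ac, hg']
  refine ⟨lev A, fun v hv => mem_weightSpace_map (ρ := π) (u := u) (levConj A) (lev_u A) (fun a => ?_) hv⟩
  rw [← key]
  exact levConj_ch (ψ₀ := ψ₀) A y a

/-- Diagonal elements at the first coordinate. -/
noncomputable def dg {r : ℕ} (a : Fˣ) : GL (Fin (r + 1)) F :=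
  Matrix.GeneralLinearGroup.mkOfDetNeZero (Matrix.diagonal (Function.update (fun _ => (1 : F)) 0 (a : F)))
    (by rw [Matrix.det_diagonal, Finset.prod_update_of_mem (Finset.mem_univ _)]; simp)

theorem dg_coe {r : ℕ} (a : Fˣ) : ((dg a : GL (Fin (r + 1)) F) : Matrix (Fin (r + 1)) (Fin (r + 1)) F) =
    Matrix.diagonal (Function.update (fun _ => (1 : F)) 0 (a : F)) := rfl

theorem dg_mulVec {r : ℕ} (a : Fˣ) (z : Fin (r + 1) → F) :
    ((dg a : GL (Fin (r + 1)) F) : Matrix (Fin (r + 1)) (Fin (r + 1)) F) *ᵥ z =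
      Fin.cons ((a : F) * z 0) (Fin.tail z) := by
  funext i
  rw [dg_coe, Matrix.mulVec_diagonal]
  refine Fin.cases ?_ ?_ i <;> simp [Fin.tail, Fin.succ_ne_zero]

theorem dg_u {r : ℕ} (a : Fˣ) (v : Fin r → F) :
    dg a * Matrix.SpecialLinearGroup.toGL (u v) =
      Matrix.SpecialLinearGroup.toGL (u ((a : F) • v)) * dg a := by
  refine Units.ext (Matrix.ext_of_mulVec_single fun i => ?_)
  simp only [Units.val_mul, ← Matrix.mulVec_mulVec]
  show ((dg a : GL (Fin (r + 1)) F) : Matrix (Fin (r + 1)) (Fin (r + 1)) F) *ᵥ ac (u v) (ev F i) =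
    ac (u ((a : F) • v)) (((dg a : GL (Fin (r + 1)) F) : Matrix (Fin (r + 1)) (Fin (r + 1)) F) *ᵥ ev F i)
  rw [dg_mulVec, dg_mulVec, u_ac, u_ac]
  funext k
  refine Fin.cases ?_ ?_ k
  · simp [Fin.tail, smul_dotProduct]
    ring
  · intro k
    simp [Fin.tail, Fin.succ_ne_zero]

/-- Scaling of the radical. -/
def smulEquiv {r : ℕ} (a : Fˣ) : (Fin r → F) ≃+ (Fin r → F) where
  toFun v := (a : F) • v
  invFun v := (↑a⁻¹ : F) • v
  left_inv v := by simp [smul_smul]
  right_inv v := by simp [smul_smul]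
  map_add' v w := smul_add _ _ _

/-- `GL` is transitive on the non-trivial weights. -/
theorem gl_transitive {r : ℕ} (hr : 1 ≤ r) (ρ : Representation ℂ (GL (Fin (r + 1)) F) V)
    (χ χ' : AddChar (Fin r → F) ℂ) (h : χ ≠ 0) (h' : χ' ≠ 0) :
    ∃ l, ∀ v ∈ weightSpace (ρ.comp Matrix.SpecialLinearGroup.toGL) u χ,
      ρ l v ∈ weightSpace (ρ.comp Matrix.SpecialLinearGroup.toGL) u χ' := by
  obtain ⟨ψ₀, hψ⟩ := exists_char (F := F)
  obtain ⟨y, rfl⟩ := (ch_bijective hψ).2 χ
  obtain ⟨y', rfl⟩ := (ch_bijective hψ).2 χ'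
  obtain ⟨A, hA⟩ := exists_gl_map hr (y := y) (y' := y') (fun h0 => h (by rw [h0, ch_zero]))
    (fun h0 => h' (by rw [h0, ch_zero]))
  set d : Fˣ := Units.mk0 _ (det_gl_ne_zero A) with hd
  refine ⟨dg d * Matrix.SpecialLinearGroup.toGL (lev A), fun v hv => ?_⟩
  have h1 : ρ (Matrix.SpecialLinearGroup.toGL (lev A)) v ∈
      weightSpace (ρ.comp Matrix.SpecialLinearGroup.toGL) u (ch ψ₀ ((d : F) • y')) := by
    refine mem_weightSpace_map (ρ := ρ.comp Matrix.SpecialLinearGroup.toGL) (levConj A) (lev_u A)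
      (fun a => ?_) hv
    rw [← levConj_ch (ψ₀ := ψ₀) A y a, hA]
    rfl
  intro a
  obtain ⟨b, rfl⟩ := (smulEquiv (r := r) d).surjective a
  show ρ (Matrix.SpecialLinearGroup.toGL (u ((d : F) • b))) _ = ch ψ₀ y' ((d : F) • b) • _
  rw [← Module.End.mul_apply, ← map_mul, ← mul_assoc, ← dg_u, mul_assoc, map_mul,
    Module.End.mul_apply, map_mul, Module.End.mul_apply, map_mul, Module.End.mul_apply]
  have h2 : ρ (Matrix.SpecialLinearGroup.toGL (u b)) (ρ (Matrix.SpecialLinearGroup.toGL (lev A)) v) =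
      ch ψ₀ ((d : F) • y') b • ρ (Matrix.SpecialLinearGroup.toGL (lev A)) v := h1 b
  rw [h2, map_smul, ch_apply, ch_apply, smul_dotProduct, dotProduct_smul]

theorem exists_uniform {r : ℕ} {G : Type*} [Group G] (ρ : Representation ℂ G V)
    [FiniteDimensional ℂ V] (j : SLg F r →* G)
    (htr : ∀ χ χ' : AddChar (Fin r → F) ℂ, χ ≠ 0 → χ' ≠ 0 →
      ∃ l : G, ∀ v ∈ weightSpace (ρ.comp j) u χ, ρ l v ∈ weightSpace (ρ.comp j) u χ') :
    ∃ d : ℕ, ∀ χ : AddChar (Fin r → F) ℂ, χ ≠ 0 →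
      Module.finrank ℂ (weightSpace (ρ.comp j) u χ) = d := by
  by_cases h : ∃ χ : AddChar (Fin r → F) ℂ, χ ≠ 0
  · obtain ⟨χ₀, h0⟩ := h
    have hle : ∀ χ χ' : AddChar (Fin r → F) ℂ, χ ≠ 0 → χ' ≠ 0 →
        Module.finrank ℂ (weightSpace (ρ.comp j) u χ) ≤
          Module.finrank ℂ (weightSpace (ρ.comp j) u χ') := by
      intro χ χ' hχ hχ'
      obtain ⟨l, hl⟩ := htr χ χ' hχ hχ'
      refine LinearMap.finrank_le_finrank_of_injective (f := (ρ l).restrict hl) fun v w hvw => ?_
      refine Subtype.ext ?_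
      have := congrArg (fun z => ρ l⁻¹ (Subtype.val z)) hvw
      simpa only [LinearMap.coe_restrict_apply, ← Module.End.mul_apply, ← map_mul, inv_mul_cancel,
        map_one, Module.End.one_apply] using this
    exact ⟨_, fun χ hχ => le_antisymm (hle χ χ₀ hχ h0) (hle χ₀ χ h0 hχ)⟩
  · exact ⟨0, fun χ hχ => absurd ⟨χ, hχ⟩ h⟩

theorem fixQ_invariant {r : ℕ} (π : Representation ℂ (SLg F r) V) (A : GL (Fin r) F) :
    ∀ v ∈ fixQ π, π (lev A) v ∈ fixQ π :=
  fun v hv => mem_weightSpace_map (levConj A) (lev_u A) (fun a => by simp) hv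

/-- The action of the Levi complement on the fixed space of the radical. -/
noncomputable def sig {r : ℕ} (π : Representation ℂ (SLg F r) V) :
    Representation ℂ (GL (Fin r) F) (fixQ π) :=
  resRep (ρ := π.comp lev) (fixQ π) (fixQ_invariant π)

theorem sig_coe {r : ℕ} (π : Representation ℂ (SLg F r) V) (A : GL (Fin r) F) (v : fixQ π) :
    (sig π A v : V) = π (lev A) v := rfl

/-- The inner product on the fixed space. -/
noncomputable def InvForm.sig {r : ℕ} {π : Representation ℂ (SLg F r) V} (I : InvForm π) :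
    InvForm (CfsgLib.MinDeg.SLn.sig π) :=
  InvForm.res (ρ := π.comp lev) (I.comp lev) (fixQ π) (fixQ_invariant π)

variable {s : ℕ}

/-- The transvection of the Levi complement used in the trace computation. -/
noncomputable def A0 (F : Type*) [Field F] (s : ℕ) : GL (Fin (s + 2)) F :=
  Matrix.SpecialLinearGroup.toGL (u (ev F (0 : Fin (s + 1))))

theorem A0_mulVec (y : Fin (s + 2) → F) :
    ((A0 F s : GL (Fin (s + 2)) F) : Matrix (Fin (s + 2)) (Fin (s + 2)) F) *ᵥ y = y + y 1 • ev F 0 := by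
  show ac (u (ev F (0 : Fin (s + 1)))) y = _
  rw [u_ac]
  simp [Fin.tail]

theorem A0_det : ((A0 F s : GL (Fin (s + 2)) F) : Matrix (Fin (s + 2)) (Fin (s + 2)) F).det = 1 :=
  (u (ev F (0 : Fin (s + 1)))).2

theorem A0_conj : ∃ h : SLg F (s + 2), lev (A0 F s) * h = h * u (ev F (0 : Fin (s + 2))) := by
  obtain ⟨h01, h02, h12⟩ := idx_ne (s := s)
  set p : Equiv.Perm (Fin (s + 3)) := Equiv.swap 1 2 * Equiv.swap 0 1 with hp
  have hsign : Equiv.Perm.sign p = 1 := by
    rw [hp, map_mul, Equiv.Perm.sign_swap h12, Equiv.Perm.sign_swap h01]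
    rfl
  let h : SLg F (s + 2) := ⟨p.permMatrix F, by rw [Matrix.det_permutation, hsign]; simp⟩
  have hac : ∀ z, ac h z = z ∘ p := fun z => Matrix.permMatrix_mulVec _
  refine ⟨h, sl_ext_ac fun i => ?_⟩
  generalize ev F i = z
  rw [ac_mul, ac_mul, u_ac, ac_add, ac_smul, hac, hac, lev_ac, A0_det, A0_mulVec, inv_one, one_mul]
  have hp1 : p 1 = 0 := by
    rw [hp, Equiv.Perm.mul_apply, Equiv.swap_apply_right, Equiv.swap_apply_of_ne_of_ne h01 h02]
  have hp2 : p 2 = 1 := by
    rw [hp, Equiv.Perm.mul_apply, Equiv.swap_apply_of_ne_of_ne h02.symm h12.symm, Equiv.swap_apply_right]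
  have hz : (Pi.single (0 : Fin (s + 2)) (1 : F)) ⬝ᵥ Fin.tail z = z 1 := by
    simp [Fin.tail]
  have he : (ev F (0 : Fin (s + 3))) ∘ p = ev F 1 := by
    funext k
    simp only [Function.comp_apply, Pi.single_apply]
    have hiff : p k = 0 ↔ k = 1 := by rw [← hp1]; exact p.injective.eq_iff
    by_cases hk : k = 1
    · subst hk; simp [hp1]
    · simp [mt hiff.1 hk, hk]
  rw [hz, he]
  funext k
  refine Fin.cases ?_ ?_ k
  · simp [h01.symm, Pi.single_apply, h01]
  · intro k
    simp only [Fin.cons_succ, Pi.add_apply, Pi.smul_apply, Fin.tail, Function.comp_apply, smul_eq_mul]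
    have e1 : ((1 : Fin (s + 2)).succ : Fin (s + 3)) = 2 := Fin.succ_one_eq_two
    rw [e1, hp2]
    congr 1
    congr 1
    simp only [Pi.single_apply]
    exact if_congr (by rw [← Fin.succ_zero_eq_one', Fin.succ_inj]) rfl rfl

variable [FiniteDimensional ℂ V] {π : Representation ℂ (SLg F (s + 2)) V}

theorem mem_map_ch {ψ₀ : AddChar F ℂ} {A : GL (Fin (s + 2)) F} {y y' : Fin (s + 2) → F}
    (hy : (A : Matrix (Fin (s + 2)) (Fin (s + 2)) F).det •
      ((A : Matrix (Fin (s + 2)) (Fin (s + 2)) F) *ᵥ y) = y')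
    {v : V} (hv : v ∈ weightSpace π u (ch ψ₀ y)) : π (lev A) v ∈ weightSpace π u (ch ψ₀ y') :=
  mem_weightSpace_map (levConj A) (lev_u A) (fun a => by rw [← hy]; exact levConj_ch A y a) hv

/-- The fixed weights of `A0`. -/
noncomputable def fixed0 (F : Type*) [Field F] [Fintype F] [DecidableEq F] (s : ℕ) :
    Finset (Fin (s + 2) → F) :=
  Finset.univ.filter fun y => y ≠ 0 ∧ y 1 = 0

theorem card_fixed0 : (fixed0 F s).card + 1 ≤ Fintype.card F ^ (s + 1) := by
  have h : (fixed0 F s).card ≤ ((Finset.univ : Finset (Fin (s + 1) → F)).erase 0).card := by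
    refine Finset.card_le_card_of_injOn (fun y => Fin.removeNth 1 y) ?_ ?_
    · intro y hy
      simp only [fixed0, Finset.coe_filter, Finset.mem_univ, true_and, Set.mem_setOf_eq] at hy
      simp only [Finset.coe_erase, Finset.coe_univ, Set.mem_diff, Set.mem_univ, true_and,
        Set.mem_singleton_iff]
      intro h0
      apply hy.1
      have := Fin.insertNth_self_removeNth 1 y
      rw [h0, hy.2] at this
      rw [← this]
      funext i
      refine Fin.succAboveCases 1 ?_ ?_ i <;> simp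
    · intro y hy y' hy' h0
      simp only [fixed0, Finset.coe_filter, Finset.mem_univ, true_and, Set.mem_setOf_eq] at hy hy'
      have e1 := Fin.insertNth_self_removeNth 1 y
      have e2 := Fin.insertNth_self_removeNth 1 y'
      rw [← e1, ← e2, hy.2, hy'.2, show Fin.removeNth 1 y = Fin.removeNth 1 y' from h0]
  rw [Finset.card_erase_of_mem (Finset.mem_univ _), Finset.card_univ, Fintype.card_fun,
    Fintype.card_fin] at h
  have := Nat.one_le_pow (s + 1) _ (Fintype.card_pos (α := F))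
  omega

/-- The trace identity. -/
theorem trace_identity {ψ₀ : AddChar F ℂ} (hψ : ψ₀ ≠ 0) {d d' : ℕ}
    (hd : ∀ χ : AddChar (Fin (s + 2) → F) ℂ, χ ≠ 0 → Module.finrank ℂ (weightSpace π u χ) = d)
    (hd' : ∀ χ : AddChar (Fin (s + 1) → F) ℂ, χ ≠ 0 →
      Module.finrank ℂ (weightSpace ((sig π).comp Matrix.SpecialLinearGroup.toGL) u χ) = d') :
    (d' : ℂ) * (Fintype.card F : ℂ) ^ (s + 1) =
      d + ∑ y ∈ fixed0 F s, LinearMap.trace ℂ V (π (lev (A0 F s)) * proj π u (ch ψ₀ y)) := by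
  classical
  obtain ⟨h, hh⟩ := A0_conj (F := F) (s := s)
  set π' := (sig π).comp Matrix.SpecialLinearGroup.toGL with hπ'
  have hne2 : (ev F (0 : Fin (s + 2))) ≠ 0 := by simp
  have hne1 : (ev F (0 : Fin (s + 1))) ≠ 0 := by simp
  have e1 : LinearMap.trace ℂ V (π (lev (A0 F s))) =
      (Module.finrank ℂ (fixQ π) : ℂ) - d := by
    rw [← trace_u_of_uniform (ρ := π) u_add hd hne2, show lev (A0 F s) = h * u (ev F 0) * h⁻¹ by
      rw [← hh, mul_inv_cancel_right], map_mul, LinearMap.trace_mul_comm, ← map_mul, ← mul_assoc,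
      inv_mul_cancel, one_mul]
  have e2 : LinearMap.trace ℂ V (π (lev (A0 F s)) * proj π u (0 : AddChar (Fin (s + 2) → F) ℂ)) =
      (Module.finrank ℂ (fixQ π') : ℂ) - d' := by
    rw [trace_mul_proj u_add 0 _ (fixQ_invariant π (A0 F s)), ← trace_u_of_uniform (ρ := π') u_add hd' hne1]
    rfl
  have e3 := finrank_eq_of_uniform (ρ := π') u_add hd'
  rw [Fintype.card_fun, Fintype.card_fin] at e3
  have e4 := trace_eq_sum (ρ := π) (u_add (F := F)) (π (lev (A0 F s)))
  rw [← (Equiv.ofBijective _ (ch_bijective (r := s + 2) hψ)).sum_comp,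
    ← Finset.add_sum_erase _ _ (Finset.mem_univ (0 : Fin (s + 2) → F))] at e4
  simp only [Equiv.ofBijective_apply, ch_zero] at e4
  have e5 : ∑ y ∈ (Finset.univ : Finset (Fin (s + 2) → F)).erase 0,
      LinearMap.trace ℂ V (π (lev (A0 F s)) * proj π u (ch ψ₀ y)) =
      ∑ y ∈ fixed0 F s, LinearMap.trace ℂ V (π (lev (A0 F s)) * proj π u (ch ψ₀ y)) := by
    refine (Finset.sum_subset (fun y hy => ?_) fun y hy hy' => ?_).symm
    · simp only [fixed0, Finset.mem_filter] at hy
      simp [hy.2.1]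
    · simp only [fixed0, Finset.mem_filter, Finset.mem_univ, true_and, not_and] at hy'
      have hy1 := hy' (Finset.mem_erase.1 hy).1
      refine trace_mul_proj_eq_zero (χ' := ch ψ₀ (y + y 1 • ev F 0)) u_add _
        (fun v hv => mem_map_ch (by rw [A0_det, one_smul, A0_mulVec]) hv) fun heq => ?_
      have := congrFun ((ch_bijective hψ).1 heq) 0
      simp [hy1] at this
  rw [e5, e2, e1] at e4
  have e6 : (Module.finrank ℂ (fixQ π) : ℂ) = (Module.finrank ℂ (fixQ π') : ℂ) +
      (d' : ℂ) * ((Fintype.card F : ℂ) ^ (s + 1) - 1) := by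
    rw [e3]
    have := Nat.one_le_pow (s + 1) _ (Fintype.card_pos (α := F))
    push_cast [Nat.cast_sub this]
    ring
  linear_combination e4 - e6

theorem norm_term_le (hle : DimLe π) {ψ₀ : AddChar F ℂ} (hψ : ψ₀ ≠ 0) {y : Fin (s + 2) → F}
    (hy : y ∈ fixed0 F s) :
    ‖LinearMap.trace ℂ V (π (lev (A0 F s)) * proj π u (ch ψ₀ y))‖ ≤ 1 := by
  simp only [fixed0, Finset.mem_filter] at hy
  have hT : ∀ v ∈ weightSpace π u (ch ψ₀ y), π (lev (A0 F s)) v ∈ weightSpace π u (ch ψ₀ y) :=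
    fun v hv => mem_map_ch (by rw [A0_det, one_smul, A0_mulVec, hy.2.2, zero_smul, add_zero]) hv
  have hne : ch ψ₀ y ≠ 0 := fun h0 => hy.2.1 ((ch_bijective hψ).1 (h0.trans (ch_zero ψ₀).symm))
  rw [trace_mul_proj u_add _ _ hT]
  exact (norm_trace_fixed hT (hle _ hne)).trans (by exact_mod_cast hle _ hne)

/-- Multiplicity one passes to the Levi complement. -/
theorem dimLe_sig (hle : DimLe π) : DimLe ((sig π).comp Matrix.SpecialLinearGroup.toGL) := by
  classical
  obtain ⟨ψ₀, hψ⟩ := exists_char (F := F)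
  obtain ⟨d, hd⟩ := exists_uniform π (MonoidHom.id _) (sl_transitive (by omega) π)
  obtain ⟨d', hd'⟩ := exists_uniform (sig π) Matrix.SpecialLinearGroup.toGL (gl_transitive (by omega) (sig π))
  intro χ hχ
  rw [hd' χ hχ]
  obtain ⟨χ₀, hχ₀⟩ : ∃ χ₀ : AddChar (Fin (s + 2) → F) ℂ, χ₀ ≠ 0 := ⟨ch ψ₀ (ev F 0), fun h0 =>
    (by simp : (ev F (0 : Fin (s + 2))) ≠ 0) ((ch_bijective hψ).1 (h0.trans (ch_zero ψ₀).symm))⟩
  have hd1 : d ≤ 1 := (hd χ₀ hχ₀) ▸ hle χ₀ hχ₀
  have h := congrArg (fun z : ℂ => ‖z‖) (trace_identity (π := π) hψ hd hd')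
  simp only [norm_mul, norm_pow, Complex.norm_natCast] at h
  have h2 : (d' : ℝ) * (Fintype.card F : ℝ) ^ (s + 1) ≤ (Fintype.card F : ℝ) ^ (s + 1) := by
    rw [h]
    refine (norm_add_le _ _).trans ?_
    refine (add_le_add (le_of_eq (Complex.norm_natCast d)) ((norm_sum_le _ _).trans
      (Finset.sum_le_card_nsmul _ _ 1 fun y hy => norm_term_le hle hψ hy))).trans ?_
    rw [nsmul_eq_mul, mul_one]
    have := card_fixed0 (F := F) (s := s)
    exact_mod_cast (show d + (fixed0 F s).card ≤ Fintype.card F ^ (s + 1) by omega)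
  have h3 : (d' : ℝ) ≤ 1 := (mul_le_iff_le_one_left (by positivity)).1 h2
  exact_mod_cast h3

end CfsgLib.MinDeg.SLn
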