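import Cfsg.Agent.Lib.KnownB.MinDeg.SLn.Geometry

/-!
# Sums over chains of subspaces, and the estimates
-/

set_option autoImplicit false
set_option linter.unusedSectionVars false

namespace CfsgLib.MinDeg.SLn

variable {F : Type*} [Field F] [Fintype F] [DecidableEq F]

/-- The span of a family. -/
abbrev Sp {ι : Type*} {W : Type*} [AddCommGroup W] [Module F W] (v : ι → W) : Submodule F W :=
  Submodule.span F (Set.range v)

section Sums

variable {W : Type*} [AddCommGroup W] [Module F W] [Fintype W] {β : Type*} [AddCommMonoid β]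

theorem card_sp {k : ℕ} {v : Fin k → W} (hv : LinearIndependent F v) :
    Nat.card (Sp (F := F) v) = Fintype.card F ^ k := by
  classical
  rw [Nat.card_eq_fintype_card, Module.card_eq_pow_finrank (K := F), finrank_span_eq_card hv,
    Fintype.card_fin]

theorem sum_diff (S T : Submodule F W) [DecidablePred (· ∈ S)] [DecidablePred (· ∈ T)] (h : S ≤ T)
    (f : W → β) (c : β) (hf : ∀ y, y ∈ T → y ∉ S → f y = c) :
    ∑ y ∈ Finset.univ.filter (fun y => y ∈ T ∧ y ∉ S), f y = (Nat.card T - Nat.card S) • c := by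
  classical
  rw [Finset.sum_congr rfl (g := fun _ => c) (fun y hy => hf y (Finset.mem_filter.1 hy).2.1
    (Finset.mem_filter.1 hy).2.2), Finset.sum_const]
  congr 1
  rw [show Finset.univ.filter (fun y : W => y ∈ T ∧ y ∉ S) =
    Finset.univ.filter (fun y : W => y ∈ T) \ Finset.univ.filter (fun y : W => y ∈ S) by
      ext y; simp, Finset.card_sdiff_of_subset (fun y hy => by simp at hy ⊢; exact h hy),
    Nat.card_eq_fintype_card, Nat.card_eq_fintype_card, Fintype.card_subtype, Fintype.card_subtype]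

/-- A sum over a chain of two subspaces. -/
theorem sum_chain2 (S₀ S₁ : Submodule F W) (h : S₀ ≤ S₁) (f : W → β) (c₁ c₂ : β)
    (h₀ : ∀ y, y ∈ S₀ → f y = 0) (h₁ : ∀ y, y ∈ S₁ → y ∉ S₀ → f y = c₁)
    (h₂ : ∀ y, y ∉ S₁ → f y = c₂) :
    ∑ y, f y = (Nat.card S₁ - Nat.card S₀) • c₁ + (Fintype.card W - Nat.card S₁) • c₂ := by
  classical
  have e2 := sum_diff S₁ ⊤ le_top f c₂ fun y _ hy => h₂ y hy
  rw [show Nat.card (⊤ : Submodule F W) = Fintype.card W by
    rw [← Nat.card_eq_fintype_card]; exact Nat.card_congr Submodule.topEquiv.toEquiv] at e2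
  simp only [Submodule.mem_top, true_and] at e2
  rw [← sum_diff S₀ S₁ h f c₁ h₁, ← e2, ← Finset.sum_filter_add_sum_filter_not Finset.univ (· ∈ S₁) f]
  congr 1
  refine (Finset.sum_subset (fun y hy => ?_) fun y hy hy' => ?_).symm
  · simp only [Finset.mem_filter] at hy ⊢
    exact ⟨hy.1, hy.2.1⟩
  · simp only [Finset.mem_filter, Finset.mem_univ, true_and] at hy hy'
    exact h₀ y (by_contra fun h' => hy' ⟨hy, h'⟩)

/-- A sum over a chain of three subspaces. -/
theorem sum_chain3 (S₀ S₁ S₂ : Submodule F W) (h : S₀ ≤ S₁) (h' : S₁ ≤ S₂) (f : W → β) (c₁ c₂ c₃ : β)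
    (h₀ : ∀ y, y ∈ S₀ → f y = 0) (h₁ : ∀ y, y ∈ S₁ → y ∉ S₀ → f y = c₁)
    (h₂ : ∀ y, y ∈ S₂ → y ∉ S₁ → f y = c₂) (h₃ : ∀ y, y ∉ S₂ → f y = c₃) :
    ∑ y, f y = (Nat.card S₁ - Nat.card S₀) • c₁ + (Nat.card S₂ - Nat.card S₁) • c₂ +
      (Fintype.card W - Nat.card S₂) • c₃ := by
  classical
  have e := sum_chain2 S₁ S₂ h' (fun y => if y ∈ S₁ then 0 else f y) c₂ c₃
    (fun y hy => if_pos hy) (fun y hy hy' => by rw [if_neg hy', h₂ y hy hy'])
    (fun y hy => by rw [if_neg fun h1 => hy (h' h1), h₃ y hy])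
  have e1 := sum_chain2 S₀ S₁ h (fun y => if y ∈ S₁ then f y else 0) c₁ 0
    (fun y hy => by rw [if_pos (h hy), h₀ y hy]) (fun y hy hy' => by rw [if_pos hy, h₁ y hy hy'])
    (fun y hy => if_neg hy)
  rw [smul_zero, add_zero] at e1
  rw [add_assoc, ← e, ← e1, ← Finset.sum_add_distrib]
  refine Finset.sum_congr rfl fun y _ => ?_
  split_ifs <;> simp

end Sums

/-- The value of a total of cell values. -/
def cellTotal (q N : ℝ) (c1 c13 c2 c23 c31 c32 c34 : ℝ) : ℝ :=
  (q - 1) * ((q ^ 2 - q) * c1 + (N - q ^ 2) * c13) +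
    (q ^ 2 - q) * ((q ^ 2 - q) * c2 + (N - q ^ 2) * c23) +
    (N - q ^ 2) * ((q ^ 2 - q) * c31 + (q ^ 3 - q ^ 2) * c32 + (N - q ^ 3) * c34)

set_option maxHeartbeats 1000000 in
theorem total_le {q N a b c23 c32 c34 : ℝ} (hq : 2 ≤ q) (hN : N = q ^ 3 ∨ q ^ 4 ≤ N)
    (ha : (q ^ 2 - q) + (N - q ^ 2) * a = 0) (hb : q * b ^ 2 = 1 + (q - 1) * b)
    (h23 : (q ^ 2 - q) * b + (N - q ^ 2) * c23 = 0) (h32 : c32 = b * c23)
    (h34 : (q ^ 2 - q) * c23 + (q ^ 3 - q ^ 2) * c32 + (N - q ^ 3) * c34 = 0) :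
    cellTotal q N 1 (a ^ 2) (b ^ 2) (c23 ^ 2) (c23 ^ 2) (c32 ^ 2) (c34 ^ 2) ≤ (q - 1) * (N - 1) := by
  have hq1 : 0 < q - 1 := by linarith
  set A : ℝ := q ^ 2 - q with hA
  have hA0 : 0 < A := by rw [hA]; nlinarith
  have hM0 : 0 < N - q ^ 2 := by
    rcases hN with h | h <;> nlinarith [pow_pos (show 0 < q by linarith) 2, pow_pos (show 0 < q by linarith) 3]
  set M : ℝ := N - q ^ 2 with hM
  have ha' : a = -A / M := by field_simp; linarith
  have hc : c23 = a * b := by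
    apply mul_left_cancel₀ hM0.ne'
    linear_combination h23 - b * ha
  rcases eq_or_ne b 1 with rfl | hb1
  · have hc1 : c23 = a := by rw [hc, mul_one]
    have h32' : c32 = a := by rw [h32, one_mul, hc1]
    rw [hc1, h32'] at h34
    rcases hN with hN3 | hN4
    · exfalso
      rw [hN3, sub_self, zero_mul, add_zero, ← add_mul] at h34
      have : a ≠ 0 := fun h => by rw [h] at ha; linarith
      rcases mul_eq_zero.1 h34 with h | h
      · have : q ^ 3 - q ^ 2 = q * A := by rw [hA]; ring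
        nlinarith
      · exact this h
    · have hR0 : 0 < N - q ^ 3 := by nlinarith [pow_pos (show 0 < q by linarith) 3]
      set R : ℝ := N - q ^ 3 with hR
      have h34' : c34 = -(A * (1 + q) * a) / R := by
        field_simp
        rw [hA] at h34 ⊢
        linear_combination h34
      unfold cellTotal
      rw [hc1, h32', ← hM, ← hR, ← hA, h34', ha']
      have hMl : q ^ 2 * (q ^ 2 - 1) ≤ M := by rw [hM]; nlinarith
      have hRl : q ^ 3 * (q - 1) ≤ R := by rw [hR]; nlinarith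
      have e : (q - 1) * (A * 1 + M * (-A / M) ^ 2) + A * (A * 1 ^ 2 + M * (-A / M) ^ 2) +
          M * (A * (-A / M) ^ 2 + (q ^ 3 - q ^ 2) * (-A / M) ^ 2 +
            R * (-(A * (1 + q) * (-A / M)) / R) ^ 2) =
          (q ^ 2 - 1) * A + A ^ 2 * (q ^ 2 - 1) * (q + 1) / M + A ^ 4 * (q + 1) ^ 2 / (M * R) := by
        field_simp
        rw [hA]
        ring
      rw [e]
      have hqp : 0 < q := by linarith
      have hq21 : 0 < q ^ 2 - 1 := by nlinarith
      have t2 : A ^ 2 * (q ^ 2 - 1) * (q + 1) / M ≤ (q - 1) ^ 2 * (q + 1) := by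
        rw [div_le_iff₀ hM0]
        calc A ^ 2 * (q ^ 2 - 1) * (q + 1) = (q - 1) ^ 2 * (q + 1) * (q ^ 2 * (q ^ 2 - 1)) := by
              rw [hA]; ring
          _ ≤ (q - 1) ^ 2 * (q + 1) * M := mul_le_mul_of_nonneg_left hMl (by positivity)
      have t3 : A ^ 4 * (q + 1) ^ 2 / (M * R) ≤ (q - 1) ^ 2 * (q + 1) := by
        rw [div_le_iff₀ (mul_pos hM0 hR0)]
        calc A ^ 4 * (q + 1) ^ 2 = (q - 1) ^ 4 * (q + 1) ^ 2 * q ^ 4 * 1 := by rw [hA]; ring
          _ ≤ (q - 1) ^ 4 * (q + 1) ^ 2 * q ^ 4 * q := mul_le_mul_of_nonneg_left (by linarith) (by positivity)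
          _ = (q - 1) ^ 2 * (q + 1) * (q ^ 2 * (q ^ 2 - 1) * (q ^ 3 * (q - 1))) := by ring
          _ ≤ (q - 1) ^ 2 * (q + 1) * (M * R) := mul_le_mul_of_nonneg_left
              (mul_le_mul hMl hRl (by positivity) hM0.le) (by positivity)
      have h4 : (q ^ 2 - 1) * (q + 2) ≤ N - 1 := by nlinarith
      have h5 : (q ^ 2 - 1) * A + 2 * ((q - 1) ^ 2 * (q + 1)) = (q - 1) * ((q ^ 2 - 1) * (q + 2)) := by
        rw [hA]; ring
      nlinarith [mul_le_mul_of_nonneg_left h4 hq1.le]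
  · have hb2 : b = -1 / q := by
      have h0 : (b - 1) * (q * b + 1) = 0 := by linear_combination hb
      have := (mul_eq_zero.1 h0).resolve_left (sub_ne_zero.2 hb1)
      field_simp
      linarith
    have hR : (N - q ^ 3) * c34 = 0 := by
      rw [h32, hc, hb2] at h34
      have : (q ^ 2 - q) * (a * (-1 / q)) + (q ^ 3 - q ^ 2) * (-1 / q * (a * (-1 / q))) = 0 := by
        field_simp
        ring
      linarith
    unfold cellTotal
    rw [h32, hc, ← hM, ← hA, show (N - q ^ 3) * c34 ^ 2 = 0 by rw [pow_two, ← mul_assoc, hR, zero_mul],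
      hb2, ha']
    have e : (q - 1) * (A * 1 + M * (-A / M) ^ 2) + A * (A * (-1 / q) ^ 2 + M * (-A / M * (-1 / q)) ^ 2) +
        M * (A * (-A / M * (-1 / q)) ^ 2 + (q ^ 3 - q ^ 2) * (-1 / q * (-A / M * (-1 / q))) ^ 2 + 0) =
        (q - 1) * (q ^ 2 - 1) + (q - 1) * ((q ^ 2 - 1) ^ 2 / M) := by
      field_simp
      rw [hA]
      ring
    rw [e, ← mul_add]
    refine mul_le_mul_of_nonneg_left ?_ hq1.le
    have hMl : q ^ 2 - 1 ≤ M := by
      rw [hM]
      rcases hN with h | h <;> nlinarith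
    have hq21 : 0 ≤ q ^ 2 - 1 := by nlinarith
    have : (q ^ 2 - 1) ^ 2 / M ≤ M := by
      rw [div_le_iff₀ hM0]
      nlinarith
    rw [hM] at this ⊢
    linarith

end CfsgLib.MinDeg.SLn
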