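import Cfsg.Agent.Lib.KnownB.MinDeg.SLn.Flag
import Cfsg.Agent.Lib.KnownB.MinDeg.SLn.Counting

/-!
# The translates of a flag vector, indexed by pairs of vectors
-/

set_option autoImplicit false
set_option linter.unusedSectionVars false
set_option backward.isDefEq.respectTransparency false

open Matrix
open scoped ComplexConjugate

namespace CfsgLib.MinDeg.SLn

variable {F : Type*} [Field F] [Fintype F] [DecidableEq F]
  {V : Type*} [AddCommGroup V] [Module ℂ V] [FiniteDimensional ℂ V] {s : ℕ}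
  {π : Representation ℂ (SLg F (s + 2)) V} {I : InvForm π}

theorem mem_sp_pair {n : ℕ} {x y z : Fin n → F} :
    z ∈ Sp (F := F) ![x, y] ↔ ∃ a b : F, a • x + b • y = z := by
  rw [Sp, Submodule.mem_span_range_iff_exists_fun]
  simp only [Fin.sum_univ_two, Matrix.cons_val_zero, Matrix.cons_val_one]
  constructor
  · rintro ⟨c, h⟩; exact ⟨c 0, c 1, h⟩
  · rintro ⟨a, b, h⟩; exact ⟨![a, b], by simpa using h⟩

theorem mem_sp_one {n : ℕ} {x z : Fin n → F} : z ∈ Sp (F := F) ![x] ↔ ∃ a : F, a • x = z := by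
  rw [Sp, Submodule.mem_span_range_iff_exists_fun]
  simp only [Fin.sum_univ_one, Matrix.cons_val_zero]
  constructor
  · rintro ⟨c, h⟩; exact ⟨c 0, h⟩
  · rintro ⟨a, h⟩; exact ⟨![a], by simpa using h⟩

theorem mem_sp_three {n : ℕ} {x y w z : Fin n → F} :
    z ∈ Sp (F := F) ![x, y, w] ↔ ∃ a b c : F, a • x + b • y + c • w = z := by
  rw [Sp, Submodule.mem_span_range_iff_exists_fun]
  simp only [Fin.sum_univ_three, Matrix.cons_val_zero, Matrix.cons_val_one, Matrix.cons_val_two,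
    Matrix.tail_cons, Matrix.head_cons]
  constructor
  · rintro ⟨c, h⟩; exact ⟨c 0, c 1, c 2, h⟩
  · rintro ⟨a, b, c, h⟩; exact ⟨![a, b, c], by simpa using h⟩

theorem indep_one {n : ℕ} {x : Fin n → F} (hx : x ≠ 0) : LinearIndependent F ![x] :=
  LinearIndependent.of_subsingleton 0 (by simpa using hx)

theorem indep_two {n : ℕ} {x y : Fin n → F} :
    LinearIndependent F ![x, y] ↔ x ≠ 0 ∧ y ∉ Sp (F := F) ![x] := by
  constructor
  · intro h
    refine ⟨h.ne_zero 0, fun hy => ?_⟩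
    obtain ⟨a, ha⟩ := mem_sp_one.1 hy
    exact (LinearIndependent.pair_iff' (h.ne_zero 0)).1 h a ha
  · rintro ⟨hx, hy⟩
    exact (LinearIndependent.pair_iff' hx).2 fun a ha => hy (mem_sp_one.2 ⟨a, ha⟩)

theorem indep_three {n : ℕ} {x y z : Fin n → F} (h : LinearIndependent F ![x, y])
    (hz : z ∉ Sp (F := F) ![x, y]) : LinearIndependent F ![x, y, z] := by
  rw [Fintype.linearIndependent_iff]
  intro c hc i
  simp only [Fin.sum_univ_three, Matrix.cons_val_zero, Matrix.cons_val_one, Matrix.cons_val_two,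
    Matrix.tail_cons, Matrix.head_cons] at hc
  have h2 : c 2 = 0 := by
    by_contra h2
    refine hz (mem_sp_pair.2 ⟨-(c 0) / c 2, -(c 1) / c 2, ?_⟩)
    have e : z = (c 2)⁻¹ • (c 2 • z) := by rw [smul_smul, inv_mul_cancel₀ h2, one_smul]
    rw [e, show c 2 • z = -(c 0 • x + c 1 • y) from eq_neg_of_add_eq_zero_right hc]
    module
  rw [h2, zero_smul, add_zero] at hc
  obtain ⟨h0, h1⟩ := LinearIndependent.pair_iff.1 h (c 0) (c 1) hc
  fin_cases i <;> assumption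

theorem indep_four {n : ℕ} {x y z w : Fin n → F} (h : LinearIndependent F ![x, y, z])
    (hw : w ∉ Sp (F := F) ![x, y, z]) : LinearIndependent F ![x, y, z, w] := by
  rw [Fintype.linearIndependent_iff]
  intro c hc i
  simp only [Fin.sum_univ_four] at hc
  change c 0 • x + c 1 • y + c 2 • z + c 3 • w = 0 at hc
  have h3 : c 3 = 0 := by
    by_contra h3
    refine hw (mem_sp_three.2 ⟨-(c 0) / c 3, -(c 1) / c 3, -(c 2) / c 3, ?_⟩)
    have e : w = (c 3)⁻¹ • (c 3 • w) := by rw [smul_smul, inv_mul_cancel₀ h3, one_smul]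
    rw [e, show c 3 • w = -(c 0 • x + c 1 • y + c 2 • z) from eq_neg_of_add_eq_zero_right hc]
    module
  rw [h3, zero_smul, add_zero] at hc
  have := Fintype.linearIndependent_iff.1 h ![c 0, c 1, c 2] (by simpa [Fin.sum_univ_three] using hc)
  fin_cases i
  · exact this 0
  · exact this 1
  · exact this 2
  · exact h3

theorem indep_std : LinearIndependent F ![ev F (0 : Fin (s + 3)), ev F 1] := by
  rw [indep_two]
  refine ⟨by simp, fun h => ?_⟩
  obtain ⟨a, ha⟩ := mem_sp_one.1 h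
  have := congrFun ha 1
  simp [(idx_ne (s := s)).1.symm] at this

theorem norm_hom (φ : Fˣ →* ℂ) (a : Fˣ) : ‖φ a‖ = 1 :=
  Complex.norm_eq_one_of_pow_eq_one (by rw [← map_pow, pow_orderOf_eq_one, map_one])
    (orderOf_pos a).ne'

theorem hom_conj_inv (φ : Fˣ →* ℂ) (a : Fˣ) : conj (φ a) * φ a = 1 := by
  rw [← Complex.normSq_eq_conj_mul_self, Complex.normSq_eq_norm_sq, norm_hom]
  simp

namespace Flag

variable (D : Flag π I)

open scoped Classical in
/-- The translate attached to a pair of vectors. -/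
noncomputable def Φ (x y : Fin (s + 3) → F) : V :=
  if h : ∃ g : SLg F (s + 2), ac g (ev F 0) = x ∧ ac g (ev F 1) = y then π h.choose D.e else 0

theorem phi_eq {g : SLg F (s + 2)} {x y : Fin (s + 3) → F} (h0 : ac g (ev F 0) = x)
    (h1 : ac g (ev F 1) = y) : D.Φ x y = π g D.e := by
  classical
  have h : ∃ g : SLg F (s + 2), ac g (ev F 0) = x ∧ ac g (ev F 1) = y := ⟨g, h0, h1⟩
  rw [Φ, dif_pos h]
  have := D.fix (g⁻¹ * h.choose) 0 (by rw [ac_mul, h.choose_spec.1, ← h0, ac_inv_ac])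
    (by rw [ac_mul, h.choose_spec.2, ← h1, ac_inv_ac, zero_smul, add_zero])
  conv_rhs => rw [← this]
  rw [← Module.End.mul_apply, ← map_mul, mul_inv_cancel_left]

theorem phi_self : D.Φ (ev F 0) (ev F 1) = D.e := by
  rw [D.phi_eq (g := 1) (by simp) (by simp)]
  simp

theorem exists_g {x y : Fin (s + 3) → F} (h : LinearIndependent F ![x, y]) :
    ∃ g : SLg F (s + 2), ac g (ev F 0) = x ∧ ac g (ev F 1) = y := by
  obtain ⟨g, hg⟩ := exists_sl_map_exact ![x, y] h (by omega)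
  exact ⟨g, hg 0 (by simp), hg 1 (by simp)⟩

theorem phi_of_not {x y : Fin (s + 3) → F} (h : ¬ LinearIndependent F ![x, y]) : D.Φ x y = 0 := by
  classical
  rw [Φ, dif_neg]
  rintro ⟨g, h0, h1⟩
  apply h
  rw [indep_two]
  obtain ⟨e0, e1⟩ := indep_two.1 (indep_std (F := F) (s := s))
  refine ⟨h0 ▸ ac_ne_zero g e0, fun hy => e1 ?_⟩
  obtain ⟨a, ha⟩ := mem_sp_one.1 hy
  refine mem_sp_one.2 ⟨a, ac_inj g ?_⟩
  rw [ac_smul, h0, ha, h1]

theorem phi_map (g : SLg F (s + 2)) (x y : Fin (s + 3) → F) :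
    D.Φ (ac g x) (ac g y) = π g (D.Φ x y) := by
  by_cases h : LinearIndependent F ![x, y]
  · obtain ⟨k, k0, k1⟩ := exists_g h
    rw [D.phi_eq k0 k1, D.phi_eq (g := g * k) (by rw [ac_mul, k0]) (by rw [ac_mul, k1]), map_mul,
      Module.End.mul_apply]
  · rw [D.phi_of_not h, map_zero, D.phi_of_not]
    intro h'
    apply h
    rw [indep_two] at h' ⊢
    refine ⟨fun h0 => h'.1 (by rw [h0, ac_zero]), fun hy => h'.2 ?_⟩
    obtain ⟨a, ha⟩ := mem_sp_one.1 hy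
    exact mem_sp_one.2 ⟨a, by rw [← ac_smul, ha]⟩

theorem phi_scale {x y : Fin (s + 3) → F} (h : LinearIndependent F ![x, y]) (a b : Fˣ) (c : F) :
    D.Φ ((a : F) • x) ((b : F) • y + c • x) = (D.φ a * D.ψ b) • D.Φ x y := by
  obtain ⟨g, g0, g1⟩ := exists_g h
  obtain ⟨h01, h02, h12⟩ := idx_ne (s := s)
  let v : Fin (s + 2) → F := Pi.single 0 (c / (a : F))
  have hu1 : ac (u v) (ev F (1 : Fin (s + 3))) = ev F 1 + (c / (a : F)) • ev F 0 := by
    rw [u_ac]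
    congr 2
    simp [v, Fin.tail]
  have hfix : π (u v) D.e = D.e := D.fix _ _ (u_ev0 v) hu1
  rw [D.phi_eq (g := g * (tor a b * u v)) ?_ ?_, map_mul, map_mul, Module.End.mul_apply,
    Module.End.mul_apply, hfix, D.tor_e, map_smul, D.phi_eq g0 g1]
  · rw [ac_mul, ac_mul, u_ev0, tor_ac_ev, ac_smul, g0]
    simp [torDiag]
  · rw [ac_mul, ac_mul, hu1, ac_add, ac_smul, tor_ac_ev, tor_ac_ev, ac_add, ac_smul, smul_smul,
      ac_smul, g0, g1]
    simp [torDiag, h01.symm, div_mul_cancel₀ _ a.ne_zero]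

/-- The coefficient at a pair of vectors. -/
noncomputable def r (x y : Fin (s + 3) → F) : ℂ := I.B D.e (D.Φ x y)

theorem r_self : D.r (ev F 0) (ev F 1) = 1 := by rw [r, D.phi_self, D.unit]

theorem r_of_not {x y : Fin (s + 3) → F} (h : ¬ LinearIndependent F ![x, y]) : D.r x y = 0 := by
  rw [r, D.phi_of_not h, I.zero_right]

theorem r_scale {x y : Fin (s + 3) → F} (h : LinearIndependent F ![x, y]) (a b : Fˣ) (c : F) :
    D.r ((a : F) • x) ((b : F) • y + c • x) = D.φ a * D.ψ b * D.r x y := by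
  rw [r, D.phi_scale h, I.smul_right, r]

theorem eig_of {g : SLg F (s + 2)} {a b : Fˣ} {c : F} (h0 : ac g (ev F 0) = (a : F) • ev F 0)
    (h1 : ac g (ev F 1) = (b : F) • ev F 1 + c • ev F 0) : π g D.e = (D.φ a * D.ψ b) • D.e := by
  rw [← D.phi_eq h0 h1, D.phi_scale indep_std, D.phi_self]

theorem r_map {g : SLg F (s + 2)} {a b : Fˣ} {c : F} (h0 : ac g (ev F 0) = (a : F) • ev F 0)
    (h1 : ac g (ev F 1) = (b : F) • ev F 1 + c • ev F 0) (x y : Fin (s + 3) → F) :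
    D.r (ac g x) (ac g y) = D.φ a * D.ψ b * D.r x y := by
  have h := I.inv g D.e (D.Φ x y)
  rw [D.eig_of h0 h1, ← D.phi_map, I.smul_left, map_mul] at h
  calc D.r (ac g x) (ac g y)
      = (conj (D.φ a) * D.φ a) * (conj (D.ψ b) * D.ψ b) * D.r (ac g x) (ac g y) := by
        rw [hom_conj_inv, hom_conj_inv, one_mul, one_mul]
    _ = D.φ a * D.ψ b * (conj (D.φ a) * conj (D.ψ b) * I.B D.e (D.Φ (ac g x) (ac g y))) := by
        rw [r]; ring
    _ = D.φ a * D.ψ b * D.r x y := by rw [h, r]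

/-- Equality up to the values of the two characters. -/
def Sim (z z' : ℂ) : Prop := ∃ a b : Fˣ, z = D.φ a * D.ψ b * z'

theorem Sim.norm_sq {z z' : ℂ} (h : D.Sim z z') : ‖z‖ ^ 2 = ‖z'‖ ^ 2 := by
  obtain ⟨a, b, rfl⟩ := h
  rw [norm_mul, norm_mul, norm_hom, norm_hom, one_mul, one_mul]

theorem Sim.eq_of_triv {z z' : ℂ} (h : D.Sim z z') (hφ : D.φ = 1) (hψ : D.ψ = 1) : z = z' := by
  obtain ⟨a, b, rfl⟩ := h
  simp [hφ, hψ]

theorem Sim.mul {z z' : ℂ} (h : D.Sim z z') (a b : Fˣ) : D.Sim (D.φ a * D.ψ b * z) z' := by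
  obtain ⟨a', b', rfl⟩ := h
  exact ⟨a * a', b * b', by rw [map_mul, map_mul]; ring⟩

theorem Sim.refl (z : ℂ) : D.Sim z z := ⟨1, 1, by simp⟩

/-- The first coordinate line. -/
abbrev L0 (F : Type*) [Field F] (s : ℕ) : Submodule F (Fin (s + 3) → F) := Sp ![ev F 0]

/-- The first coordinate plane. -/
abbrev W0 (F : Type*) [Field F] (s : ℕ) : Submodule F (Fin (s + 3) → F) := Sp ![ev F 0, ev F 1]

theorem cell_line {x y : Fin (s + 3) → F} (hx : x ∈ L0 F s) (hx0 : x ≠ 0) (hy : y ∈ W0 F s)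
    (hy' : y ∉ Sp (F := F) ![x]) : D.Sim (D.r x y) 1 := by
  obtain ⟨a, rfl⟩ := mem_sp_one.1 hx
  have ha : a ≠ 0 := fun h => hx0 (by simp [h])
  obtain ⟨α, β, rfl⟩ := mem_sp_pair.1 hy
  have hβ : β ≠ 0 := fun h => hy' (mem_sp_one.2 ⟨α / a, by rw [h, smul_smul, div_mul_cancel₀ _ ha]; simp⟩)
  refine ⟨Units.mk0 a ha, Units.mk0 β hβ, ?_⟩
  rw [add_comm (α • _) (β • _), mul_one, ← mul_one (D.φ _ * D.ψ _), ← D.r_self]
  exact D.r_scale indep_std (Units.mk0 a ha) (Units.mk0 β hβ) α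

theorem exists_g3 {x y z : Fin (s + 3) → F} (h : LinearIndependent F ![x, y, z]) :
    ∃ (g : SLg F (s + 2)) (c : F), c ≠ 0 ∧ ac g (ev F 0) = x ∧ ac g (ev F 1) = y ∧
      ac g (ev F 2) = c • z := by
  obtain ⟨g, c, hc, hg⟩ := exists_sl_map ![x, y, z] h (by omega) 2
  have e2 : (2 : Fin (s + 2 + 1)) = ⟨2, by omega⟩ := Fin.ext (by simp [Nat.mod_eq_of_lt])
  refine ⟨g, c, hc, ?_, ?_, ?_⟩
  · have := hg 0 (by simp)
    simpa [Nat.mod_eq_of_lt (show 2 < s + 2 + 1 by omega)] using this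
  · have := hg 1 (by simp)
    simpa [Nat.mod_eq_of_lt (show 2 < s + 2 + 1 by omega)] using this
  · have := hg 2 (by simp)
    rw [e2]
    simpa [Nat.mod_eq_of_lt (show 2 < s + 2 + 1 by omega)] using this

theorem cell13 {x y : Fin (s + 3) → F} (hx : x ∈ L0 F s) (hx0 : x ≠ 0) (hy : y ∉ W0 F s) :
    D.Sim (D.r x y) (D.r (ev F 0) (ev F 2)) := by
  obtain ⟨a, rfl⟩ := mem_sp_one.1 hx
  have ha : a ≠ 0 := fun h => hx0 (by simp [h])
  obtain ⟨g, c, hc, g0, g1, g2⟩ := exists_g3 (indep_three indep_std hy)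
  have h := D.r_map (a := 1) (b := 1) (c := 0) (by simpa using g0) (by simpa using g1) (ev F 0) (ev F 2)
  rw [g0, g2] at h
  have hli : LinearIndependent F ![ev F (0 : Fin (s + 3)), c • y] := by
    rw [indep_two]
    refine ⟨by simp, fun h' => hy ?_⟩
    obtain ⟨t, ht⟩ := mem_sp_one.1 h'
    exact mem_sp_pair.2 ⟨c⁻¹ * t, 0, by rw [zero_smul, add_zero, ← smul_smul, ht, smul_smul, inv_mul_cancel₀ hc, one_smul]⟩
  have h2 := D.r_scale hli (Units.mk0 a ha) (Units.mk0 c hc)⁻¹ 0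
  rw [zero_smul, add_zero, smul_smul, Units.val_inv_eq_inv_val, Units.val_mk0, Units.val_mk0,
    inv_mul_cancel₀ hc, one_smul] at h2
  rw [h2]
  exact Sim.mul D ⟨1, 1, h⟩ _ _

theorem plane_elt {x : Fin (s + 3) → F} (hx : x ∈ W0 F s) (hx' : x ∉ L0 F s) :
    ∃ (c b : F), b ≠ 0 ∧ x = b • ev F 1 + c • ev F 0 ∧ LinearIndependent F ![ev F 0, x] := by
  obtain ⟨c, b, rfl⟩ := mem_sp_pair.1 hx
  refine ⟨c, b, fun h => hx' (mem_sp_one.2 ⟨c, by simp [h]⟩), add_comm _ _, ?_⟩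
  exact indep_two.2 ⟨by simp, hx'⟩

theorem cell_in {x y : Fin (s + 3) → F} (hx : x ∈ W0 F s) (hx' : x ∉ L0 F s) (hy : y ∈ W0 F s)
    (hy' : y ∉ Sp (F := F) ![x]) : D.Sim (D.r x y) (D.r (ev F 1) (ev F 0)) := by
  obtain ⟨c, b, hb, hxe, hli⟩ := plane_elt hx hx'
  obtain ⟨α, β, rfl⟩ := mem_sp_pair.1 hy
  obtain ⟨g, g0, g1⟩ := exists_g hli
  have h := D.r_map (a := 1) (b := Units.mk0 b hb) (c := c) (by simpa using g0)
    (by rw [Units.val_mk0, g1, hxe]) (ev F 1) (ev F 0)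
  rw [g0, g1] at h
  have hcoef : α - β * c / b ≠ 0 := by
    intro h0
    refine hy' (mem_sp_one.2 ⟨β / b, ?_⟩)
    rw [sub_eq_zero.1 h0, hxe]
    match_scalars <;> field_simp
  have hli' : LinearIndependent F ![x, ev F 0] := LinearIndependent.pair_symm_iff.1 hli
  have h2 := D.r_scale hli' 1 (Units.mk0 _ hcoef) (β / b)
  have e : (α - β * c / b) • ev F 0 + (β / b) • x = α • ev F 0 + β • ev F 1 := by
    rw [hxe]
    match_scalars <;> field_simp <;> ring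
  rw [Units.val_mk0, e, Units.val_one, one_smul] at h2
  rw [h2]
  exact Sim.mul D ⟨1, Units.mk0 b hb, h⟩ _ _

theorem cell23 {x y : Fin (s + 3) → F} (hx : x ∈ W0 F s) (hx' : x ∉ L0 F s) (hy : y ∉ W0 F s) :
    D.Sim (D.r x y) (D.r (ev F 1) (ev F 2)) := by
  obtain ⟨c, b, hb, hxe, hli⟩ := plane_elt hx hx'
  have hy2 : y ∉ Sp (F := F) ![ev F 0, x] := fun h' => hy (by
    obtain ⟨p, q, rfl⟩ := mem_sp_pair.1 h'
    exact mem_sp_pair.2 ⟨p + q * c, q * b, by rw [hxe]; module⟩)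
  obtain ⟨g, d, hd, g0, g1, g2⟩ := exists_g3 (indep_three hli hy2)
  have h := D.r_map (a := 1) (b := Units.mk0 b hb) (c := c) (by simpa using g0)
    (by rw [Units.val_mk0, g1, hxe]) (ev F 1) (ev F 2)
  rw [g1, g2] at h
  have hli' : LinearIndependent F ![x, d • y] := by
    rw [indep_two]
    refine ⟨fun h0 => hx' (by rw [h0]; exact Submodule.zero_mem _), fun h' => hy2 ?_⟩
    obtain ⟨t, ht⟩ := mem_sp_one.1 h'
    exact mem_sp_pair.2 ⟨0, d⁻¹ * t, by rw [zero_smul, zero_add, ← smul_smul, ht, smul_smul, inv_mul_cancel₀ hd, one_smul]⟩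
  have h2 := D.r_scale hli' 1 (Units.mk0 d hd)⁻¹ 0
  rw [zero_smul, add_zero, smul_smul, Units.val_inv_eq_inv_val, Units.val_mk0, Units.val_one,
    inv_mul_cancel₀ hd, one_smul, one_smul] at h2
  rw [h2]
  exact Sim.mul D ⟨1, Units.mk0 b hb, h⟩ _ _

theorem cell31 {x y : Fin (s + 3) → F} (hx : x ∉ W0 F s) (hy : y ∈ Sp (F := F) ![ev F 0, x])
    (hy' : y ∉ Sp (F := F) ![x]) : D.Sim (D.r x y) (D.r (ev F 2) (ev F 0)) := by
  obtain ⟨α, β, rfl⟩ := mem_sp_pair.1 hy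
  have hα : α ≠ 0 := fun h => hy' (mem_sp_one.2 ⟨β, by simp [h]⟩)
  obtain ⟨g, c, hc, g0, g1, g2⟩ := exists_g3 (indep_three indep_std hx)
  have h := D.r_map (a := 1) (b := 1) (c := 0) (by simpa using g0) (by simpa using g1) (ev F 2) (ev F 0)
  rw [g0, g2] at h
  have hli : LinearIndependent F ![c • x, ev F (0 : Fin (s + 3))] := by
    rw [LinearIndependent.pair_symm_iff, indep_two]
    refine ⟨by simp, fun h' => hx ?_⟩
    obtain ⟨t, ht⟩ := mem_sp_one.1 h'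
    exact mem_sp_pair.2 ⟨c⁻¹ * t, 0, by rw [zero_smul, add_zero, ← smul_smul, ht, smul_smul, inv_mul_cancel₀ hc, one_smul]⟩
  have h2 := D.r_scale hli (Units.mk0 c hc)⁻¹ (Units.mk0 α hα) (β / c)
  rw [smul_smul, smul_smul, Units.val_inv_eq_inv_val, Units.val_mk0, Units.val_mk0,
    inv_mul_cancel₀ hc, one_smul, div_mul_cancel₀ _ hc] at h2
  rw [h2]
  exact Sim.mul D ⟨1, 1, h⟩ _ _

theorem cell32 {x y : Fin (s + 3) → F} (hx : x ∉ W0 F s) (hy : y ∈ Sp (F := F) ![ev F 0, ev F 1, x])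
    (hy' : y ∉ Sp (F := F) ![ev F 0, x]) : D.Sim (D.r x y) (D.r (ev F 2) (ev F 1)) := by
  obtain ⟨α, β, γ, rfl⟩ := mem_sp_three.1 hy
  have hβ : β ≠ 0 := fun h => hy' (mem_sp_pair.2 ⟨α, γ, by simp [h]⟩)
  set z := α • ev F (0 : Fin (s + 3)) + β • ev F 1 with hz
  have hli : LinearIndependent F ![ev F (0 : Fin (s + 3)), z] := by
    rw [indep_two]
    refine ⟨by simp, fun h => ?_⟩
    obtain ⟨t, ht⟩ := mem_sp_one.1 h
    have := congrFun ht 1
    simp [hz, (idx_ne (s := s)).1.symm] at this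
    exact hβ this.symm
  have hx2 : x ∉ Sp (F := F) ![ev F 0, z] := fun h' => hx (by
    obtain ⟨p, q, rfl⟩ := mem_sp_pair.1 h'
    exact mem_sp_pair.2 ⟨p + q * α, q * β, by rw [hz]; module⟩)
  obtain ⟨g, c, hc, g0, g1, g2⟩ := exists_g3 (indep_three hli hx2)
  have h := D.r_map (a := 1) (b := Units.mk0 β hβ) (c := α) (by simpa using g0)
    (by rw [Units.val_mk0, g1, hz, add_comm (α • _) (β • _)]) (ev F 2) (ev F 1)
  rw [g1, g2] at h
  have hli' : LinearIndependent F ![c • x, z] := by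
    rw [LinearIndependent.pair_symm_iff, indep_two]
    refine ⟨hli.ne_zero 1, fun h' => hx2 ?_⟩
    obtain ⟨t, ht⟩ := mem_sp_one.1 h'
    exact mem_sp_pair.2 ⟨0, c⁻¹ * t, by rw [zero_smul, zero_add, ← smul_smul, ht, smul_smul, inv_mul_cancel₀ hc, one_smul]⟩
  have h2 := D.r_scale hli' (Units.mk0 c hc)⁻¹ 1 (γ / c)
  rw [smul_smul, smul_smul, Units.val_inv_eq_inv_val, Units.val_mk0, Units.val_one,
    inv_mul_cancel₀ hc, one_smul, one_smul, div_mul_cancel₀ _ hc] at h2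
  rw [h2]
  exact Sim.mul D ⟨1, Units.mk0 β hβ, h⟩ _ _

/-- The value on a pair of lines in general position. -/
noncomputable def r34 : ℂ :=
  if h : 3 < s + 3 then D.r (ev F 2) (ev F ⟨3, h⟩) else 0

theorem cell34 {x y : Fin (s + 3) → F} (hx : x ∉ W0 F s)
    (hy : y ∉ Sp (F := F) ![ev F 0, ev F 1, x]) : D.Sim (D.r x y) D.r34 := by
  have h4 := indep_four (indep_three indep_std hx) hy
  have hs : 3 < s + 3 := by
    have := h4.fintype_card_le_finrank
    rw [Fintype.card_fin, Module.finrank_fin_fun] at this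
    omega
  obtain ⟨g, c, hc, hg⟩ := exists_sl_map _ h4 (by omega) 0
  have g0 : ac g (ev F 0) = c • ev F 0 := by simpa using hg 0 (by simp)
  have g1 : ac g (ev F 1) = ev F 1 := by simpa using hg 1 (by simp)
  have g2 : ac g (ev F 2) = x := by
    have := hg 2 (by simp)
    have e2 : (2 : Fin (s + 2 + 1)) = ⟨2, by omega⟩ := Fin.ext (by simp [Nat.mod_eq_of_lt])
    rw [e2]
    simpa using this
  have g3 : ac g (ev F ⟨3, hs⟩) = y := by
    have := hg 3 (by simp; omega)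
    simpa using this
  have h := D.r_map (a := Units.mk0 c hc) (b := 1) (c := 0) g0 (by simpa using g1) (ev F 2) (ev F ⟨3, hs⟩)
  rw [g2, g3] at h
  rw [r34, dif_pos hs]
  exact ⟨_, _, h⟩

/-- A function constant on the cells. -/
structure Cells {β : Type*} [AddCommMonoid β] (f : (Fin (s + 3) → F) → (Fin (s + 3) → F) → β)
    (c1 c13 c2 c23 c31 c32 c34 : β) : Prop where
  zero : ∀ x y, ¬ LinearIndependent F ![x, y] → f x y = 0
  line : ∀ x y, x ∈ L0 F s → x ≠ 0 → y ∈ W0 F s → y ∉ Sp (F := F) ![x] → f x y = c1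
  h13 : ∀ x y, x ∈ L0 F s → x ≠ 0 → y ∉ W0 F s → f x y = c13
  h2 : ∀ x y, x ∈ W0 F s → x ∉ L0 F s → y ∈ W0 F s → y ∉ Sp (F := F) ![x] → f x y = c2
  h23 : ∀ x y, x ∈ W0 F s → x ∉ L0 F s → y ∉ W0 F s → f x y = c23
  h31 : ∀ x y, x ∉ W0 F s → y ∈ Sp (F := F) ![ev F 0, x] → y ∉ Sp (F := F) ![x] → f x y = c31
  h32 : ∀ x y, x ∉ W0 F s → y ∈ Sp (F := F) ![ev F 0, ev F 1, x] →
    y ∉ Sp (F := F) ![ev F 0, x] → f x y = c32
  h34 : ∀ x y, x ∉ W0 F s → y ∉ Sp (F := F) ![ev F 0, ev F 1, x] → f x y = c34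

theorem cells_norm : Cells (fun x y => ‖D.r x y‖ ^ 2) (1 : ℝ) (‖D.r (ev F 0) (ev F 2)‖ ^ 2)
    (‖D.r (ev F 1) (ev F 0)‖ ^ 2) (‖D.r (ev F 1) (ev F 2)‖ ^ 2) (‖D.r (ev F 2) (ev F 0)‖ ^ 2)
    (‖D.r (ev F 2) (ev F 1)‖ ^ 2) (‖D.r34‖ ^ 2) where
  zero x y h := by simp [D.r_of_not h]
  line x y a b c d := by rw [Sim.norm_sq D (D.cell_line a b c d)]; simp
  h13 x y a b c := Sim.norm_sq D (D.cell13 a b c)
  h2 x y a b c d := Sim.norm_sq D (D.cell_in a b c d)
  h23 x y a b c := Sim.norm_sq D (D.cell23 a b c)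
  h31 x y a b c := Sim.norm_sq D (D.cell31 a b c)
  h32 x y a b c := Sim.norm_sq D (D.cell32 a b c)
  h34 x y a b := Sim.norm_sq D (D.cell34 a b)

theorem cells_r (hφ : D.φ = 1) (hψ : D.ψ = 1) : Cells D.r 1 (D.r (ev F 0) (ev F 2))
    (D.r (ev F 1) (ev F 0)) (D.r (ev F 1) (ev F 2)) (D.r (ev F 2) (ev F 0)) (D.r (ev F 2) (ev F 1))
    D.r34 where
  zero x y h := D.r_of_not h
  line x y a b c d := Sim.eq_of_triv D (D.cell_line a b c d) hφ hψ
  h13 x y a b c := Sim.eq_of_triv D (D.cell13 a b c) hφ hψ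
  h2 x y a b c d := Sim.eq_of_triv D (D.cell_in a b c d) hφ hψ
  h23 x y a b c := Sim.eq_of_triv D (D.cell23 a b c) hφ hψ
  h31 x y a b c := Sim.eq_of_triv D (D.cell31 a b c) hφ hψ
  h32 x y a b c := Sim.eq_of_triv D (D.cell32 a b c) hφ hψ
  h34 x y a b := Sim.eq_of_triv D (D.cell34 a b) hφ hψ

section Sums

variable {β : Type*} [AddCommMonoid β] {f : (Fin (s + 3) → F) → (Fin (s + 3) → F) → β}
  {c1 c13 c2 c23 c31 c32 c34 : β}

local notation "qq" => Fintype.card F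

theorem card_W0 : Nat.card (W0 F s) = qq ^ 2 :=
  card_sp (F := F) (W := Fin (s + 3) → F) (v := ![ev F 0, ev F 1]) indep_std

theorem card_L0 : Nat.card (L0 F s) = qq :=
  (card_sp (F := F) (W := Fin (s + 3) → F) (v := ![ev F 0]) (indep_one (by simp))).trans (pow_one _)

theorem le_W0 {x : Fin (s + 3) → F} (hx : x ∈ W0 F s) : Sp (F := F) ![x] ≤ W0 F s := by
  rw [Sp, Submodule.span_le]
  rintro _ ⟨i, rfl⟩
  fin_cases i
  exact hx

theorem not_indep_of_mem {x y : Fin (s + 3) → F} (h : y ∈ Sp (F := F) ![x]) :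
    ¬ LinearIndependent F ![x, y] := fun h' => (indep_two.1 h').2 h

theorem card_sp_one {x : Fin (s + 3) → F} (hx : x ≠ 0) : Nat.card (Sp (F := F) ![x]) = qq :=
  (card_sp (F := F) (W := Fin (s + 3) → F) (v := ![x]) (indep_one hx)).trans (pow_one _)

theorem card_space : Fintype.card (Fin (s + 3) → F) = qq ^ (s + 3) := by
  rw [Fintype.card_fun, Fintype.card_fin]

theorem inner_line (hf : Cells f c1 c13 c2 c23 c31 c32 c34) {x : Fin (s + 3) → F} (hx : x ∈ L0 F s)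
    (hx0 : x ≠ 0) : ∑ y, f x y = (qq ^ 2 - qq) • c1 + (qq ^ (s + 3) - qq ^ 2) • c13 := by
  have hxW : x ∈ W0 F s := by
    obtain ⟨a, rfl⟩ := mem_sp_one.1 hx
    exact mem_sp_pair.2 ⟨a, 0, by simp⟩
  have h := sum_chain2 (F := F) (W := Fin (s + 3) → F) (β := β) (Sp ![x]) (W0 F s) (le_W0 hxW) (f x) c1 c13
    (fun y hy => hf.zero x y (not_indep_of_mem hy)) (fun y h h' => hf.line x y hx hx0 h h')
    (fun y h => hf.h13 x y hx hx0 h)
  rw [card_sp_one hx0, card_W0, card_space] at h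
  exact h

theorem inner_plane (hf : Cells f c1 c13 c2 c23 c31 c32 c34) {x : Fin (s + 3) → F} (hx : x ∈ W0 F s)
    (hx' : x ∉ L0 F s) : ∑ y, f x y = (qq ^ 2 - qq) • c2 + (qq ^ (s + 3) - qq ^ 2) • c23 := by
  have hx0 : x ≠ 0 := fun h => hx' (by rw [h]; exact Submodule.zero_mem _)
  have h := sum_chain2 (F := F) (W := Fin (s + 3) → F) (β := β) (Sp ![x]) (W0 F s) (le_W0 hx) (f x) c2 c23
    (fun y hy => hf.zero x y (not_indep_of_mem hy)) (fun y h h' => hf.h2 x y hx hx' h h')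
    (fun y h => hf.h23 x y hx hx' h)
  rw [card_sp_one hx0, card_W0, card_space] at h
  exact h

theorem inner_out (hf : Cells f c1 c13 c2 c23 c31 c32 c34) {x : Fin (s + 3) → F} (hx : x ∉ W0 F s) :
    ∑ y, f x y = (qq ^ 2 - qq) • c31 + (qq ^ 3 - qq ^ 2) • c32 + (qq ^ (s + 3) - qq ^ 3) • c34 := by
  have hx0 : x ≠ 0 := fun h => hx (by rw [h]; exact Submodule.zero_mem _)
  have h2 : LinearIndependent F ![ev F (0 : Fin (s + 3)), x] := indep_two.2 ⟨by simp, fun h => hx (by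
    obtain ⟨a, ha⟩ := mem_sp_one.1 h
    exact mem_sp_pair.2 ⟨a, 0, by rw [zero_smul, add_zero, ha]⟩)⟩
  have l1 : Sp (F := F) ![x] ≤ Sp (F := F) ![ev F 0, x] := fun y hy => by
    obtain ⟨a, ha⟩ := mem_sp_one.1 hy
    exact mem_sp_pair.2 ⟨0, a, by rw [zero_smul, zero_add, ha]⟩
  have l2 : Sp (F := F) ![ev F 0, x] ≤ Sp (F := F) ![ev F 0, ev F 1, x] := fun y hy => by
    obtain ⟨a, b, hab⟩ := mem_sp_pair.1 hy
    exact mem_sp_three.2 ⟨a, 0, b, by rw [zero_smul, add_zero, hab]⟩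
  have h := sum_chain3 (F := F) (W := Fin (s + 3) → F) (β := β) _ _ _ l1 l2 (f x) c31 c32 c34
    (fun y hy => hf.zero x y (not_indep_of_mem hy)) (fun y h h' => hf.h31 x y hx h h')
    (fun y h h' => hf.h32 x y hx h h') (fun y h => hf.h34 x y hx h)
  rw [card_sp_one hx0, card_sp (F := F) (W := Fin (s + 3) → F) (v := ![ev F 0, x]) h2,
    card_sp (F := F) (W := Fin (s + 3) → F) (v := ![ev F 0, ev F 1, x]) (indep_three indep_std hx),
    card_space] at h
  exact h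

theorem total (hf : Cells f c1 c13 c2 c23 c31 c32 c34) : ∑ x, ∑ y, f x y =
    (qq - 1) • ((qq ^ 2 - qq) • c1 + (qq ^ (s + 3) - qq ^ 2) • c13) +
    (qq ^ 2 - qq) • ((qq ^ 2 - qq) • c2 + (qq ^ (s + 3) - qq ^ 2) • c23) +
    (qq ^ (s + 3) - qq ^ 2) •
      ((qq ^ 2 - qq) • c31 + (qq ^ 3 - qq ^ 2) • c32 + (qq ^ (s + 3) - qq ^ 3) • c34) := by
  have l2 : L0 F s ≤ W0 F s := fun y hy => by
    obtain ⟨a, ha⟩ := mem_sp_one.1 hy
    exact mem_sp_pair.2 ⟨a, 0, by rw [zero_smul, add_zero, ha]⟩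
  rw [sum_chain3 (⊥ : Submodule F (Fin (s + 3) → F)) (L0 F s) (W0 F s) bot_le l2
    (fun x => ∑ y, f x y) _ _ _
    (fun x hx => Finset.sum_eq_zero fun y _ => hf.zero x y fun h => (indep_two.1 h).1 ((Submodule.mem_bot F).1 hx))
    (fun x h h' => inner_line hf h fun h0 => h' (by rw [h0]; exact Submodule.zero_mem _))
    (fun x h h' => inner_plane hf h h') (fun x h => inner_out hf h), card_L0, card_W0,
    Nat.card_eq_fintype_card, Fintype.card_fun, Fintype.card_fin]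
  simp

end Sums

end Flag

end CfsgLib.MinDeg.SLn
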