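import Cfsg.Agent.Lib.KnownB.MinDeg.SLn.Top

/-!
# The representation of the minimal degree: the sum-zero functions on the points
-/

set_option autoImplicit false
set_option linter.unusedSectionVars false
set_option backward.isDefEq.respectTransparency false

open Matrix
open scoped LinearAlgebra.Projectivization

namespace CfsgLib.MinDeg.SLn

variable {F : Type*} [Field F] [Fintype F] [DecidableEq F] {s : ℕ}

/-- The points. -/
abbrev Pt (F : Type*) [Field F] (s : ℕ) := ℙ F (Fin (s + 3) → F)

/-- The action on points. -/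
noncomputable def pact (g : SLg F (s + 2)) : Pt F s → Pt F s :=
  Projectivization.map (Matrix.mulVecLin (g : Matrix (Fin (s + 3)) (Fin (s + 3)) F)) (ac_inj g)

theorem pact_one (p : Pt F s) : pact 1 p = p := by
  induction p using Projectivization.ind with
  | h v hv =>
    rw [pact, Projectivization.map_mk, Projectivization.mk_eq_mk_iff']
    exact ⟨1, by simp⟩

theorem pact_mul (g h : SLg F (s + 2)) (p : Pt F s) : pact (g * h) p = pact g (pact h p) := by
  induction p using Projectivization.ind with
  | h v hv =>
    simp only [pact, Projectivization.map_mk]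
    rw [Projectivization.mk_eq_mk_iff']
    exact ⟨1, by rw [one_smul]; exact (ac_mul g h v).symm⟩

theorem pact_transitive (p p' : Pt F s) : ∃ g, pact g p = p' := by
  induction p using Projectivization.ind with
  | h v hv =>
    induction p' using Projectivization.ind with
    | h w hw =>
      obtain ⟨g, hg⟩ := exists_sl_map_one (F := F) (r := s + 2) (by omega) hv
      obtain ⟨g', hg'⟩ := exists_sl_map_one (F := F) (r := s + 2) (by omega) hw
      refine ⟨g' * g⁻¹, ?_⟩
      rw [pact, Projectivization.map_mk, Projectivization.mk_eq_mk_iff']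
      refine ⟨1, ?_⟩
      rw [one_smul]
      show w = ac (g' * g⁻¹) v
      rw [← hg, ac_mul, ac_inv_ac, hg']

/-- The permutation representation on the points. -/
noncomputable def permRep : Representation ℂ (SLg F (s + 2)) (Pt F s → ℂ) where
  toFun g := LinearMap.funLeft ℂ ℂ (pact g⁻¹)
  map_one' := LinearMap.ext fun f => funext fun p => by simp [LinearMap.funLeft_apply, pact_one]
  map_mul' g h := LinearMap.ext fun f => funext fun p => by
    simp [LinearMap.funLeft_apply, pact_mul]

theorem permRep_apply (g : SLg F (s + 2)) (f : Pt F s → ℂ) (p : Pt F s) :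
    permRep g f p = f (pact g⁻¹ p) := rfl

/-- The functions with sum zero. -/
noncomputable def sumLin [Fintype (Pt F s)] : (Pt F s → ℂ) →ₗ[ℂ] ℂ :=
  ∑ p, LinearMap.proj p

theorem sumLin_apply [Fintype (Pt F s)] (f : Pt F s → ℂ) : sumLin f = ∑ p, f p := by
  simp [sumLin]

theorem exists_minimal_invariant {G : Type*} [Group G] {V : Type*} [AddCommGroup V] [Module ℂ V]
    [FiniteDimensional ℂ V] (ρ : Representation ℂ G V) :
    ∀ W : Submodule ℂ V, W ≠ ⊥ → (∀ g, ∀ v ∈ W, ρ g v ∈ W) →
      ∃ (W' : Submodule ℂ V) (h : ∀ g, ∀ v ∈ W', ρ g v ∈ W'), W' ≤ W ∧ W' ≠ ⊥ ∧ NoProper (resRep W' h) := by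
  intro W
  induction W using (InvImage.wf (fun W : Submodule ℂ V => Module.finrank ℂ W) wellFounded_lt).induction with
  | _ W ih =>
    intro hne hW
    by_cases h : NoProper (resRep W hW)
    · exact ⟨W, hW, le_rfl, hne, h⟩
    · rw [NoProper] at h
      push Not at h
      obtain ⟨U, hU, hU0, hU1⟩ := h
      set U' := U.map W.subtype with hU'
      have hle : U' ≤ W := Submodule.map_subtype_le W U
      have hinv : ∀ g, ∀ v ∈ U', ρ g v ∈ U' := by
        rintro g _ ⟨w, hw, rfl⟩
        exact ⟨_, hU g w hw, rfl⟩
      have hne' : U' ≠ ⊥ := fun h => hU0 (by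
        refine Submodule.map_injective_of_injective W.injective_subtype ?_
        rw [Submodule.map_bot, ← h, hU'])
      have hlt : Module.finrank ℂ U' < Module.finrank ℂ W := by
        rw [hU', Submodule.finrank_map_subtype_eq]
        exact Submodule.finrank_lt hU1
      obtain ⟨W', hW', h1, h2, h3⟩ := ih U' hlt hne' hinv
      exact ⟨W', hW', h1.trans hle, h2, h3⟩

/-- There is a representation of the minimal degree. -/
theorem exists_min_rep (hex0 : s = 0 → Fintype.card F ≠ 2 ∧ Fintype.card F ≠ 4)
    (hex1 : s = 1 → Fintype.card F ≠ 2 ∧ Fintype.card F ≠ 3) :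
    ∃ ρ : Representation ℂ (SLg F (s + 2))
      (Fin ((Fintype.card F ^ (s + 3) - Fintype.card F) / (Fintype.card F - 1)) → ℂ), ρ.IsIrreducible := by
  classical
  have : Fintype (Pt F s) := Fintype.ofFinite _
  set B := (Fintype.card F ^ (s + 3) - Fintype.card F) / (Fintype.card F - 1)
  have hq : 2 ≤ Fintype.card F := Fintype.one_lt_card
  have hB : Fintype.card (Pt F s) = B + 1 := by
    have h := Projectivization.card F (Fin (s + 3) → F)
    rw [Nat.card_eq_fintype_card, Nat.card_eq_fintype_card, Nat.card_eq_fintype_card, Fintype.card_fun,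
      Fintype.card_fin] at h
    show _ = (Fintype.card F ^ (s + 3) - Fintype.card F) / (Fintype.card F - 1) + 1
    rw [show Fintype.card F ^ (s + 3) - Fintype.card F =
      (Fintype.card (Pt F s) - 1) * (Fintype.card F - 1) by rw [Nat.sub_mul, ← h]; omega,
      Nat.mul_div_cancel _ (by omega)]
    have : 0 < Fintype.card (Pt F s) := Fintype.card_pos_iff.2
      ⟨Projectivization.mk F (ev F (0 : Fin (s + 3))) (by simp)⟩
    omega
  obtain ⟨p₀⟩ : Nonempty (Pt F s) := ⟨Projectivization.mk F (ev F (0 : Fin (s + 3))) (by simp)⟩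
  set W := LinearMap.ker (sumLin (F := F) (s := s)) with hW
  have hinv : ∀ g, ∀ f ∈ W, permRep g f ∈ W := by
    intro g f hf
    rw [hW, LinearMap.mem_ker, sumLin_apply] at hf ⊢
    rw [← hf]
    exact Fintype.sum_equiv ⟨pact g⁻¹, pact g, fun p => by rw [← pact_mul, mul_inv_cancel, pact_one],
      fun p => by rw [← pact_mul, inv_mul_cancel, pact_one]⟩ _ _ fun p => rfl
  have hfin : Module.finrank ℂ W = B := by
    have h := LinearMap.finrank_range_add_finrank_ker (sumLin (F := F) (s := s))
    rw [LinearMap.range_eq_top.2 (fun c => ⟨Pi.single p₀ c, by simp [sumLin_apply]⟩), finrank_top,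
      Module.finrank_self, Module.finrank_pi, hB, ← hW] at h
    omega
  have hfix : ∀ f : Pt F s → ℂ, f ∈ W → (∀ g, permRep g f = f) → f = 0 := by
    intro f hf h
    have hconst : ∀ p, f p = f p₀ := fun p => by
      obtain ⟨g, hg⟩ := pact_transitive p p₀
      conv_rhs => rw [← h g, permRep_apply, ← hg, ← pact_mul, inv_mul_cancel, pact_one]
    rw [hW, LinearMap.mem_ker, sumLin_apply, Finset.sum_congr rfl fun p _ => hconst p, Finset.sum_const,
      nsmul_eq_mul] at hf
    funext p
    rw [hconst p]
    exact (mul_eq_zero.1 hf).resolve_left (Nat.cast_ne_zero.2 (by rw [Finset.card_univ, hB]; omega))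
  have hB0 : 0 < B := by
    apply Nat.div_pos
    · have : Fintype.card F ^ 2 ≤ Fintype.card F ^ (s + 3) := Nat.pow_le_pow_right (by omega) (by omega)
      have h2 : Fintype.card F * 2 ≤ Fintype.card F ^ 2 := by rw [sq]; exact Nat.mul_le_mul_left _ hq
      omega
    · omega
  have hne : W ≠ ⊥ := fun h => by
    have h2 := hfin
    rw [h, finrank_bot] at h2
    omega
  set π := resRep W hinv
  have hirr : NoProper π := by
    intro U hU
    by_cases hU0 : U = ⊥
    · exact Or.inl hU0
    right
    set U' := U.map W.subtype with hU'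
    have hinv' : ∀ g, ∀ f ∈ U', permRep g f ∈ U' := by
      rintro g _ ⟨w, hw, rfl⟩
      exact ⟨_, hU g w hw, rfl⟩
    obtain ⟨U'', hU'', hle, hne'', hnp⟩ := exists_minimal_invariant permRep U' (fun h => hU0 (by
      refine Submodule.map_injective_of_injective W.injective_subtype ?_
      rw [Submodule.map_bot, ← h, hU'])) hinv'
    have hsub : U' ≤ W := Submodule.map_subtype_le W U
    have : Nontrivial U'' := Submodule.nontrivial_iff_ne_bot.2 hne''
    have hbd := sl_degree_bound (resRep U'' hU'') hnp
      (fun w hw => Subtype.ext (hfix _ (hsub (hle w.2)) fun g => congrArg Subtype.val (hw g))) hex0 hex1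
    have h1 : B ≤ Module.finrank ℂ U'' := by
      apply Nat.div_le_of_le_mul
      have hpow : Fintype.card F ≤ Fintype.card F ^ (s + 3) := Nat.le_self_pow (by omega) _
      rw [mul_comm]
      apply (Nat.cast_le (α := ℝ)).1
      rw [Nat.cast_mul, Nat.cast_sub hpow, Nat.cast_sub (by omega : 1 ≤ Fintype.card F), Nat.cast_pow,
        Nat.cast_one]
      exact hbd
    have h2 : Module.finrank ℂ U'' ≤ Module.finrank ℂ U' := Submodule.finrank_mono hle
    rw [hU', Submodule.finrank_map_subtype_eq] at h2
    refine Submodule.eq_top_of_finrank_eq (le_antisymm (Submodule.finrank_le _) ?_)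
    omega
  let e : W ≃ₗ[ℂ] (Fin B → ℂ) := LinearEquiv.ofFinrankEq _ _ (by rw [hfin, Module.finrank_fin_fun])
  let ρ : Representation ℂ (SLg F (s + 2)) (Fin B → ℂ) :=
    { toFun := fun g => e.conj (π g)
      map_one' := by rw [map_one]; exact LinearEquiv.conj_id e
      map_mul' := fun g h => by rw [map_mul]; exact LinearEquiv.conj_comp e (π h) (π g) }
  have : Nontrivial (Fin B → ℂ) := by
    have : Nonempty (Fin B) := ⟨⟨0, hB0⟩⟩
    infer_instance
  refine ⟨ρ, irreducible_of_noProper fun U hU => ?_⟩
  rcases hirr (U.comap e.toLinearMap) (fun g v hv => by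
    have := hU g (e v) hv
    simpa [ρ, LinearEquiv.conj_apply] using this) with h | h
  · left
    rw [Submodule.eq_bot_iff] at h ⊢
    intro v hv
    have := h (e.symm v) (by simpa using hv)
    simpa using congrArg e this
  · right
    rw [Submodule.eq_top_iff'] at h ⊢
    intro v
    have := h (e.symm v)
    simpa using this

end CfsgLib.MinDeg.SLn
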