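import Cfsg.Agent.Lib.KnownB.MinDeg.SLn.Cells

/-!
# The minimal degree of `SL n`
-/

set_option autoImplicit false
set_option linter.unusedSectionVars false
set_option backward.isDefEq.respectTransparency false

open Matrix
open scoped ComplexConjugate

namespace CfsgLib.MinDeg.SLn

variable {F : Type*} [Field F] [Fintype F] [DecidableEq F]
  {V : Type*} [AddCommGroup V] [Module ℂ V] [FiniteDimensional ℂ V] {s : ℕ}
  {π : Representation ℂ (SLg F (s + 2)) V} {I : InvForm π}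

local notation "qq" => Fintype.card F

theorem indep_ac {n : ℕ} (g : SLg F n) {x y : Fin (n + 1) → F} (h : LinearIndependent F ![x, y]) :
    LinearIndependent F ![ac g x, ac g y] := by
  rw [indep_two] at h ⊢
  refine ⟨ac_ne_zero g h.1, fun hy => h.2 ?_⟩
  obtain ⟨a, ha⟩ := mem_sp_one.1 hy
  exact mem_sp_one.2 ⟨a, ac_inj g (by rw [ac_smul, ha])⟩

theorem noProper_pi (hle : DimLe π) (hno : ∀ v, MFix π v → v = 0) : NoProper π :=
  noProper_of_weights (by omega) π (MonoidHom.id _) hle (sl_transitive (by omega) π)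
    fun v hv => hno v fun g _ => hv g

theorem weight_pos [Nontrivial V] (hle : DimLe π) (hno : ∀ v, MFix π v → v = 0) {d : ℕ}
    (hd : ∀ χ : AddChar (Fin (s + 2) → F) ℂ, χ ≠ 0 → Module.finrank ℂ (weightSpace π u χ) = d) :
    d = 1 := by
  classical
  obtain ⟨ψ₀, hψ⟩ := exists_char (F := F)
  have hne : (ev F (0 : Fin (s + 2))) ≠ 0 := by simp
  have hχ : ch ψ₀ (ev F (0 : Fin (s + 2))) ≠ 0 := fun h =>
    hne ((ch_bijective hψ).1 (h.trans (ch_zero ψ₀).symm))
  refine le_antisymm ((hd _ hχ) ▸ hle _ hχ) (Nat.one_le_iff_ne_zero.2 fun h0 => ?_)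
  obtain ⟨v, hv⟩ := exists_ne (0 : V)
  refine hv (hno v ?_)
  let K : Subgroup (SLg F (s + 2)) :=
    { carrier := {g | π g = 1}
      one_mem' := map_one π
      mul_mem' := fun {g h} (hg : π g = 1) (hh : π h = 1) => by
        show π (g * h) = 1; rw [map_mul, hg, hh, one_mul]
      inv_mem' := fun {g} (hg : π g = 1) => by
        show π g⁻¹ = 1
        calc π g⁻¹ = π g⁻¹ * π g := by rw [hg, mul_one]
          _ = 1 := by rw [← map_mul, inv_mul_cancel, map_one] }
  have hQ : ∀ a, π (u a) = 1 := fun a => LinearMap.ext fun w => by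
    have hw : w ∈ fixQ π := by
      rw [← sum_proj (ρ := π) (u := u) (u_add (F := F) (r := s + 2)) w]
      refine Submodule.sum_mem _ fun χ _ => ?_
      have hm := proj_mem (ρ := π) (u := u) (u_add (F := F) (r := s + 2)) χ w
      by_cases hc : χ = 0
      · subst hc; exact hm
      · rw [Submodule.finrank_eq_zero.1 ((hd χ hc).trans h0)] at hm
        rw [(Submodule.mem_bot ℂ).1 hm]
        exact Submodule.zero_mem _
    exact mem_fixQ.1 hw a
  have hK : K = ⊤ := eq_top_of_conj_u (by omega) K fun g a => by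
    show π _ = 1
    rw [map_mul, map_mul, hQ, mul_one, ← map_mul, mul_inv_cancel, map_one]
  intro g _
  rw [show π g = 1 from (hK ▸ Subgroup.mem_top g : g ∈ K)]
  rfl

/-- The dimension. -/
theorem finrank_eq [Nontrivial V] (hle : DimLe π) (hno : ∀ v, MFix π v → v = 0) :
    (Module.finrank ℂ V : ℝ) = Module.finrank ℂ (fixQ π) + ((qq : ℝ) ^ (s + 2) - 1) := by
  obtain ⟨d, hd⟩ := exists_uniform π (MonoidHom.id _) (sl_transitive (by omega) π)
  have hd1 := weight_pos hle hno hd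
  have h := finrank_eq_of_uniform (ρ := π) u_add hd
  rw [Fintype.card_fun, Fintype.card_fin, hd1, one_mul] at h
  rw [h, Nat.cast_add, Nat.cast_sub (Nat.one_le_pow _ _ Fintype.card_pos)]
  simp

/-- The non-zero fixed space of the radical has non-zero fixed vectors of the next radical. -/
theorem sigQ_ne_bot (hle : DimLe π) (hno : ∀ v, MFix π v → v = 0) (I : InvForm π)
    (hne : fixQ π ≠ ⊥) : fixQ ((sig π).comp Matrix.SpecialLinearGroup.toGL) ≠ ⊥ := by
  classical
  intro hbot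
  obtain ⟨a₀, ha₀, ha₀0⟩ := Submodule.exists_mem_ne_zero_of_ne_bot hne
  have : Nontrivial V := ⟨⟨a₀, 0, ha₀0⟩⟩
  obtain ⟨c, hc0, hc⟩ := I.exists_unit ha₀0
  set a : fixQ π := ⟨c • a₀, (fixQ π).smul_mem c ha₀⟩ with ha
  have hPstab : ∀ {p : SLg F (s + 2)}, ac p (ev F 0) = ev F 0 → ∀ v ∈ fixQ π, π p v ∈ fixQ π := by
    intro p hp v hv
    obtain ⟨w, A, rfl, -⟩ := exists_decomp (c := (1 : F)) (by rw [one_smul]; exact hp)
    rw [map_mul, Module.End.mul_apply, mem_fixQ.1 (fixQ_invariant π A v hv) w]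
    exact fixQ_invariant π A v hv
  obtain ⟨n₀, hn⟩ := exists_sl_map_exact (F := F) (r := s + 2) ![ev F (1 : Fin (s + 3))] (indep_one (by simp)) (by omega)
  have hn0 : ac n₀ (ev F 0) = ev F 1 := hn 0 (by simp)
  have hoff : ∀ v w : fixQ π, I.B (v : V) (π n₀ (w : V)) = 0 := by
    intro v w
    have hav : ∑ b : Fin (s + 1) → F, π (lev (Matrix.SpecialLinearGroup.toGL (u b))) (v : V) = 0 := by
      have h : ∑ b : Fin (s + 1) → F, ((sig π).comp Matrix.SpecialLinearGroup.toGL) (u b) v ∈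
          fixQ ((sig π).comp Matrix.SpecialLinearGroup.toGL) := mem_fixQ.2 fun a => by
        rw [map_sum]
        refine Fintype.sum_equiv (Equiv.addLeft a) _ _ fun b => ?_
        rw [Equiv.coe_addLeft, u_add, map_mul, Module.End.mul_apply]
      rw [hbot, Submodule.mem_bot] at h
      have := congrArg Subtype.val h
      rw [AddSubmonoidClass.coe_finsetSum] at this
      exact this
    have hfix : ∀ b : Fin (s + 1) → F,
        π (lev (Matrix.SpecialLinearGroup.toGL (u b))) (π n₀ (w : V)) = π n₀ (w : V) := by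
      intro b
      set φ : Fin (s + 3) → F := Fin.cons 0 (Fin.cons 0 b) with hφ
      have h1 : φ ⬝ᵥ ev F 1 = 0 := by
        simp only [hφ, dotProduct_single, mul_one]
        rw [← Fin.succ_zero_eq_one, Fin.cons_succ, Fin.cons_zero]
      have hg : lev (Matrix.SpecialLinearGroup.toGL (u b)) = CfsgLib.KnownA.MinIndex.T (ev F 1) φ := by
        refine sl_ext_ac fun i => ?_
        generalize ev F i = z
        rw [lev_ac, show ac (CfsgLib.KnownA.MinIndex.T (ev F 1) φ) z = z + (φ ⬝ᵥ z) • ev F 1 from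
          CfsgLib.KnownA.MinIndex.T_mulVec h1 z,
          show ((Matrix.SpecialLinearGroup.toGL (u b) : GL (Fin (s + 2)) F) :
            Matrix (Fin (s + 2)) (Fin (s + 2)) F) = ((u b : SLg F (s + 1)) : Matrix _ _ F) from rfl,
          (u b).2, inv_one, one_mul, show ((u b : SLg F (s + 1)) : Matrix _ _ F) *ᵥ Fin.tail z =
            ac (u b) (Fin.tail z) from rfl, u_ac]
        have hdot : φ ⬝ᵥ z = b ⬝ᵥ Fin.tail (Fin.tail z) := by
          simp [hφ, dotProduct, Fin.sum_univ_succ, Fin.tail]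
        rw [hdot]
        funext k
        refine Fin.cases ?_ ?_ k
        · simp [(idx_ne (s := s)).1]
        · intro k
          simp only [Fin.cons_succ, Pi.add_apply, Pi.smul_apply, Fin.tail, smul_eq_mul]
          congr 2
          simp only [Pi.single_apply]
          exact if_congr (by rw [← Fin.succ_zero_eq_one', Fin.succ_inj]) rfl rfl
      obtain ⟨a', ha'⟩ : ∃ a', CfsgLib.KnownA.MinIndex.T (ev F 1) φ * n₀ = n₀ * u a' := by
        set φ' := φ ᵥ* (n₀ : Matrix (Fin (s + 3)) (Fin (s + 3)) F) with hφ'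
        have h0 : φ' ⬝ᵥ ev F 0 = 0 := by
          rw [hφ', ← Matrix.dotProduct_mulVec, show (n₀ : Matrix (Fin (s + 3)) (Fin (s + 3)) F) *ᵥ ev F 0 =
            ev F 1 from hn0, h1]
        refine ⟨Fin.tail φ', sl_ext_ac fun i => ?_⟩
        generalize ev F i = z
        rw [ac_mul, ac_mul, show ac (CfsgLib.KnownA.MinIndex.T (ev F 1) φ) (ac n₀ z) = ac n₀ z +
          (φ ⬝ᵥ ac n₀ z) • ev F 1 from CfsgLib.KnownA.MinIndex.T_mulVec h1 _, u_ac, ac_add, ac_smul, hn0]
        congr 2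
        rw [show φ ⬝ᵥ ac n₀ z = φ' ⬝ᵥ z from Matrix.dotProduct_mulVec _ _ _]
        have h00 : φ' 0 = 0 := by simpa using h0
        simp [dotProduct, Fin.sum_univ_succ, Fin.tail, h00]
      rw [hg, ← Module.End.mul_apply, ← map_mul, ha', map_mul, Module.End.mul_apply, mem_fixQ.1 w.2 a']
    have h2 : ∑ b : Fin (s + 1) → F,
        I.B (π (lev (Matrix.SpecialLinearGroup.toGL (u b))) (v : V)) (π n₀ (w : V)) =
        ∑ _b : Fin (s + 1) → F, I.B (v : V) (π n₀ (w : V)) := Finset.sum_congr rfl fun b _ => by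
      conv_lhs => rw [← hfix b]
      exact I.inv _ _ _
    have h3 : ∑ b : Fin (s + 1) → F,
        I.B (π (lev (Matrix.SpecialLinearGroup.toGL (u b))) (v : V)) (π n₀ (w : V)) = 0 := by
      rw [← I.zero_left (π n₀ (w : V)), ← hav, ← I.conj_symm, I.sum_right, map_sum]
      simp only [I.conj_symm]
    rw [h3, Finset.sum_const, nsmul_eq_mul] at h2
    exact (mul_eq_zero.1 h2.symm).resolve_left (Nat.cast_ne_zero.2 (by simp [Fintype.card_ne_zero]))
  set Rf : SLg F (s + 2) → ℝ := fun g => ‖I.B (a : V) (π g (a : V))‖ ^ 2 with hR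
  have hzero : ∀ g, ac g (ev F 0) ∉ Flag.L0 F s → Rf g = 0 := by
    intro g hg
    have hli : LinearIndependent F ![ev F (0 : Fin (s + 3)), ac g (ev F 0)] := indep_two.2 ⟨by simp, hg⟩
    obtain ⟨h, h0, h1⟩ := Flag.exists_g hli
    set p := (h * n₀)⁻¹ * g with hp
    have hp0 : ac p (ev F 0) = ev F 0 := by
      apply ac_inj (h * n₀)
      rw [← ac_mul, hp, mul_inv_cancel_left, ac_mul, hn0, h1]
    have hh : ac h⁻¹ (ev F 0) = ev F 0 := by
      conv_lhs => rw [← h0]
      exact ac_inv_ac h _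
    show ‖I.B (a : V) (π g (a : V))‖ ^ 2 = 0
    rw [show g = h * (n₀ * p) by rw [← mul_assoc, hp, mul_inv_cancel_left], map_mul, Module.End.mul_apply,
      I.inv_right, map_mul, Module.End.mul_apply,
      hoff ⟨_, hPstab hh _ a.2⟩ ⟨_, hPstab hp0 _ a.2⟩, norm_zero, zero_pow two_ne_zero]
  -- sums over the parabolic
  have hpar : ∀ f : SLg F (s + 2) → ℝ, ∑ g, (if ac g (ev F 0) ∈ Flag.L0 F s then f g else 0) =
      ∑ v : Fin (s + 2) → F, ∑ A : GL (Fin (s + 2)) F, f (u v * lev A) := by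
    intro f
    rw [← Finset.sum_filter, ← Fintype.sum_prod_type']
    symm
    refine Finset.sum_bij (fun p _ => u p.1 * lev p.2) (fun p _ => ?_) (fun p _ p' _ h => ?_)
      (fun g hg => ?_) (fun p _ => rfl)
    · rw [Finset.mem_filter, ac_mul, lev_ev0, ac_smul, u_ev0]
      exact ⟨Finset.mem_univ _, mem_sp_one.2 ⟨_, rfl⟩⟩
    · exact Prod.ext (u_lev_inj h).1 (u_lev_inj h).2
    · obtain ⟨t, ht⟩ := mem_sp_one.1 (Finset.mem_filter.1 hg).2
      obtain ⟨v, A, rfl, -⟩ := exists_decomp (c := t) ht.symm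
      exact ⟨(v, A), Finset.mem_univ _, rfl⟩
  have hsum : ∑ g, Rf g = (qq : ℝ) ^ (s + 2) * ∑ A : GL (Fin (s + 2)) F, Rf (lev A) := by
    have h1 : ∀ g, Rf g = if ac g (ev F 0) ∈ Flag.L0 F s then Rf g else 0 := fun g => by
      by_cases hg : ac g (ev F 0) ∈ Flag.L0 F s
      · rw [if_pos hg]
      · rw [if_neg hg, hzero g hg]
    rw [Finset.sum_congr rfl fun g _ => h1 g, hpar]
    have h2 : ∀ v A, Rf (u v * lev A) = Rf (lev A) := fun v A => by
      show ‖_‖ ^ 2 = ‖_‖ ^ 2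
      rw [map_mul, Module.End.mul_apply, mem_fixQ.1 (fixQ_invariant π A _ a.2) v]
    simp only [h2]
    rw [Finset.sum_const, nsmul_eq_mul, Finset.card_univ, Fintype.card_fun, Fintype.card_fin]
    simp
  have hG := schur (noProper_pi hle hno) I (e := (a : V)) hc
  have hL := schur (sig_noProper hle hno) I.sig (e := a) hc
  change (Module.finrank ℂ (fixQ π) : ℝ) * ∑ A : GL (Fin (s + 2)) F, Rf (lev A) = _ at hL
  change (Module.finrank ℂ V : ℝ) * ∑ g, Rf g = _ at hG
  -- the number of points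
  have hcount : ((qq : ℝ) ^ (s + 3) - 1) * ((qq : ℝ) ^ (s + 2) * Fintype.card (GL (Fin (s + 2)) F)) =
      Fintype.card (SLg F (s + 2)) * ((qq : ℝ) - 1) := by
    let α := {x : Fin (s + 3) → F // x ≠ 0}
    have ht := sum_transitive (G := SLg F (s + 2)) (α := α)
      (fun g => ⟨ac g (ev F 0), ac_ne_zero g (by simp)⟩)
      (fun g x => ⟨ac g x.1, ac_ne_zero g x.2⟩) (fun g k => Subtype.ext (ac_mul g k _))
      (fun x => by
        obtain ⟨g, hg⟩ := exists_sl_map_one (F := F) (r := s + 2) (by omega) x.2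
        exact ⟨g, Subtype.ext hg⟩)
      (fun x => if x.1 ∈ Flag.L0 F s then (1 : ℝ) else 0)
    rw [hpar fun _ => 1] at ht
    have hα : (Fintype.card α : ℝ) = (qq : ℝ) ^ (s + 3) - 1 := by
      rw [Fintype.card_subtype_compl, Fintype.card_subtype_eq, Fintype.card_fun, Fintype.card_fin,
        Nat.cast_sub (Nat.one_le_pow _ _ Fintype.card_pos)]
      simp
    have hL0 : ∑ x : α, (if x.1 ∈ Flag.L0 F s then (1 : ℝ) else 0) = (qq : ℝ) - 1 := by
      have := sum_chain2 (F := F) (W := Fin (s + 3) → F) (β := ℝ) ⊥ (Flag.L0 F s) bot_le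
        (fun x => if x ≠ 0 then (if x ∈ Flag.L0 F s then (1 : ℝ) else 0) else 0) 1 0
        (fun y hy => by simp [(Submodule.mem_bot F).1 hy])
        (fun y hy hy' => by rw [if_pos (fun h => hy' ((Submodule.mem_bot F).2 h)), if_pos hy])
        (fun y hy => by rw [if_pos (fun h => hy (by rw [h]; exact Submodule.zero_mem _)), if_neg hy])
      rw [← Finset.sum_filter, Finset.sum_subtype (p := fun x => x ≠ 0) _ (fun x => by simp)] at this
      rw [this, Flag.card_L0, Nat.card_eq_fintype_card]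
      simp [Nat.cast_sub (Fintype.card_pos (α := F))]
    simp only [nsmul_eq_mul, hα, hL0, Finset.sum_const, Finset.card_univ, mul_one,
      Fintype.card_fun, Fintype.card_fin, Nat.cast_pow] at ht
    exact ht
  have hD := finrank_eq hle hno
  rw [hsum] at hG
  have hqp : (0 : ℝ) < qq := Nat.cast_pos.2 Fintype.card_pos
  have hGL : (0 : ℝ) < Fintype.card (GL (Fin (s + 2)) F) := Nat.cast_pos.2 Fintype.card_pos
  have hf1 : (1 : ℝ) ≤ Module.finrank ℂ (fixQ π) := by
    exact_mod_cast Nat.one_le_iff_ne_zero.2 fun h => hne (Submodule.finrank_eq_zero.1 h)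
  set f : ℝ := (Module.finrank ℂ (fixQ π) : ℝ)
  set S := ∑ A : GL (Fin (s + 2)) F, Rf (lev A)
  have key : (f + ((qq : ℝ) ^ (s + 2) - 1)) * ((qq : ℝ) - 1) = f * ((qq : ℝ) ^ (s + 3) - 1) := by
    have hS : S ≠ 0 := fun h => by rw [h, mul_zero] at hL; linarith
    apply mul_right_cancel₀ (mul_ne_zero hS (pow_ne_zero (s + 2) hqp.ne'))
    rw [← hD]
    linear_combination ((qq : ℝ) - 1) * hG - ((qq : ℝ) ^ (s + 3) - 1) * (qq : ℝ) ^ (s + 2) * hL - hcount
  have hq2 : (2 : ℝ) ≤ qq := by exact_mod_cast Fintype.one_lt_card (α := F)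
  have hN : (1 : ℝ) < (qq : ℝ) ^ (s + 2) := one_lt_pow₀ (by linarith) (by omega)
  rw [pow_succ' (qq : ℝ) (s + 2)] at key
  nlinarith [mul_le_mul_of_nonneg_right hf1 (show 0 ≤ (qq : ℝ) * ((qq : ℝ) ^ (s + 2) - 1) by nlinarith)]

omit [Fintype F] [DecidableEq F] in
theorem tail_ev1 : Fin.tail (ev F (1 : Fin (s + 3))) = ev F (0 : Fin (s + 2)) := by
  funext i
  simp only [Fin.tail, Pi.single_apply]
  exact if_congr (by rw [← Fin.succ_zero_eq_one', Fin.succ_inj]) rfl rfl

omit [Fintype F] [DecidableEq F] in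
theorem u_ev1 (a : Fin (s + 2) → F) : ac (u a) (ev F (1 : Fin (s + 3))) = ev F 1 + a 0 • ev F 0 := by
  rw [u_ac, tail_ev1]
  simp

namespace Flag

variable (D : Flag π I)

theorem e_mem : D.e ∈ fixQ π := mem_fixQ.2 fun a => D.fix _ (a 0) (u_ev0 a) (u_ev1 a)

theorem star (hno : ∀ v, MFix π v → v = 0) (x : Fin (s + 3) → F) : ∑ y, D.Φ x y = 0 := by
  classical
  by_cases hx : x = 0
  · exact Finset.sum_eq_zero fun y _ => D.phi_of_not fun h => (indep_two.1 h).1 hx
  obtain ⟨g, rfl⟩ := exists_sl_map_one (F := F) (r := s + 2) (by omega) hx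
  have hmove : ∀ (g : SLg F (s + 2)) z, ∑ y, D.Φ (ac g z) y = π g (∑ y, D.Φ z y) := by
    intro g z
    rw [map_sum]
    symm
    refine Fintype.sum_equiv
      ⟨ac g, ac g⁻¹, fun y => ac_inv_ac g y, fun y => ac_ac_inv g y⟩ _ _ fun y => ?_
    exact (D.phi_map g z y).symm
  rw [hmove, hno (∑ y, D.Φ (ev F 0) y) fun m hm => by rw [← hmove, hm], map_zero]

theorem r_star (hno : ∀ v, MFix π v → v = 0) (x : Fin (s + 3) → F) : ∑ y, D.r x y = 0 := by
  simp only [Flag.r]
  rw [← I.sum_right, D.star hno, I.zero_right]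

omit [FiniteDimensional ℂ V] in
theorem cast_q : (((qq ^ 2 - qq : ℕ)) : ℝ) = (qq : ℝ) ^ 2 - qq ∧
    (((qq ^ 3 - qq ^ 2 : ℕ)) : ℝ) = (qq : ℝ) ^ 3 - (qq : ℝ) ^ 2 ∧
    (((qq ^ (s + 3) - qq ^ 2 : ℕ)) : ℝ) = (qq : ℝ) ^ (s + 3) - (qq : ℝ) ^ 2 ∧
    (((qq ^ (s + 3) - qq ^ 3 : ℕ)) : ℝ) = (qq : ℝ) ^ (s + 3) - (qq : ℝ) ^ 3 ∧
    (((qq - 1 : ℕ)) : ℝ) = (qq : ℝ) - 1 := by
  have h1 : 1 ≤ qq := Fintype.card_pos
  refine ⟨?_, ?_, ?_, ?_, ?_⟩ <;> rw [Nat.cast_sub] <;> push_cast <;> try rfl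
  · nlinarith
  · exact Nat.pow_le_pow_right h1 (by norm_num)
  · exact Nat.pow_le_pow_right h1 (by omega)
  · exact Nat.pow_le_pow_right h1 (by omega)
  · exact h1

/-- The totals over pairs. -/
theorem total_real {f : (Fin (s + 3) → F) → (Fin (s + 3) → F) → ℝ} {c1 c13 c2 c23 c31 c32 c34 : ℝ}
    (hf : Cells f c1 c13 c2 c23 c31 c32 c34) : ∑ x, ∑ y, f x y =
      cellTotal (qq : ℝ) ((qq : ℝ) ^ (s + 3)) c1 c13 c2 c23 c31 c32 c34 := by
  obtain ⟨h1, h2, h3, h4, h5⟩ := cast_q (F := F) (s := s)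
  rw [total hf, cellTotal]
  simp only [nsmul_eq_mul, h1, h2, h3, h4, h5]

/-- The norm relation over pairs. -/
theorem schur_pairs (hirr : NoProper π) :
    (Module.finrank ℂ V : ℝ) * ∑ x, ∑ y, ‖D.r x y‖ ^ 2 =
      ((qq : ℝ) ^ (s + 3) - 1) * ((qq : ℝ) ^ (s + 3) - qq) := by
  classical
  let α := {p : (Fin (s + 3) → F) × (Fin (s + 3) → F) // LinearIndependent F ![p.1, p.2]}
  have ht := sum_transitive (G := SLg F (s + 2)) (α := α)
    (fun g => ⟨(ac g (ev F 0), ac g (ev F 1)), indep_ac g indep_std⟩)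
    (fun g p => ⟨(ac g p.1.1, ac g p.1.2), indep_ac g p.2⟩)
    (fun g k => Subtype.ext (Prod.ext (ac_mul g k _) (ac_mul g k _)))
    (fun p => by
      obtain ⟨g, h0, h1⟩ := exists_g p.2
      exact ⟨g, Subtype.ext (Prod.ext h0 h1)⟩)
    (fun p => ‖D.r p.1.1 p.1.2‖ ^ 2)
  have hsub : ∀ f : (Fin (s + 3) → F) → (Fin (s + 3) → F) → ℝ,
      (∀ x y, ¬ LinearIndependent F ![x, y] → f x y = 0) → ∑ p : α, f p.1.1 p.1.2 = ∑ x, ∑ y, f x y := by
    intro f hf
    rw [← Fintype.sum_prod_type', ← Finset.sum_subtype (Finset.univ.filter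
      fun p : (Fin (s + 3) → F) × (Fin (s + 3) → F) => LinearIndependent F ![p.1, p.2])
      (fun p => by simp) (fun p => f p.1 p.2), Finset.sum_filter]
    refine Finset.sum_congr rfl fun p _ => ?_
    split_ifs with h
    · rfl
    · exact (hf _ _ h).symm
  have hcard : (Fintype.card α : ℝ) = ((qq : ℝ) ^ (s + 3) - 1) * ((qq : ℝ) ^ (s + 3) - qq) := by
    have h := hsub (fun x y => if LinearIndependent F ![x, y] then 1 else 0) fun x y h => if_neg h
    rw [Finset.sum_congr rfl (fun p _ => if_pos p.2), Finset.sum_const, Finset.card_univ, nsmul_eq_mul,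
      mul_one] at h
    rw [h, total_real (c1 := 1) (c13 := 1) (c2 := 1) (c23 := 1) (c31 := 1) (c32 := 1) (c34 := 1) ?_, cellTotal]
    · ring
    · refine ⟨fun x y h => if_neg h, fun x y a b c d => if_pos (indep_two.2 ⟨b, d⟩),
        fun x y a b c => if_pos (indep_two.2 ⟨b, fun h => ?_⟩),
        fun x y a b c d => if_pos (indep_two.2 ⟨fun h => b (by rw [h]; exact Submodule.zero_mem _), d⟩),
        fun x y a b c => if_pos (indep_two.2 ⟨fun h => b (by rw [h]; exact Submodule.zero_mem _), fun h => c (le_W0 a h)⟩),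
        fun x y a b c => if_pos (indep_two.2 ⟨fun h => a (by rw [h]; exact Submodule.zero_mem _), c⟩),
        fun x y a b c => if_pos (indep_two.2 ⟨fun h => a (by rw [h]; exact Submodule.zero_mem _), fun h => c ?_⟩),
        fun x y a b => if_pos (indep_two.2 ⟨fun h => a (by rw [h]; exact Submodule.zero_mem _), fun h => b ?_⟩)⟩
      · obtain ⟨t, rfl⟩ := mem_sp_one.1 a
        obtain ⟨t', rfl⟩ := mem_sp_one.1 h
        exact c (mem_sp_pair.2 ⟨t' * t, 0, by rw [zero_smul, add_zero, smul_smul]⟩)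
      · obtain ⟨t, rfl⟩ := mem_sp_one.1 h
        exact mem_sp_pair.2 ⟨0, t, by rw [zero_smul, zero_add]⟩
      · obtain ⟨t, rfl⟩ := mem_sp_one.1 h
        exact mem_sp_three.2 ⟨0, 0, t, by rw [zero_smul, zero_smul, zero_add, zero_add]⟩
  have hG := schur hirr I D.unit
  have hfun : ∀ g : SLg F (s + 2), D.r (ac g (ev F 0)) (ac g (ev F 1)) = I.B D.e (π g D.e) := fun g => by
    rw [Flag.r, D.phi_eq rfl rfl]
  simp only [nsmul_eq_mul, hfun, hsub (fun x y => ‖D.r x y‖ ^ 2) (fun x y h => by simp [D.r_of_not h])] at ht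
  rw [← hcard]
  refine mul_left_cancel₀ (Nat.cast_ne_zero.2 Fintype.card_ne_zero : (Fintype.card (SLg F (s + 2)) : ℝ) ≠ 0) ?_
  linear_combination (Fintype.card α : ℝ) * hG - (Module.finrank ℂ V : ℝ) * ht

theorem lev_phi (A : GL (Fin (s + 2)) F) : π (lev A) D.e = D.Φ
    (((A : Matrix (Fin (s + 2)) (Fin (s + 2)) F).det)⁻¹ • ev F 0)
    (Fin.cons 0 ((A : Matrix (Fin (s + 2)) (Fin (s + 2)) F) *ᵥ ev F 0)) := by
  refine (D.phi_eq (lev_ev0 A) ?_).symm
  rw [lev_ac, tail_ev1]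
  congr 1
  simp [(idx_ne (s := s)).1]

omit [FiniteDimensional ℂ V] in
theorem cons_indep {w : Fin (s + 2) → F} (hw : w ≠ 0) :
    LinearIndependent F ![ev F (0 : Fin (s + 3)), Fin.cons 0 w] := by
  refine indep_two.2 ⟨by simp, fun h => hw ?_⟩
  obtain ⟨a, ha⟩ := mem_sp_one.1 h
  funext i
  have := congrFun ha i.succ
  simpa [Fin.succ_ne_zero] using this.symm

omit [FiniteDimensional ℂ V] in
theorem cons_mem_W0 {w : Fin (s + 2) → F} :
    (Fin.cons 0 w : Fin (s + 3) → F) ∈ W0 F s ↔ w ∈ Sp (F := F) ![ev F (0 : Fin (s + 2))] := by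
  have he : (ev F (1 : Fin (s + 3))) = Fin.cons 0 (ev F (0 : Fin (s + 2))) := by
    funext k
    refine Fin.cases ?_ ?_ k
    · simp [(idx_ne (s := s)).1]
    · intro k
      simp only [Fin.cons_succ, Pi.single_apply]
      exact if_congr (by rw [← Fin.succ_zero_eq_one', Fin.succ_inj]) rfl rfl
  rw [mem_sp_pair, mem_sp_one]
  constructor
  · rintro ⟨a, b, h⟩
    refine ⟨b, funext fun i => ?_⟩
    have := congrFun h i.succ
    simpa [he, Fin.succ_ne_zero] using this
  · rintro ⟨b, rfl⟩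
    refine ⟨0, b, ?_⟩
    rw [he, zero_smul, zero_add]
    funext k
    refine Fin.cases ?_ ?_ k <;> simp

/-- The dimension of the fixed space of the radical. -/
theorem fixQ_dim (hle : DimLe π) (hno : ∀ v, MFix π v → v = 0) :
    (Module.finrank ℂ (fixQ π) : ℝ) *
      (((qq : ℝ) - 1) + ((qq : ℝ) ^ (s + 2) - qq) * ‖D.r (ev F 0) (ev F 2)‖ ^ 2) =
      (qq : ℝ) ^ (s + 2) - 1 := by
  classical
  let α := {w : Fin (s + 2) → F // w ≠ 0}
  set Rw : (Fin (s + 2) → F) → ℝ := fun w => ‖D.r (ev F 0) (Fin.cons 0 w)‖ ^ 2 with hRw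
  have hpos : ∀ A : GL (Fin (s + 2)) F,
      (A : Matrix (Fin (s + 2)) (Fin (s + 2)) F) *ᵥ ev F 0 ≠ 0 := fun A h => by
    have h' := congrArg (fun z => ((A⁻¹ : GL (Fin (s + 2)) F) : Matrix (Fin (s + 2)) (Fin (s + 2)) F) *ᵥ z) h
    simp only [Matrix.mulVec_mulVec, ← Units.val_mul, inv_mul_cancel, Units.val_one, Matrix.one_mulVec,
      Matrix.mulVec_zero] at h'
    simp at h'
  have ht := sum_transitive (G := GL (Fin (s + 2)) F) (α := α)
    (fun A => ⟨(A : Matrix (Fin (s + 2)) (Fin (s + 2)) F) *ᵥ ev F 0, hpos A⟩)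
    (fun A w => ⟨(A : Matrix (Fin (s + 2)) (Fin (s + 2)) F) *ᵥ w.1, fun h => w.2 (by
      have h' := congrArg (fun z => ((A⁻¹ : GL (Fin (s + 2)) F) : Matrix (Fin (s + 2)) (Fin (s + 2)) F) *ᵥ z) h
      simpa only [Matrix.mulVec_mulVec, ← Units.val_mul, inv_mul_cancel, Units.val_one, Matrix.one_mulVec,
        Matrix.mulVec_zero] using h')⟩)
    (fun A B => Subtype.ext (by simp only [Units.val_mul, Matrix.mulVec_mulVec]))
    (fun w => by
      obtain ⟨A, hA⟩ := exists_gl_map (F := F) (r := s + 2) (by omega) (y := ev F 0) (by simp) w.2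
      exact ⟨A, Subtype.ext hA⟩)
    (fun w => Rw w.1)
  have hs := schur (sig_noProper hle hno) I.sig (e := (⟨D.e, D.e_mem⟩ : fixQ π)) D.unit
  have hA : ∀ A : GL (Fin (s + 2)) F,
      ‖I.B D.e (π (lev A) D.e)‖ ^ 2 = Rw ((A : Matrix (Fin (s + 2)) (Fin (s + 2)) F) *ᵥ ev F 0) := by
    intro A
    rw [D.lev_phi, ← Flag.r]
    have h := D.r_scale (cons_indep (hpos A)) (Units.mk0 _ (inv_ne_zero (det_gl_ne_zero A))) 1 0
    rw [zero_smul, add_zero, Units.val_mk0, Units.val_one, one_smul] at h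
    rw [h, norm_mul, norm_mul, norm_hom, norm_hom, one_mul, one_mul]
  have hs' : (Module.finrank ℂ (fixQ π) : ℝ) * ∑ A : GL (Fin (s + 2)) F, ‖I.B D.e (π (lev A) D.e)‖ ^ 2 =
      Fintype.card (GL (Fin (s + 2)) F) := hs
  simp only [hA] at hs'
  have hsum : ∑ w : α, Rw w.1 = ((qq : ℝ) - 1) + ((qq : ℝ) ^ (s + 2) - qq) * ‖D.r (ev F 0) (ev F 2)‖ ^ 2 := by
    have h0 : Rw 0 = 0 := by
      simp only [hRw]
      rw [D.r_of_not fun h => (indep_two.1 h).2 (by
        rw [show (Fin.cons 0 (0 : Fin (s + 2) → F) : Fin (s + 3) → F) = 0 from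
          funext (Fin.cases (by simp) (by simp))]
        exact Submodule.zero_mem _)]
      simp
    have hc := sum_chain2 (F := F) (W := Fin (s + 2) → F) (β := ℝ) ⊥ (Sp ![ev F 0]) bot_le Rw 1
      (‖D.r (ev F 0) (ev F 2)‖ ^ 2) (fun y hy => by rw [(Submodule.mem_bot F).1 hy, h0])
      (fun y hy hy' => by
        have hmem : ev F (0 : Fin (s + 3)) ∈ L0 F s := mem_sp_one.2 ⟨1, one_smul F _⟩
        have := Sim.norm_sq D (D.cell_line hmem (by simp) (cons_mem_W0.2 hy)
          (indep_two.1 (cons_indep fun h => hy' ((Submodule.mem_bot F).2 h))).2)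
        simpa [hRw] using this)
      (fun y hy => by
        have hmem : ev F (0 : Fin (s + 3)) ∈ L0 F s := mem_sp_one.2 ⟨1, one_smul F _⟩
        exact Sim.norm_sq D (D.cell13 hmem (by simp) (mt cons_mem_W0.1 hy)))
    have hsub : ∑ w : α, Rw w.1 = ∑ w, Rw w := by
      rw [← Finset.sum_subtype (Finset.univ.filter fun w : Fin (s + 2) → F => w ≠ 0) (fun w => by simp) Rw,
        Finset.sum_filter]
      refine Finset.sum_congr rfl fun w _ => ?_
      split_ifs with h
      · rfl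
      · rw [not_not.1 h, h0]
    have hc1 : Nat.card (Sp (F := F) ![ev F (0 : Fin (s + 2))]) = qq :=
      (card_sp (F := F) (W := Fin (s + 2) → F) (v := ![ev F 0]) (indep_one (by simp))).trans (pow_one _)
    rw [hsub, hc, hc1, Nat.card_eq_fintype_card, Fintype.card_fun, Fintype.card_fin]
    simp only [Submodule.mem_bot, Fintype.card_subtype_eq, Fintype.card_unique, nsmul_eq_mul, mul_one]
    rw [Nat.cast_sub Fintype.card_pos, Nat.cast_sub (Nat.le_self_pow (by omega) _)]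
    simp
  have hα : (Fintype.card α : ℝ) = (qq : ℝ) ^ (s + 2) - 1 := by
    rw [Fintype.card_subtype_compl, Fintype.card_subtype_eq, Fintype.card_fun, Fintype.card_fin,
      Nat.cast_sub (Nat.one_le_pow _ _ Fintype.card_pos)]
    simp
  simp only [nsmul_eq_mul, hα, hsum] at ht
  refine mul_left_cancel₀ (Nat.cast_ne_zero.2 Fintype.card_ne_zero : (Fintype.card (GL (Fin (s + 2)) F) : ℝ) ≠ 0) ?_
  linear_combination ((qq : ℝ) ^ (s + 2) - 1) * hs' - (Module.finrank ℂ (fixQ π) : ℝ) * ht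

theorem r02_zero (hψ : D.ψ ≠ 1) : D.r (ev F 0) (ev F 2) = 0 := by
  obtain ⟨c, hc⟩ : ∃ c, D.ψ c ≠ 1 := by
    by_contra h; push Not at h; exact hψ (MonoidHom.ext fun c => h c)
  obtain ⟨h01, h02, h12⟩ := idx_ne (s := s)
  have e0 : ac (tor (s := s) c 1) (ev F 0) = (c : F) • ev F 0 := by rw [tor_ac_ev]; simp [torDiag]
  have e1 : ac (tor (s := s) c 1) (ev F 1) = ((1 : Fˣ) : F) • ev F 1 + (0 : F) • ev F 0 := by
    rw [tor_ac_ev]; simp [torDiag, h01.symm]
  have e2 : ac (tor (s := s) c 1) (ev F 2) = ((c⁻¹ : Fˣ) : F) • ev F 2 := by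
    rw [tor_ac_ev]; simp [torDiag, h02.symm, h12.symm]
  have h := D.r_map e0 e1 (ev F 0) (ev F 2)
  rw [e0, e2] at h
  have hli : LinearIndependent F ![ev F (0 : Fin (s + 3)), ev F 2] := indep_two.2 ⟨by simp, fun hm => by
    obtain ⟨t, ht⟩ := mem_sp_one.1 hm
    have := congrFun ht 2
    simp [h02.symm] at this⟩
  have h2 := D.r_scale hli c c⁻¹ 0
  rw [zero_smul, add_zero] at h2
  rw [h2] at h
  have h3 : D.φ c * (D.ψ c⁻¹ - 1) * D.r (ev F 0) (ev F 2) = 0 := by
    rw [map_one, mul_one] at h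
    linear_combination h
  refine (mul_eq_zero.1 h3).resolve_left (mul_ne_zero ?_ (sub_ne_zero.2 ?_))
  · intro h0; have := norm_hom D.φ c; simp [h0] at this
  · intro h0
    apply hc
    have := D.ψ.map_mul c c⁻¹
    rw [mul_inv_cancel, map_one, h0, mul_one] at this
    exact this.symm

/-- The orthogonal case. -/
theorem orth_dim [Nontrivial V] (hle : DimLe π) (hno : ∀ v, MFix π v → v = 0) (hψ : D.ψ ≠ 1) :
    (Module.finrank ℂ V : ℝ) * ((qq : ℝ) - 1) = (qq : ℝ) ^ (s + 3) - qq := by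
  have h := D.fixQ_dim hle hno
  rw [D.r02_zero hψ] at h
  simp only [norm_zero, zero_pow two_ne_zero, mul_zero, add_zero] at h
  rw [finrank_eq hle hno, add_mul, h]
  ring

/-- The sum along a line. -/
noncomputable def lineSum : V := ∑ x : F, D.Φ (ev F 1 + x • ev F 0) (ev F 0)

omit [FiniteDimensional ℂ V] in
theorem line_indep (x : F) :
    LinearIndependent F ![ev F (1 : Fin (s + 3)) + x • ev F 0, ev F 0] := by
  rw [LinearIndependent.pair_symm_iff]
  refine indep_two.2 ⟨by simp, fun h => ?_⟩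
  obtain ⟨t, ht⟩ := mem_sp_one.1 h
  have := congrFun ht 1
  simp [(idx_ne (s := s)).1.symm] at this

omit [FiniteDimensional ℂ V] in
theorem line_mem (x : F) : ev F (1 : Fin (s + 3)) + x • ev F 0 ∈ W0 F s ∧
    ev F (1 : Fin (s + 3)) + x • ev F 0 ∉ L0 F s := by
  refine ⟨mem_sp_pair.2 ⟨x, 1, by rw [one_smul, add_comm (x • _)]⟩, fun h => ?_⟩
  obtain ⟨t, ht⟩ := mem_sp_one.1 h
  have := congrFun ht 1
  simp [(idx_ne (s := s)).1.symm] at this

theorem lineSum_fix (g : SLg F (s + 2)) (x : F) (h0 : ac g (ev F 0) = ev F 0)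
    (h1 : ac g (ev F 1) = ev F 1 + x • ev F 0) : π g D.lineSum = D.lineSum := by
  rw [lineSum, map_sum]
  refine Fintype.sum_equiv (Equiv.addLeft x) _ _ fun y => ?_
  rw [← D.phi_map, ac_add, ac_smul, h0, h1, Equiv.coe_addLeft, add_assoc (ev F _), ← add_smul]

theorem lineSum_mem : D.lineSum ∈ fixQ π := mem_fixQ.2 fun a => D.lineSum_fix _ (a 0) (u_ev0 a) (u_ev1 a)

theorem line_term (x : F) (hx : x ≠ 0) :
    D.Sim (I.B (D.Φ (ev F 1) (ev F 0)) (D.Φ (ev F 1 + x • ev F 0) (ev F 0))) (D.r (ev F 1) (ev F 0)) := by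
  obtain ⟨g, g0, g1⟩ := exists_g (line_indep (s := s) (F := F) 0)
  rw [zero_smul, add_zero] at g0
  have h : I.B (D.Φ (ev F 1) (ev F 0)) (D.Φ (ev F 1 + x • ev F 0) (ev F 0)) =
      D.r (ev F 0 + x • ev F 1) (ev F 1) := by
    have hA : D.Φ (ev F 1 + x • ev F 0) (ev F 0) = π g (D.Φ (ev F 0 + x • ev F 1) (ev F 1)) := by
      rw [← D.phi_map, ac_add, ac_smul, g0, g1]
    rw [hA, D.phi_eq g0 g1, I.inv]
    rfl
  rw [h]
  have hn : ev F (0 : Fin (s + 3)) + x • ev F 1 ∉ L0 F s := fun hm => by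
    obtain ⟨t, ht⟩ := mem_sp_one.1 hm
    have := congrFun ht 1
    simp [(idx_ne (s := s)).1.symm] at this
    exact hx this.symm
  refine D.cell_in (mem_sp_pair.2 ⟨1, x, by rw [one_smul]⟩) hn (mem_sp_pair.2 ⟨0, 1, by simp⟩) fun hm => ?_
  obtain ⟨t, ht⟩ := mem_sp_one.1 hm
  have h0' := congrFun ht 0
  have h1' := congrFun ht 1
  simp [(idx_ne (s := s)).1, (idx_ne (s := s)).1.symm] at h0' h1'
  simp [h0'] at h1'

theorem lineSum_ne (hb : D.r (ev F 1) (ev F 0) = 0) :
    I.B (D.Φ (ev F 1) (ev F 0)) D.lineSum = 1 := by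
  classical
  rw [lineSum, I.sum_right, Fintype.sum_eq_single (0 : F)]
  · obtain ⟨g, g0, g1⟩ := exists_g (line_indep (s := s) (F := F) 0)
    rw [zero_smul, add_zero] at g0 ⊢
    rw [D.phi_eq g0 g1, I.inv, D.unit]
  · intro x hx
    obtain ⟨a, b, h⟩ := D.line_term x hx
    rw [h, hb, mul_zero]

theorem fixed_eq_smul (hle : DimLe π) (hno : ∀ v, MFix π v → v = 0) (hψ : D.ψ = 1) {v : V}
    (hv : ∀ (g : SLg F (s + 2)) (x : F), ac g (ev F 0) = ev F 0 →
      ac g (ev F 1) = ev F 1 + x • ev F 0 → π g v = v) : ∃ c : ℂ, v = c • D.e := by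
  classical
  let inK : SLg F (s + 2) → Prop := fun g =>
    ac g (ev F 0) = ev F 0 ∧ ∃ x : F, ac g (ev F 1) = ev F 1 + x • ev F 0
  have hmul : ∀ g h, inK g → inK h → inK (g * h) := by
    rintro g h ⟨g0, x, g1⟩ ⟨h0, y, h1⟩
    exact ⟨by rw [ac_mul, h0, g0], x + y, by rw [ac_mul, h1, ac_add, ac_smul, g0, g1, add_assoc (ev F _), ← add_smul]⟩
  have hinv : ∀ g, inK g → inK g⁻¹ := by
    rintro g ⟨g0, x, g1⟩
    have i0 : ac g⁻¹ (ev F 0) = ev F 0 := by
      conv_lhs => rw [← g0]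
      exact ac_inv_ac g _
    refine ⟨i0, -x, ac_inj g ?_⟩
    rw [ac_ac_inv, ac_add, ac_smul, g0, g1, neg_smul]
    abel
  set K : Finset (SLg F (s + 2)) := Finset.univ.filter inK with hK
  let Av : Module.End ℂ V := ∑ g ∈ K, π g
  have hAv : ∀ w, Av w = ∑ g ∈ K, π g w := fun w => by simp [Av]
  have hfixed : ∀ w, (∀ g, inK g → π g w = w) → Av w = (K.card : ℂ) • w := by
    intro w hw
    rw [hAv, Finset.sum_congr rfl fun g hg => hw g (Finset.mem_filter.1 hg).2, Finset.sum_const,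
      ← Nat.cast_smul_eq_nsmul ℂ]
  have habs : ∀ g, inK g → ∀ w, Av (π g w) = Av w := by
    intro g hg w
    rw [hAv, hAv]
    refine Finset.sum_bij' (fun h _ => h * g) (fun h _ => h * g⁻¹) ?_ ?_ ?_ ?_ ?_
    · intro h hh; simp only [hK, Finset.mem_filter, Finset.mem_univ, true_and] at hh ⊢; exact hmul _ _ hh hg
    · intro h hh; simp only [hK, Finset.mem_filter, Finset.mem_univ, true_and] at hh ⊢; exact hmul _ _ hh (hinv _ hg)
    · intro h _; group
    · intro h _; group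
    · intro h _; rw [map_mul, Module.End.mul_apply]
  have hψ1 : ∀ b, D.ψ b = 1 := fun b => by rw [hψ]; rfl
  have hAe : Av D.e = (K.card : ℂ) • D.e := hfixed _ fun g hg => D.fix g hg.2.choose hg.1 hg.2.choose_spec
  set κ := Av (D.Φ (ev F 0) (ev F 2)) with hκ
  have hout : ∀ y, y ∉ W0 F s → Av (D.Φ (ev F 0) y) = κ := by
    intro y hy
    obtain ⟨g, c, hc, g0, g1, g2⟩ := exists_g3 (indep_three indep_std hy)
    have hgK : inK g := ⟨g0, 0, by rw [g1, zero_smul, add_zero]⟩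
    have hli : LinearIndependent F ![ev F (0 : Fin (s + 3)), y] := indep_two.2 ⟨by simp, fun h => hy (by
      obtain ⟨t, ht⟩ := mem_sp_one.1 h
      exact mem_sp_pair.2 ⟨t, 0, by rw [zero_smul, add_zero, ht]⟩)⟩
    have h2 := D.phi_scale hli 1 (Units.mk0 c hc) 0
    rw [Units.val_one, one_smul, Units.val_mk0, zero_smul, add_zero, map_one, hψ1, one_mul, one_smul] at h2
    rw [← h2, hκ]
    conv_lhs => rw [← g2, show ev F (0 : Fin (s + 3)) = ac g (ev F 0) from g0.symm]
    rw [D.phi_map, habs g hgK]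
  have hin : ∀ y, y ∈ W0 F s → y ∉ Sp (F := F) ![ev F 0] → D.Φ (ev F 0) y = D.e := by
    intro y hy hy'
    obtain ⟨α, β, rfl⟩ := mem_sp_pair.1 hy
    have hβ : β ≠ 0 := fun h => hy' (mem_sp_one.2 ⟨α, by rw [h, zero_smul, add_zero]⟩)
    have h := D.phi_scale indep_std 1 (Units.mk0 β hβ) α
    rw [Units.val_one, one_smul, Units.val_mk0, map_one, hψ1, one_mul, one_smul, D.phi_self,
      add_comm (β • _)] at h
    exact h
  obtain ⟨cκ, hcκ⟩ : ∃ c : ℂ, κ = c • D.e := by
    have hsum : ∑ y, Av (D.Φ (ev F 0) y) = 0 := by rw [← map_sum, D.star hno, map_zero]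
    have he0 : ev F (0 : Fin (s + 3)) ∈ W0 F s := mem_sp_pair.2 ⟨1, 0, by simp⟩
    have hc := sum_chain2 (F := F) (W := Fin (s + 3) → F) (β := V) (Sp ![ev F 0]) (W0 F s)
      (le_W0 he0) (fun y => Av (D.Φ (ev F 0) y)) ((K.card : ℂ) • D.e) κ
      (fun y hy => by rw [D.phi_of_not (not_indep_of_mem hy), map_zero])
      (fun y hy hy' => by rw [hin y hy hy', hAe]) hout
    rw [hsum, card_sp_one (by simp), card_W0, card_space, ← Nat.cast_smul_eq_nsmul ℂ,
      ← Nat.cast_smul_eq_nsmul ℂ, smul_smul] at hc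
    have hM : ((qq ^ (s + 3) - qq ^ 2 : ℕ) : ℂ) ≠ 0 := Nat.cast_ne_zero.2 (by
      have := Nat.pow_lt_pow_right (Fintype.one_lt_card (α := F)) (show 2 < s + 3 by omega)
      omega)
    exact ⟨-((((qq ^ (s + 3) - qq ^ 2 : ℕ) : ℂ))⁻¹ * ((((qq ^ 2 - qq : ℕ) : ℂ)) * (K.card : ℂ))), by
      rw [neg_smul, eq_neg_iff_add_eq_zero]
      have h1 := congrArg (fun z => (((qq ^ (s + 3) - qq ^ 2 : ℕ) : ℂ))⁻¹ • z) hc.symm
      simp only [smul_zero, smul_add, inv_smul_smul₀ hM, smul_smul, inv_mul_cancel₀ hM, one_smul] at h1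
      rw [add_comm]
      exact h1⟩
  -- the translates span the fixed space
  let W : Submodule ℂ (fixQ π) := Submodule.span ℂ (Set.range fun A => sig π A ⟨D.e, D.e_mem⟩)
  have hW : W = ⊤ := by
    refine ((sig_noProper hle hno) W fun A w hw => ?_).resolve_left fun h => ?_
    · refine Submodule.span_induction (p := fun w _ => sig π A w ∈ W) ?_ (by simp)
        (fun x y _ _ hx hy => by rw [map_add]; exact W.add_mem hx hy)
        (fun c x _ hx => by rw [map_smul]; exact W.smul_mem c hx) hw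
      rintro _ ⟨B, rfl⟩
      rw [← Module.End.mul_apply, ← map_mul]
      exact Submodule.subset_span ⟨A * B, rfl⟩
    · have h1 : sig π 1 ⟨D.e, D.e_mem⟩ ∈ W := Submodule.subset_span ⟨1, rfl⟩
      rw [h, Submodule.mem_bot, map_one, Module.End.one_apply] at h1
      have := D.unit
      rw [show D.e = 0 from congrArg Subtype.val h1, I.zero_left] at this
      exact zero_ne_one this
  have hvQ : v ∈ fixQ π := mem_fixQ.2 fun a => hv _ (a 0) (u_ev0 a) (u_ev1 a)
  have hspan : ∀ w ∈ W, ∃ c : ℂ, Av (w : V) = c • D.e := by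
    intro w hw
    refine Submodule.span_induction (p := fun (w : fixQ π) _ => ∃ c : ℂ, Av (w : V) = c • D.e) ?_
      ⟨0, by simp⟩ ?_ ?_ hw
    · rintro _ ⟨A, rfl⟩
      show ∃ c : ℂ, Av (π (lev A) D.e) = c • D.e
      rw [D.lev_phi]
      have hw0 : (A : Matrix (Fin (s + 2)) (Fin (s + 2)) F) *ᵥ ev F 0 ≠ 0 := fun h => by
        have h' := congrArg (fun z => ((A⁻¹ : GL (Fin (s + 2)) F) : Matrix (Fin (s + 2)) (Fin (s + 2)) F) *ᵥ z) h
        simp only [Matrix.mulVec_mulVec, ← Units.val_mul, inv_mul_cancel, Units.val_one, Matrix.one_mulVec,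
          Matrix.mulVec_zero] at h'
        simp at h'
      have h := D.phi_scale (cons_indep hw0) (Units.mk0 _ (inv_ne_zero (det_gl_ne_zero A))) 1 0
      rw [zero_smul, add_zero, Units.val_mk0, Units.val_one, one_smul] at h
      rw [h, map_smul]
      by_cases hy : (Fin.cons 0 ((A : Matrix (Fin (s + 2)) (Fin (s + 2)) F) *ᵥ ev F 0) :
          Fin (s + 3) → F) ∈ W0 F s
      · rw [hin _ hy (indep_two.1 (cons_indep hw0)).2, hAe, smul_smul]
        exact ⟨_, rfl⟩
      · rw [hout _ hy, hcκ, smul_smul]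
        exact ⟨_, rfl⟩
    · rintro x y _ _ ⟨c, hc⟩ ⟨c', hc'⟩
      exact ⟨c + c', by rw [Submodule.coe_add, map_add, hc, hc', add_smul]⟩
    · rintro a x _ ⟨c, hc⟩
      exact ⟨a * c, by rw [Submodule.coe_smul, map_smul, hc, smul_smul]⟩
  obtain ⟨c, hc⟩ := hspan ⟨v, hvQ⟩ (hW ▸ Submodule.mem_top)
  rw [show ((⟨v, hvQ⟩ : fixQ π) : V) = v from rfl, hfixed v fun g hg => hv g hg.2.choose hg.1 hg.2.choose_spec] at hc
  have hK0 : (K.card : ℂ) ≠ 0 := Nat.cast_ne_zero.2 (Finset.card_ne_zero.2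
    ⟨1, by simp only [hK, Finset.mem_filter, Finset.mem_univ, true_and]; exact ⟨ac_one _, 0, by simp⟩⟩)
  refine ⟨(K.card : ℂ)⁻¹ * c, ?_⟩
  rw [← smul_smul, ← hc, inv_smul_smul₀ hK0]

theorem phi_one (hle : DimLe π) (hno : ∀ v, MFix π v → v = 0) (hψ : D.ψ = 1) : D.φ = 1 := by
  by_contra hφ
  obtain ⟨c, hc⟩ : ∃ c, D.φ c ≠ 1 := by
    by_contra h; push Not at h; exact hφ (MonoidHom.ext fun c => h c)
  obtain ⟨k, hk⟩ := D.fixed_eq_smul hle hno hψ D.lineSum_fix
  obtain ⟨h01, h02, h12⟩ := idx_ne (s := s)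
  have e0 : ac (tor (s := s) c 1) (ev F 0) = (c : F) • ev F 0 := by rw [tor_ac_ev]; simp [torDiag]
  have e1 : ac (tor (s := s) c 1) (ev F 1) = ev F 1 := by
    rw [tor_ac_ev]; simp [torDiag, h01.symm]
  have e1' : ac (tor (s := s) c 1) (ev F 1) = ((1 : Fˣ) : F) • ev F 1 + (0 : F) • ev F 0 := by
    rw [e1]; simp
  have hψ1 : ∀ b, D.ψ b = 1 := fun b => by rw [hψ]; rfl
  have hsc : ∀ x : F, D.Φ (ev F 1 + x • ev F 0) ((c : F) • ev F 0) = D.Φ (ev F 1 + x • ev F 0) (ev F 0) := by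
    intro x
    have h := D.phi_scale (line_indep x) 1 c 0
    rwa [zero_smul, add_zero, Units.val_one, one_smul, map_one, hψ1, one_mul, one_smul] at h
  have hb : D.r (ev F 1) (ev F 0) = 0 := by
    have h := D.r_map e0 e1' (ev F 1) (ev F 0)
    rw [e1, e0, Flag.r] at h
    have h2 := hsc 0
    rw [zero_smul, add_zero] at h2
    rw [h2, ← Flag.r, map_one, mul_one] at h
    have h3 : (D.φ c - 1) * D.r (ev F 1) (ev F 0) = 0 := by linear_combination -h
    exact (mul_eq_zero.1 h3).resolve_left (sub_ne_zero.2 hc)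
  have hS : π (tor c 1) D.lineSum = D.lineSum := by
    rw [lineSum, map_sum]
    refine Fintype.sum_equiv (Equiv.mulRight₀ (c : F) c.ne_zero) _ _ fun x => ?_
    rw [← D.phi_map, ac_add, ac_smul, e0, e1, smul_smul, hsc]
    rfl
  rw [hk, map_smul, D.tor_e, map_one, mul_one, smul_smul] at hS
  have hk0 : k = 0 := by
    have h1 : (k * D.φ c - k) • D.e = 0 := by rw [sub_smul, hS, sub_self]
    have he : D.e ≠ 0 := fun h => by have := D.unit; rw [h, I.zero_left] at this; exact zero_ne_one this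
    have h2 : k * (D.φ c - 1) = 0 := by linear_combination (smul_eq_zero.1 h1).resolve_right he
    exact (mul_eq_zero.1 h2).resolve_right (sub_ne_zero.2 hc)
  have := D.lineSum_ne hb
  rw [hk, hk0, zero_smul, I.zero_right] at this
  exact zero_ne_one this

set_option maxHeartbeats 2000000 in
/-- The star case is impossible. -/
theorem star_false [Nontrivial V] (hle : DimLe π) (hno : ∀ v, MFix π v → v = 0) (hψ : D.ψ = 1) : False := by
  classical
  have hφ := D.phi_one hle hno hψ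
  have hφ1 : ∀ b, D.φ b = 1 := fun b => by rw [hφ]; rfl
  have hψ1 : ∀ b, D.ψ b = 1 := fun b => by rw [hψ]; rfl
  obtain ⟨h01, h02, h12⟩ := idx_ne (s := s)
  have C := D.cells_r hφ hψ
  set a := D.r (ev F 0) (ev F 2)
  set b := D.r (ev F 1) (ev F 0) with hbdef
  set c23 := D.r (ev F 1) (ev F 2) with h23def
  set c31 := D.r (ev F 2) (ev F 0) with h31def
  set c32 := D.r (ev F 2) (ev F 1) with h32def
  set c34 := D.r34
  set q : ℝ := (qq : ℝ) with hq
  set N : ℝ := (qq : ℝ) ^ (s + 3) with hN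
  obtain ⟨k1, k2, k3, k4, -⟩ := cast_q (F := F) (s := s)
  have toC : ∀ (n : ℕ) (x : ℝ) (z : ℂ), (n : ℝ) = x → n • z = (x : ℂ) * z := fun n x z h => by
    rw [nsmul_eq_mul, ← h, Complex.ofReal_natCast]
  have r1 : ((q ^ 2 - q : ℝ) : ℂ) + ((N - q ^ 2 : ℝ) : ℂ) * a = 0 := by
    have h := inner_line C (x := ev F 0) (mem_sp_one.2 ⟨1, one_smul F _⟩) (by simp)
    rw [D.r_star hno, toC _ _ _ k1, toC _ _ _ k3, mul_one] at h
    exact h.symm
  have hm1 : ev F (1 : Fin (s + 3)) ∈ W0 F s ∧ ev F (1 : Fin (s + 3)) ∉ L0 F s := by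
    simpa using line_mem (F := F) (s := s) 0
  have r2 : ((q ^ 2 - q : ℝ) : ℂ) * b + ((N - q ^ 2 : ℝ) : ℂ) * c23 = 0 := by
    have h := inner_plane C hm1.1 hm1.2
    rw [D.r_star hno, toC _ _ _ k1, toC _ _ _ k3] at h
    exact h.symm
  have hm2 : ev F (2 : Fin (s + 3)) ∉ W0 F s := fun h => by
    obtain ⟨x, y, hxy⟩ := mem_sp_pair.1 h
    have := congrFun hxy 2
    simp [h02.symm, h12.symm] at this
  have r3 : ((q ^ 2 - q : ℝ) : ℂ) * c31 + ((q ^ 3 - q ^ 2 : ℝ) : ℂ) * c32 + ((N - q ^ 3 : ℝ) : ℂ) * c34 = 0 := by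
    have h := inner_out C hm2
    rw [D.r_star hno, toC _ _ _ k1, toC _ _ _ k2, toC _ _ _ k4] at h
    exact h.symm
  obtain ⟨k, hk⟩ := D.fixed_eq_smul hle hno hψ D.lineSum_fix
  have hk' : k = (q : ℂ) * b := by
    have h := congrArg (I.B D.e) hk
    rw [I.smul_right, D.unit, mul_one, lineSum, I.sum_right] at h
    rw [← h, Finset.sum_congr rfl (g := fun _ => b) fun x _ => ?_, Finset.sum_const, nsmul_eq_mul,
      Finset.card_univ, hq, Complex.ofReal_natCast]
    exact C.h2 _ _ (line_mem x).1 (line_mem x).2 (mem_sp_pair.2 ⟨1, 0, by simp⟩) (indep_two.1 (line_indep x)).2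
  have hbconj : conj b = b := by
    obtain ⟨g, g0, g1⟩ := exists_g (line_indep (s := s) (F := F) 0)
    rw [zero_smul, add_zero] at g0
    have h := I.inv g D.e (D.Φ (ev F 1) (ev F 0))
    rw [← D.phi_map, g0, g1, D.phi_self] at h
    rw [← D.phi_eq g0 g1] at h
    rw [hbdef, Flag.r, I.conj_symm, h]
  have rb : (q : ℂ) * b ^ 2 = 1 + ((q : ℂ) - 1) * b := by
    have h := congrArg (I.B (D.Φ (ev F 1) (ev F 0))) hk
    rw [I.smul_right, lineSum, I.sum_right, ← Finset.add_sum_erase _ _ (Finset.mem_univ (0 : F)),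
      Finset.sum_congr rfl (g := fun _ => b) fun x hx =>
        Sim.eq_of_triv D (D.line_term x (Finset.mem_erase.1 hx).1) hφ hψ,
      Finset.sum_const, Finset.card_erase_of_mem (Finset.mem_univ _), Finset.card_univ, nsmul_eq_mul,
      Nat.cast_sub Fintype.card_pos] at h
    obtain ⟨g, g0, g1⟩ := exists_g (line_indep (s := s) (F := F) 0)
    rw [zero_smul, add_zero] at g0 h
    rw [D.phi_eq g0 g1, I.inv, D.unit] at h
    have h2 : I.B (π g D.e) D.e = b := by
      rw [← D.phi_eq g0 g1, ← hbconj, hbdef, Flag.r, I.conj_symm]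
    rw [h2, hk'] at h
    simp only [hq, Complex.ofReal_natCast, Nat.cast_succ, Nat.cast_zero, zero_add] at h ⊢
    linear_combination -h
  have r32 : c32 = b * c23 := by
    obtain ⟨g, g0, g1⟩ := exists_g (x := ev F (1 : Fin (s + 3))) (y := ev F 2) (indep_two.2 ⟨by simp, fun h => by
      obtain ⟨t, ht⟩ := mem_sp_one.1 h
      have := congrFun ht 2
      simp [h12.symm] at this⟩)
    have h := congrArg (fun z => I.B D.e (π g z)) hk
    simp only [map_smul, I.smul_right, lineSum, map_sum, I.sum_right, ← D.phi_map, ac_add, ac_smul,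
      g0, g1] at h
    rw [← D.phi_eq g0 g1] at h
    have hterm : ∀ x : F, I.B D.e (D.Φ (ev F 2 + x • ev F 1) (ev F 1)) = c32 := fun x => by
      refine C.h32 _ _ (fun hm => hm2 ?_) (mem_sp_three.2 ⟨0, 1, 0, by simp⟩) fun hm => ?_
      · obtain ⟨p, p', hp⟩ := mem_sp_pair.1 hm
        exact mem_sp_pair.2 ⟨p, p' - x, by rw [sub_smul, ← add_sub_assoc, hp, add_sub_cancel_right]⟩
      · obtain ⟨p, p', hp⟩ := mem_sp_pair.1 hm
        have e2 := congrFun hp 2
        have e1 := congrFun hp 1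
        simp [h02.symm, h12.symm, h01.symm, h12] at e2 e1
        rw [e2, zero_mul] at e1
        exact zero_ne_one e1
    rw [Finset.sum_congr rfl fun x _ => hterm x, Finset.sum_const, nsmul_eq_mul, Finset.card_univ,
      hk', hq, Complex.ofReal_natCast, ← Flag.r, ← h23def, mul_assoc] at h
    exact mul_left_cancel₀ (Nat.cast_ne_zero.2 Fintype.card_ne_zero) h
  have r31 : c31 = conj c23 := by
    obtain ⟨g, c, hc, g0, g1, g2⟩ := exists_g3 (x := ev F (1 : Fin (s + 3))) (y := ev F 2) (z := ev F 0)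
      (indep_three (indep_two.2 ⟨by simp, fun h => by
        obtain ⟨t, ht⟩ := mem_sp_one.1 h
        have := congrFun ht 2
        simp [h12.symm] at this⟩) fun h => by
        obtain ⟨x, y, hxy⟩ := mem_sp_pair.1 h
        have := congrFun hxy 0
        simp [h01, h02] at this)
    have h := I.inv g D.e (D.Φ (ev F 2) (ev F 0))
    rw [← D.phi_map, g0, g2, ← D.phi_eq g0 g1] at h
    have h2 := D.phi_scale indep_std (Units.mk0 c hc) 1 0
    rw [zero_smul, add_zero, Units.val_mk0, Units.val_one, one_smul, D.phi_self, hφ1, map_one, one_mul,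
      one_smul] at h2
    rw [h2] at h
    rw [h31def, Flag.r, ← h, h23def, Flag.r, I.conj_symm]
  -- real parts
  have hq2 : 2 ≤ q := by rw [hq]; exact_mod_cast Fintype.one_lt_card (α := F)
  have hM : 0 < N - q ^ 2 := by
    rw [hN, ← hq]
    have := pow_lt_pow_right₀ (show 1 < q by linarith) (show 2 < s + 3 by omega)
    linarith
  have ib : b.im = 0 := Complex.conj_eq_iff_im.1 hbconj
  have e1 := congrArg Complex.re r1
  have f1 := congrArg Complex.im r1
  have e2 := congrArg Complex.re r2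
  have f2 := congrArg Complex.im r2
  have e3 := congrArg Complex.re r3
  have f3 := congrArg Complex.im r3
  have eb := congrArg Complex.re rb
  simp only [Complex.add_re, Complex.add_im, Complex.mul_re, Complex.mul_im, Complex.ofReal_re,
    Complex.ofReal_im, Complex.zero_re, Complex.zero_im, zero_mul, sub_zero, add_zero, zero_add] at e1 f1 e2 f2 e3 f3
  simp only [pow_two, Complex.add_re, Complex.mul_re, Complex.sub_re, Complex.sub_im, Complex.mul_im,
    Complex.ofReal_re, Complex.ofReal_im, Complex.one_re, Complex.one_im, ib, zero_mul, mul_zero, sub_zero,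
    add_zero] at eb
  have ia : a.im = 0 := (mul_eq_zero.1 f1).resolve_left hM.ne'
  rw [ib, mul_zero, zero_add] at f2
  have i23 : c23.im = 0 := (mul_eq_zero.1 f2).resolve_left hM.ne'
  have i31 : c31.im = 0 := by rw [r31, Complex.conj_im, i23, neg_zero]
  have e31 : c31.re = c23.re := by rw [r31, Complex.conj_re]
  have i32 : c32.im = 0 := by rw [r32, Complex.mul_im, i23, ib]; ring
  have e32 : c32.re = b.re * c23.re := by rw [r32, Complex.mul_re, i23, ib]; ring
  rw [i31, i32, mul_zero, mul_zero, zero_add, zero_add] at f3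
  have i34 : c34.im = 0 := by
    rcases Nat.eq_zero_or_pos s with h0 | hs
    · show D.r34.im = 0
      rw [r34, dif_neg (by omega)]
      simp
    · have : 0 < N - q ^ 3 := by
        rw [hN, ← hq]
        have := pow_lt_pow_right₀ (show 1 < q by linarith) (show 3 < s + 3 by omega)
        linarith
      exact (mul_eq_zero.1 f3).resolve_left this.ne'
  have nr : ∀ z : ℂ, z.im = 0 → ‖z‖ ^ 2 = z.re ^ 2 := fun z hz => by
    rw [← Complex.normSq_eq_norm_sq, Complex.normSq_apply, hz]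
    ring
  have hT := total_real D.cells_norm
  rw [nr _ ia, nr _ ib, nr _ i23, nr _ i31, nr _ i32, nr _ i34, e31, ← hq, ← hN] at hT
  have hN' : N = q ^ 3 ∨ q ^ 4 ≤ N := by
    rcases Nat.eq_zero_or_pos s with h0 | hs
    · left; rw [hN, h0, hq]
    · right; rw [hN, hq]; exact pow_le_pow_right₀ (by linarith) (by omega)
  rw [e31] at e3
  have hle' := total_le (q := q) (N := N) (a := a.re) (b := b.re) (c23 := c23.re) (c32 := c32.re) (c34 := c34.re)
    hq2 hN' e1 (by rw [pow_two]; exact eb) e2 e32 e3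
  have hS := D.schur_pairs (noProper_pi hle hno)
  rw [hT, ← hN, ← hq] at hS
  have hD := finrank_eq hle hno
  have hf := D.fixQ_dim hle hno
  rw [nr _ ia, ← hq] at hf
  rw [← hq] at hD
  set f : ℝ := (Module.finrank ℂ (fixQ π) : ℝ)
  set M2 : ℝ := q ^ (s + 2) - q with hM2
  have hM20 : 0 < M2 := by
    rw [hM2]
    have := pow_lt_pow_right₀ (show 1 < q by linarith) (show 1 < s + 2 by omega)
    linarith
  have hNM : N - q ^ 2 = q * M2 := by rw [hM2, hN, hq, pow_succ']; ring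
  have ha : M2 * a.re = -(q - 1) := by
    rw [hNM] at e1
    apply mul_left_cancel₀ (show q ≠ 0 by linarith)
    linear_combination e1
  have hfv : f * (q - 1) = M2 := by
    have h1 : f * ((q - 1) * (M2 + (q - 1))) = M2 * (q ^ (s + 2) - 1) := by
      linear_combination M2 * hf - f * (M2 * a.re - (q - 1)) * ha
    have h2 : M2 + (q - 1) = q ^ (s + 2) - 1 := by rw [hM2]; ring
    rw [h2, ← mul_assoc] at h1
    exact mul_right_cancel₀ (show q ^ (s + 2) - 1 ≠ 0 by linarith) h1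
  have hqp : (0 : ℝ) < q - 1 := by linarith
  have hNq : q < N := by
    rw [hN, ← hq]
    have := pow_lt_pow_right₀ (show 1 < q by linarith) (show 1 < s + 3 by omega)
    linarith
  have hDq : (Module.finrank ℂ V : ℝ) * (q - 1) = N - 2 * q + 1 := by
    rw [hD, add_mul, hfv, hM2, hN, ← hq, pow_succ' q (s + 2)]
    ring
  nlinarith [mul_le_mul_of_nonneg_left hle' (Nat.cast_nonneg (α := ℝ) (Module.finrank ℂ V))]

end Flag

end CfsgLib.MinDeg.SLn
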