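import Cfsg.Agent.Lib.KnownB.MinDeg.SLn.Top

/-!
# The orthogonal case of the flag vector is impossible in `SL n`
-/

set_option autoImplicit false
set_option linter.unusedSectionVars false
set_option backward.isDefEq.respectTransparency false
set_option maxHeartbeats 2000000

open Matrix
open scoped ComplexConjugate

namespace CfsgLib.MinDeg.SLn

variable {F : Type*} [Field F] [Fintype F] [DecidableEq F]
  {V : Type*} [AddCommGroup V] [Module ℂ V] [FiniteDimensional ℂ V] {s : ℕ}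
  {π : Representation ℂ (SLg F (s + 2)) V} {I : InvForm π}

local notation "qq" => Fintype.card F

namespace Flag

variable (D : Flag π I)

omit [Fintype F] [DecidableEq F] in
theorem tail_ev2 : Fin.tail (ev F (2 : Fin (s + 3))) = ev F (1 : Fin (s + 2)) := by
  funext i
  simp only [Fin.tail, Pi.single_apply]
  exact if_congr (by rw [← Fin.succ_one_eq_two, Fin.succ_inj]) rfl rfl

omit [FiniteDimensional ℂ V] in
theorem u_ev2 (a : Fin (s + 2) → F) : ac (u a) (ev F (2 : Fin (s + 3))) = ev F 2 + a 1 • ev F 0 := by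
  rw [u_ac, tail_ev2]
  simp

/-- The translates attached to the first line, indexed by the quotient. -/
noncomputable def Ψ (w : Fin (s + 2) → F) : V := D.Φ (ev F 0) (Fin.cons 0 w)

theorem phi0_add (y : Fin (s + 3) → F) (c : F) :
    D.Φ (ev F 0) (y + c • ev F 0) = D.Φ (ev F 0) y := by
  by_cases h : LinearIndependent F ![ev F (0 : Fin (s + 3)), y]
  · have := D.phi_scale h 1 1 c
    rwa [Units.val_one, one_smul, one_smul, map_one, map_one, one_mul, one_smul] at this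
  · rw [D.phi_of_not h, D.phi_of_not]
    intro h'
    apply h
    rw [indep_two] at h' ⊢
    refine ⟨h'.1, fun hy => h'.2 ?_⟩
    obtain ⟨a, ha⟩ := mem_sp_one.1 hy
    exact mem_sp_one.2 ⟨a + c, by rw [add_smul, ha]⟩

theorem phi0_mem (y : Fin (s + 3) → F) : D.Φ (ev F 0) y ∈ fixQ π := mem_fixQ.2 fun a => by
  rw [← D.phi_map, u_ev0, u_ac, D.phi0_add]

theorem B_fix {v : V} (hv : v ∈ fixQ π) (a : Fin (s + 2) → F) (z : V) :
    I.B v (π (u a) z) = I.B v z := by
  conv_lhs => rw [← mem_fixQ.1 hv a]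
  exact I.inv _ _ _

/-- The translates along the first line form a frame of the fixed space of the radical. -/
theorem parseval (hle : DimLe π) (hno : ∀ v, MFix π v → v = 0) (hψ : D.ψ ≠ 1) {v : V}
    (hv : v ∈ fixQ π) :
    ((∑ w, ‖I.B (D.Ψ w) v‖ ^ 2 : ℝ) : ℂ) = ((qq : ℂ) - 1) * I.B v v := by
  classical
  have he0 : D.e ≠ 0 := fun h => by have := D.unit; rw [h, I.zero_left] at this; exact zero_ne_one this
  have : Nontrivial (fixQ π) := ⟨⟨⟨D.e, D.e_mem⟩, 0, fun h => he0 (congrArg Subtype.val h)⟩⟩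
  let φ : (Fin (s + 2) → F) → fixQ π →ₗ[ℂ] ℂ := fun w =>
    { toFun := fun x => I.B (D.Ψ w) x
      map_add' := fun x y => I.add_right _ _ _
      map_smul' := fun c x => by simp [I.smul_right] }
  let P : Module.End ℂ (fixQ π) := ∑ w, (φ w).smulRight ⟨D.Ψ w, D.phi0_mem _⟩
  have hP : ∀ x : fixQ π, (P x : V) = ∑ w, I.B (D.Ψ w) x • D.Ψ w := fun x => by
    simp [P, φ]
  obtain ⟨k, hk⟩ := scalar_of_commute (sig_noProper hle hno) P fun A x => by
    refine Subtype.ext ?_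
    rw [sig_coe, hP, hP, map_sum, sig_coe]
    symm
    refine Fintype.sum_equiv
      ⟨fun w => (A : Matrix (Fin (s + 2)) (Fin (s + 2)) F) *ᵥ w,
        fun w => ((A⁻¹ : GL (Fin (s + 2)) F) : Matrix (Fin (s + 2)) (Fin (s + 2)) F) *ᵥ w,
        fun w => by simp only [Matrix.mulVec_mulVec, ← Units.val_mul, inv_mul_cancel, Units.val_one,
          Matrix.one_mulVec],
        fun w => by simp only [Matrix.mulVec_mulVec, ← Units.val_mul, mul_inv_cancel, Units.val_one,
          Matrix.one_mulVec]⟩ _ _ fun w => ?_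
    simp only [Equiv.coe_fn_mk]
    set d : Fˣ := Units.mk0 _ (inv_ne_zero (det_gl_ne_zero A)) with hd
    have hm : π (lev A) (D.Ψ w) = D.φ d • D.Ψ ((A : Matrix (Fin (s + 2)) (Fin (s + 2)) F) *ᵥ w) := by
      rw [Ψ, ← D.phi_map, lev_ev0, lev_ac, Fin.cons_zero, mul_zero, Fin.tail_cons]
      by_cases hw : (A : Matrix (Fin (s + 2)) (Fin (s + 2)) F) *ᵥ w = 0
      · have hz : ∀ x : Fin (s + 3) → F, D.Φ x 0 = 0 := fun x => D.phi_of_not fun h => by
          exact h.ne_zero 1 rfl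
        have hc : (Fin.cons 0 (0 : Fin (s + 2) → F) : Fin (s + 3) → F) = 0 :=
          funext (Fin.cases (by simp) (by simp))
        rw [hw, Ψ, hc, hz, hz, smul_zero]
      · have h := D.phi_scale (cons_indep hw) d 1 0
        rw [zero_smul, add_zero, Units.val_one, one_smul, map_one, mul_one] at h
        rw [Ψ, ← h, hd, Units.val_mk0]
    rw [map_smul, hm, ← I.inv (lev A) (D.Ψ w) (x : V), hm, I.smul_left, smul_smul]
    congr 1
    linear_combination (I.B (D.Ψ ((A : Matrix (Fin (s + 2)) (Fin (s + 2)) F) *ᵥ w)) (π (lev A) (x : V))) *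
      hom_conj_inv D.φ d
  have hk1 : k = (qq : ℂ) - 1 := by
    have h := congrArg (fun x : fixQ π => I.B D.e (x : V)) (hk ⟨D.e, D.e_mem⟩)
    simp only [hP, Submodule.coe_smul, I.smul_right, D.unit, mul_one, I.sum_right] at h
    rw [← h, sum_chain2 (F := F) (W := Fin (s + 2) → F) (β := ℂ) ⊥ (Sp ![ev F 0]) bot_le _ 1 0 ?_ ?_ ?_]
    · have hc : Nat.card (Sp (F := F) ![ev F (0 : Fin (s + 2))]) = qq :=
        (card_sp (F := F) (W := Fin (s + 2) → F) (v := ![ev F 0]) (indep_one (by simp))).trans (pow_one _)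
      rw [hc, show Nat.card (⊥ : Submodule F (Fin (s + 2) → F)) = 1 by simp, smul_zero, add_zero,
        nsmul_eq_mul, mul_one, Nat.cast_sub Fintype.card_pos, Nat.cast_one]
    · intro y hy
      rw [(Submodule.mem_bot F).1 hy, Ψ, D.phi_of_not fun h => h.ne_zero 1
        (funext (Fin.cases (by simp) (by simp))), I.zero_right, mul_zero]
    · intro y hy hy'
      obtain ⟨b, rfl⟩ := mem_sp_one.1 hy
      have hb : b ≠ 0 := fun h => hy' ((Submodule.mem_bot F).2 (by rw [h, zero_smul]))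
      have hΨ : D.Ψ (b • ev F 0) = D.ψ (Units.mk0 b hb) • D.e := by
        have h := D.phi_scale indep_std 1 (Units.mk0 b hb) 0
        rw [zero_smul, add_zero, Units.val_one, one_smul, Units.val_mk0, map_one, one_mul, D.phi_self] at h
        rw [← h, Ψ]
        congr 1
        rw [← tail_ev1]
        funext i
        refine Fin.cases ?_ ?_ i
        · simp [(idx_ne (s := s)).1]
        · intro i; simp [Fin.tail]
      rw [hΨ, I.smul_left, I.smul_right, D.unit, mul_one, mul_one, hom_conj_inv]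
    · intro y hy
      have hn := mt cons_mem_W0.1 hy
      have h0 : D.r (ev F 0) (Fin.cons 0 y) = 0 := by
        obtain ⟨a, b, h⟩ := D.cell13 (mem_sp_one.2 ⟨1, one_smul F _⟩ : ev F 0 ∈ L0 F s) (by simp) hn
        rw [h, D.r02_zero hψ, mul_zero]
      rw [Ψ, ← I.conj_symm (D.Φ (ev F 0) (Fin.cons 0 y)) D.e, ← Flag.r, h0, map_zero, zero_mul]
  have h := congrArg (fun x : fixQ π => I.B v (x : V)) (hk ⟨v, hv⟩)
  simp only [hP, Submodule.coe_smul, I.smul_right, I.sum_right, hk1] at h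
  rw [← h, Complex.ofReal_sum]
  refine Finset.sum_congr rfl fun w _ => ?_
  rw [← I.conj_symm v (D.Ψ w), Complex.mul_conj, ← Complex.normSq_eq_norm_sq]

omit [FiniteDimensional ℂ V] in
theorem cons_ev1 : (Fin.cons 0 (ev F (0 : Fin (s + 2))) : Fin (s + 3) → F) = ev F 1 := by
  funext k
  refine Fin.cases ?_ ?_ k
  · simp [(idx_ne (s := s)).1]
  · intro k
    rw [Fin.cons_succ, ← tail_ev1]
    rfl

omit [FiniteDimensional ℂ V] in
theorem cons_ev2 : (Fin.cons 0 (ev F (1 : Fin (s + 2))) : Fin (s + 3) → F) = ev F 2 := by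
  funext k
  refine Fin.cases ?_ ?_ k
  · simp [(idx_ne (s := s)).2.1]
  · intro k
    rw [Fin.cons_succ, ← tail_ev2]
    rfl

omit [FiniteDimensional ℂ V] in
theorem sp_cons_iff {w : Fin (s + 2) → F} :
    (Fin.cons 0 w : Fin (s + 3) → F) ∈ Sp (F := F) ![ev F 0, ev F 1, ev F 2] ↔
      w ∈ Sp (F := F) ![ev F (0 : Fin (s + 2)), ev F 1] := by
  rw [mem_sp_three, mem_sp_pair, ← cons_ev1, ← cons_ev2]
  constructor
  · rintro ⟨a, b, c, h⟩
    refine ⟨b, c, funext fun i => ?_⟩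
    have := congrFun h i.succ
    simpa [Fin.succ_ne_zero] using this
  · rintro ⟨a, b, rfl⟩
    refine ⟨0, a, b, funext fun i => ?_⟩
    refine Fin.cases ?_ ?_ i <;> simp

/-- The sum over a plane. -/
noncomputable def planeSum : V :=
  ∑ p : F × F, D.Φ (ev F 1 + p.1 • ev F 0) (ev F 2 + p.2 • ev F 0)

theorem planeSum_mem : D.planeSum ∈ fixQ π := mem_fixQ.2 fun a => by
  rw [planeSum, map_sum]
  refine Fintype.sum_equiv (Equiv.addLeft (a 0, a 1)) _ _ fun p => ?_
  rw [← D.phi_map, ac_add, ac_smul, ac_add, ac_smul, u_ev1, u_ev2, u_ev0, Equiv.coe_addLeft,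
    Prod.fst_add, Prod.snd_add, add_assoc (ev F _), ← add_smul, add_assoc (ev F _), ← add_smul]

omit [FiniteDimensional ℂ V] in
theorem u_pair (x y : F) : ∃ a : Fin (s + 2) → F, a 0 = x ∧ a 1 = y :=
  ⟨Function.update (Pi.single 0 x) 1 y, by simp, by simp⟩

theorem coef_planeSum {v : V} (hv : v ∈ fixQ π) :
    I.B v D.planeSum = (qq : ℂ) ^ 2 * I.B v (D.Φ (ev F 1) (ev F 2)) := by
  rw [planeSum, I.sum_right, Finset.sum_congr rfl (g := fun _ => I.B v (D.Φ (ev F 1) (ev F 2)))]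
  · rw [Finset.sum_const, Finset.card_univ, Fintype.card_prod, nsmul_eq_mul]
    push_cast
    ring
  · intro p _
    obtain ⟨a, ha, hb⟩ := u_pair (F := F) (s := s) p.1 p.2
    rw [← B_fix hv a (D.Φ (ev F 1) (ev F 2)), ← D.phi_map, u_ev1, u_ev2, ha, hb]

theorem coef_lineSum {v : V} (hv : v ∈ fixQ π) :
    I.B v D.lineSum = (qq : ℂ) * I.B v (D.Φ (ev F 1) (ev F 0)) := by
  rw [lineSum, I.sum_right, Finset.sum_congr rfl (g := fun _ => I.B v (D.Φ (ev F 1) (ev F 0)))]
  · rw [Finset.sum_const, Finset.card_univ, nsmul_eq_mul]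
  · intro x _
    rw [← B_fix hv (Pi.single 0 x) (D.Φ (ev F 1) (ev F 0)), ← D.phi_map, u_ev1, u_ev0, Pi.single_eq_same]

omit [FiniteDimensional ℂ V] in
theorem zero_of_factor {r : ℂ} {x y : ℂ} (hx : x * r = y * r) (hne : x ≠ y) : r = 0 := by
  have h : (x - y) * r = 0 := by linear_combination hx
  exact (mul_eq_zero.1 h).resolve_left (sub_ne_zero.2 hne)

omit [FiniteDimensional ℂ V] in
theorem tor_evs (a b : Fˣ) :
    ac (tor (s := s) a b) (ev F 0) = (a : F) • ev F 0 ∧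
      ac (tor (s := s) a b) (ev F 1) = (b : F) • ev F 1 + (0 : F) • ev F 0 ∧
      ac (tor (s := s) a b) (ev F 2) = (((a * b)⁻¹ : Fˣ) : F) • ev F 2 := by
  obtain ⟨h01, h02, h12⟩ := idx_ne (s := s)
  refine ⟨?_, ?_, ?_⟩
  · rw [tor_ac_ev]; simp [torDiag]
  · rw [tor_ac_ev]; simp [torDiag, h01.symm]
  · rw [tor_ac_ev]; simp [torDiag, h02.symm, h12.symm]

omit [FiniteDimensional ℂ V] in
theorem indep_ev {i j : Fin (s + 3)} (h : i ≠ j) : LinearIndependent F ![ev F i, ev F j] := by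
  refine indep_two.2 ⟨by simp, fun hm => ?_⟩
  obtain ⟨a, ha⟩ := mem_sp_one.1 hm
  have := congrFun ha j
  simp [h.symm] at this

theorem rel10 (a b : Fˣ) : D.φ b * D.ψ a * D.r (ev F 1) (ev F 0) =
    D.φ a * D.ψ b * D.r (ev F 1) (ev F 0) := by
  obtain ⟨e0, e1, -⟩ := tor_evs (F := F) (s := s) a b
  have h := D.r_map e0 e1 (ev F 1) (ev F 0)
  rw [e1, e0, zero_smul, add_zero] at h
  have h2 := D.r_scale (indep_ev (idx_ne (s := s)).1.symm) b a 0
  rw [zero_smul, add_zero] at h2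
  rwa [h2] at h

theorem rel12 (a b : Fˣ) : D.φ b * D.ψ (a * b)⁻¹ * D.r (ev F 1) (ev F 2) =
    D.φ a * D.ψ b * D.r (ev F 1) (ev F 2) := by
  obtain ⟨e0, e1, e2⟩ := tor_evs (F := F) (s := s) a b
  have h := D.r_map e0 e1 (ev F 1) (ev F 2)
  rw [e1, e2, zero_smul, add_zero] at h
  have h2 := D.r_scale (indep_ev (idx_ne (s := s)).2.2) b (a * b)⁻¹ 0
  rw [zero_smul, add_zero] at h2
  rwa [h2] at h

theorem rel20 (a b : Fˣ) : D.φ (a * b)⁻¹ * D.ψ a * D.r (ev F 2) (ev F 0) =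
    D.φ a * D.ψ b * D.r (ev F 2) (ev F 0) := by
  obtain ⟨e0, e1, e2⟩ := tor_evs (F := F) (s := s) a b
  have h := D.r_map e0 e1 (ev F 2) (ev F 0)
  rw [e0, e2] at h
  have h2 := D.r_scale (indep_ev (idx_ne (s := s)).2.1.symm) (a * b)⁻¹ a 0
  rw [zero_smul, add_zero] at h2
  rwa [h2] at h

theorem rel21 (a b : Fˣ) : D.φ (a * b)⁻¹ * D.ψ b * D.r (ev F 2) (ev F 1) =
    D.φ a * D.ψ b * D.r (ev F 2) (ev F 1) := by
  obtain ⟨e0, e1, e2⟩ := tor_evs (F := F) (s := s) a b
  have h := D.r_map e0 e1 (ev F 2) (ev F 1)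
  rw [e1, e2, zero_smul, add_zero] at h
  have h2 := D.r_scale (indep_ev (idx_ne (s := s)).2.2.symm) (a * b)⁻¹ b 0
  rw [zero_smul, add_zero] at h2
  rwa [h2] at h

omit [FiniteDimensional ℂ V] in
theorem inv_apply_ne_one {χ : Fˣ →* ℂ} {c : Fˣ} (hc : χ c ≠ 1) : χ c⁻¹ ≠ 1 := fun h => by
  apply hc
  have := χ.map_mul c c⁻¹
  rw [mul_inv_cancel, map_one, h, mul_one] at this
  exact this.symm

theorem exists_g_frame {y : Fin (s + 3) → F} (hy : y ∉ W0 F s) :
    ∃ g : SLg F (s + 2), ac g (ev F 0) = ev F 0 ∧ ac g (ev F 1) = y :=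
  exists_g (indep_two.2 ⟨by simp, fun h => hy (by
    obtain ⟨a, ha⟩ := mem_sp_one.1 h
    exact mem_sp_pair.2 ⟨a, 0, by rw [zero_smul, add_zero, ha]⟩)⟩)

theorem norm_line_coef {y : Fin (s + 3) → F} (hy : y ∉ W0 F s) :
    ‖I.B (D.Φ (ev F 0) y) (D.Φ (ev F 1) (ev F 0))‖ ^ 2 = ‖D.r (ev F 2) (ev F 0)‖ ^ 2 := by
  obtain ⟨g, g0, g1⟩ := exists_g_frame hy
  have e : D.Φ (ev F 1) (ev F 0) = π g (D.Φ (ac g⁻¹ (ev F 1)) (ev F 0)) := by
    rw [← D.phi_map, ac_ac_inv, g0]
  rw [e, D.phi_eq g0 g1, I.inv]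
  have hx : ac g⁻¹ (ev F 1) ∉ W0 F s := fun h => by
    obtain ⟨a, b, hab⟩ := mem_sp_pair.1 h
    have h1 := congrArg (ac g) hab
    rw [ac_ac_inv, ac_add, ac_smul, ac_smul, g0, g1] at h1
    by_cases hb : b = 0
    · rw [hb, zero_smul, add_zero] at h1
      exact (indep_two.1 (indep_std (F := F) (s := s))).2 (mem_sp_one.2 ⟨a, h1⟩)
    · refine hy (mem_sp_pair.2 ⟨-(a / b), b⁻¹, ?_⟩)
      rw [← h1]
      match_scalars <;> field_simp
      ring
  refine Sim.norm_sq D (D.cell31 hx (mem_sp_pair.2 ⟨1, 0, by simp⟩) fun h => hx ?_)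
  obtain ⟨a, ha⟩ := mem_sp_one.1 h
  have ha0 : a ≠ 0 := fun h0 => by rw [h0, zero_smul] at ha; exact (by simp : ev F (0 : Fin (s + 3)) ≠ 0) ha.symm
  exact mem_sp_pair.2 ⟨a⁻¹, 0, by rw [zero_smul, add_zero, ← ha, smul_smul, inv_mul_cancel₀ ha0, one_smul]⟩

/-- The first relation, from the sum along a line. -/
theorem line_relation (hle : DimLe π) (hno : ∀ v, MFix π v → v = 0) (hψ : D.ψ ≠ 1)
    (hb : D.r (ev F 1) (ev F 0) = 0) :
    (qq : ℝ) * ((qq : ℝ) ^ (s + 2) - qq) * ‖D.r (ev F 2) (ev F 0)‖ ^ 2 = (qq : ℝ) - 1 := by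
  classical
  have hS := D.parseval hle hno hψ D.lineSum_mem
  have hn : I.B D.lineSum D.lineSum = (qq : ℂ) := by
    rw [D.coef_lineSum D.lineSum_mem, ← I.conj_symm D.lineSum, D.lineSum_ne hb, map_one, mul_one]
  rw [hn, sum_chain2 (F := F) (W := Fin (s + 2) → F) (β := ℝ) ⊥ (Sp ![ev F 0]) bot_le _ 0
    ((qq : ℝ) ^ 2 * ‖D.r (ev F 2) (ev F 0)‖ ^ 2) ?_ ?_ ?_] at hS
  · have hc : Nat.card (Sp (F := F) ![ev F (0 : Fin (s + 2))]) = qq :=
      (card_sp (F := F) (W := Fin (s + 2) → F) (v := ![ev F 0]) (indep_one (by simp))).trans (pow_one _)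
    rw [hc, smul_zero, zero_add, nsmul_eq_mul, Fintype.card_fun, Fintype.card_fin,
      Nat.cast_sub (Nat.le_self_pow (by omega) _), Nat.cast_pow] at hS
    rw [← Complex.ofReal_natCast qq, ← Complex.ofReal_one, ← Complex.ofReal_sub, ← Complex.ofReal_mul,
      Complex.ofReal_inj] at hS
    apply mul_left_cancel₀ (show (qq : ℝ) ≠ 0 from Nat.cast_ne_zero.2 Fintype.card_ne_zero)
    linear_combination hS
  · intro y hy
    rw [(Submodule.mem_bot F).1 hy, Ψ, D.phi_of_not fun h => h.ne_zero 1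
      (funext (Fin.cases (by simp) (by simp))), I.zero_left, norm_zero, zero_pow two_ne_zero]
  · intro y hy hy'
    obtain ⟨a, b, hab⟩ := mem_sp_pair.1 (cons_mem_W0.2 hy : (Fin.cons 0 y : Fin (s + 3) → F) ∈ W0 F s)
    have hb0 : b ≠ 0 := fun h0 => by
      refine hy' ((Submodule.mem_bot F).2 (funext fun i => ?_))
      have := congrFun hab i.succ
      simpa [h0, Fin.succ_ne_zero] using this.symm
    have h := D.phi_scale indep_std 1 (Units.mk0 b hb0) a
    rw [Units.val_one, one_smul, Units.val_mk0, map_one, one_mul, D.phi_self, add_comm (b • _), hab] at h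
    rw [Ψ, h, I.smul_left, D.coef_lineSum D.e_mem, ← Flag.r, hb, mul_zero, mul_zero, norm_zero,
      zero_pow two_ne_zero]
  · intro y hy
    rw [Ψ, D.coef_lineSum (D.phi0_mem _), norm_mul, mul_pow, D.norm_line_coef (mt cons_mem_W0.1 hy),
      Complex.norm_natCast]

theorem planeSum_norm (hψ : D.ψ ≠ 1) (h21 : D.r (ev F 2) (ev F 1) = 0) :
    I.B (D.Φ (ev F 1) (ev F 2)) D.planeSum = 1 := by
  classical
  obtain ⟨h01, h02, h12⟩ := idx_ne (s := s)
  obtain ⟨g, c, hc, g0, g1, g2⟩ := exists_g3 (x := ev F (1 : Fin (s + 3))) (y := ev F 2) (z := ev F 0)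
    (indep_three (indep_ev h12) fun h => by
      obtain ⟨x, y, hxy⟩ := mem_sp_pair.1 h
      have := congrFun hxy 0
      simp [h01, h02] at this)
  rw [planeSum, I.sum_right, Fintype.sum_eq_single ((0, 0) : F × F)]
  · rw [zero_smul, add_zero, add_zero, D.phi_eq g0 g1, I.inv, D.unit]
  · rintro ⟨x, y⟩ hxy
    have e : D.Φ (ev F 1 + x • ev F 0) (ev F 2 + y • ev F 0) =
        π g (D.Φ (ev F 0 + (x / c) • ev F 2) (ev F 1 + (y / c) • ev F 2)) := by
      rw [← D.phi_map, ac_add, ac_smul, ac_add, ac_smul, g0, g1, g2, smul_smul, smul_smul,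
        div_mul_cancel₀ _ hc, div_mul_cancel₀ _ hc]
    rw [D.phi_eq g0 g1, e, I.inv, ← Flag.r]
    by_cases hx : x = 0
    · subst hx
      have hy : y ≠ 0 := fun h => hxy (by rw [h])
      rw [zero_div, zero_smul, add_zero]
      obtain ⟨a, b, h⟩ := D.cell13 (mem_sp_one.2 ⟨1, one_smul F _⟩ : ev F 0 ∈ L0 F s) (by simp)
        (y := ev F 1 + (y / c) • ev F 2) fun hm => by
        obtain ⟨a, b, hab⟩ := mem_sp_pair.1 hm
        have := congrFun hab 2
        simp [h02.symm, h12.symm] at this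
        exact div_ne_zero hy hc this.symm
      rw [h, D.r02_zero hψ, mul_zero]
    · obtain ⟨a, b, h⟩ := D.cell32 (x := ev F 0 + (x / c) • ev F 2) (y := ev F 1 + (y / c) • ev F 2)
        (fun hm => by
          obtain ⟨a, b, hab⟩ := mem_sp_pair.1 hm
          have := congrFun hab 2
          simp [h02.symm, h12.symm] at this
          exact div_ne_zero hx hc this.symm)
        (mem_sp_three.2 ⟨-(y / x), 1, y / x, by match_scalars <;> field_simp <;> ring⟩)
        (fun hm => by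
          obtain ⟨a, b, hab⟩ := mem_sp_pair.1 hm
          have := congrFun hab 1
          simp [h01.symm, h12] at this)
      rw [h, h21, mul_zero]

theorem norm_plane_coef {y : Fin (s + 3) → F} (hy : y ∉ W0 F s) :
    (y ∈ Sp (F := F) ![ev F 0, ev F 1, ev F 2] →
      ‖I.B (D.Φ (ev F 0) y) (D.Φ (ev F 1) (ev F 2))‖ ^ 2 = ‖D.r (ev F 2) (ev F 1)‖ ^ 2) ∧
    (y ∉ Sp (F := F) ![ev F 0, ev F 1, ev F 2] →
      ‖I.B (D.Φ (ev F 0) y) (D.Φ (ev F 1) (ev F 2))‖ ^ 2 = ‖D.r34‖ ^ 2) := by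
  obtain ⟨g, g0, g1⟩ := exists_g_frame hy
  obtain ⟨h01, h02, h12⟩ := idx_ne (s := s)
  have e : D.Φ (ev F 1) (ev F 2) = π g (D.Φ (ac g⁻¹ (ev F 1)) (ac g⁻¹ (ev F 2))) := by
    rw [← D.phi_map, ac_ac_inv, ac_ac_inv]
  rw [e, D.phi_eq g0 g1, I.inv]
  set X := ac g⁻¹ (ev F 1) with hX
  set Y := ac g⁻¹ (ev F 2) with hY
  have gX : ac g X = ev F 1 := ac_ac_inv g _
  have gY : ac g Y = ev F 2 := ac_ac_inv g _
  have hXW : X ∉ W0 F s := fun h => by
    obtain ⟨a, b, hab⟩ := mem_sp_pair.1 h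
    have h1 := congrArg (ac g) hab
    rw [gX, ac_add, ac_smul, ac_smul, g0, g1] at h1
    by_cases hb : b = 0
    · rw [hb, zero_smul, add_zero] at h1
      exact (indep_two.1 (indep_std (F := F) (s := s))).2 (mem_sp_one.2 ⟨a, h1⟩)
    · refine hy (mem_sp_pair.2 ⟨-(a / b), b⁻¹, ?_⟩)
      rw [← h1]
      match_scalars <;> field_simp
      ring
  constructor
  · intro hm
    obtain ⟨a, b, c, rfl⟩ := mem_sp_three.1 hm
    have hc : c ≠ 0 := fun h0 => hy (mem_sp_pair.2 ⟨a, b, by rw [h0, zero_smul, add_zero]⟩)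
    refine Sim.norm_sq D (D.cell32 hXW (mem_sp_three.2 ⟨-(a / c), c⁻¹, -(b / c), ?_⟩) fun h => ?_)
    · apply ac_inj g
      rw [gY, ac_add, ac_add, ac_smul, ac_smul, ac_smul, g0, g1, gX]
      match_scalars <;> field_simp <;> ring
    · obtain ⟨x, z, hxz⟩ := mem_sp_pair.1 h
      have h1 := congrArg (ac g) hxz
      rw [gY, ac_add, ac_smul, ac_smul, g0, gX] at h1
      have := congrFun h1 2
      simp [h02.symm, h12.symm] at this
  · intro hm
    refine Sim.norm_sq D (D.cell34 hXW fun h => hm ?_)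
    obtain ⟨a, b, c, habc⟩ := mem_sp_three.1 h
    have h1 := congrArg (ac g) habc
    rw [gY, ac_add, ac_add, ac_smul, ac_smul, ac_smul, g0, g1, gX] at h1
    by_cases hb : b = 0
    · rw [hb, zero_smul, add_zero] at h1
      have := congrFun h1 2
      simp [h02.symm, h12.symm] at this
    · refine mem_sp_three.2 ⟨-(a / b), -(c / b), b⁻¹, ?_⟩
      rw [← h1]
      match_scalars <;> field_simp <;> ring

/-- The second relation, from the sum over a plane. -/
theorem plane_relation (hle : DimLe π) (hno : ∀ v, MFix π v → v = 0) (hψ : D.ψ ≠ 1)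
    (h21 : D.r (ev F 2) (ev F 1) = 0) :
    (qq : ℝ) ^ 2 * (((qq : ℝ) - 1) * ‖D.r (ev F 1) (ev F 2)‖ ^ 2 +
      ((qq : ℝ) ^ (s + 2) - (qq : ℝ) ^ 2) * ‖D.r34‖ ^ 2) = (qq : ℝ) - 1 := by
  classical
  have hS := D.parseval hle hno hψ D.planeSum_mem
  have hn : I.B D.planeSum D.planeSum = (qq : ℂ) ^ 2 := by
    rw [D.coef_planeSum D.planeSum_mem, ← I.conj_symm D.planeSum, D.planeSum_norm hψ h21, map_one, mul_one]
  have hi2 : LinearIndependent F ![ev F (0 : Fin (s + 2)), ev F 1] := indep_two.2 ⟨by simp, fun hm => by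
    obtain ⟨a, ha⟩ := mem_sp_one.1 hm
    have := congrFun ha 1
    simp at this⟩
  have hle12 : Sp (F := F) ![ev F (0 : Fin (s + 2))] ≤ Sp ![ev F 0, ev F 1] := fun x hx => by
    obtain ⟨a, rfl⟩ := mem_sp_one.1 hx
    exact mem_sp_pair.2 ⟨a, 0, by simp⟩
  rw [hn, sum_chain3 (F := F) (W := Fin (s + 2) → F) (β := ℝ) ⊥ (Sp ![ev F 0]) (Sp ![ev F 0, ev F 1])
    bot_le hle12 _ (((qq : ℝ) ^ 2) ^ 2 * ‖D.r (ev F 1) (ev F 2)‖ ^ 2) 0
    (((qq : ℝ) ^ 2) ^ 2 * ‖D.r34‖ ^ 2) ?_ ?_ ?_ ?_] at hS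
  · have hc : Nat.card (Sp (F := F) ![ev F (0 : Fin (s + 2))]) = qq :=
      (card_sp (F := F) (W := Fin (s + 2) → F) (v := ![ev F 0]) (indep_one (by simp))).trans (pow_one _)
    rw [hc, card_sp (F := F) (W := Fin (s + 2) → F) (v := ![ev F 0, ev F 1]) hi2,
      show Nat.card (⊥ : Submodule F (Fin (s + 2) → F)) = 1 by simp, smul_zero, add_zero, nsmul_eq_mul,
      nsmul_eq_mul, Fintype.card_fun, Fintype.card_fin, Nat.cast_sub Fintype.card_pos,
      Nat.cast_sub (Nat.pow_le_pow_right Fintype.card_pos (by omega)), Nat.cast_pow, Nat.cast_pow,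
      Nat.cast_one] at hS
    rw [← Complex.ofReal_natCast qq, ← Complex.ofReal_one, ← Complex.ofReal_sub, ← Complex.ofReal_pow,
      ← Complex.ofReal_mul, Complex.ofReal_inj] at hS
    apply mul_left_cancel₀ (show (qq : ℝ) ^ 2 ≠ 0 from pow_ne_zero _ (Nat.cast_ne_zero.2 Fintype.card_ne_zero))
    linear_combination hS
  · intro y hy
    rw [(Submodule.mem_bot F).1 hy, Ψ, D.phi_of_not fun h => h.ne_zero 1
      (funext (Fin.cases (by simp) (by simp))), I.zero_left, norm_zero, zero_pow two_ne_zero]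
  · intro y hy hy'
    obtain ⟨a, b, hab⟩ := mem_sp_pair.1 (cons_mem_W0.2 hy : (Fin.cons 0 y : Fin (s + 3) → F) ∈ W0 F s)
    have hb0 : b ≠ 0 := fun h0 => by
      refine hy' ((Submodule.mem_bot F).2 (funext fun i => ?_))
      have := congrFun hab i.succ
      simpa [h0, Fin.succ_ne_zero] using this.symm
    have h := D.phi_scale indep_std 1 (Units.mk0 b hb0) a
    rw [Units.val_one, one_smul, Units.val_mk0, map_one, one_mul, D.phi_self, add_comm (b • _), hab] at h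
    rw [Ψ, h, I.smul_left, D.coef_planeSum D.e_mem, ← Flag.r, norm_mul, Complex.norm_conj, norm_hom,
      one_mul, norm_mul, norm_pow, Complex.norm_natCast, mul_pow]
  · intro y hy hy'
    rw [Ψ, D.coef_planeSum (D.phi0_mem _), norm_mul, mul_pow,
      (D.norm_plane_coef (mt cons_mem_W0.1 hy')).1 (sp_cons_iff.2 hy), h21, norm_zero, zero_pow two_ne_zero,
      mul_zero]
  · intro y hy
    rw [Ψ, D.coef_planeSum (D.phi0_mem _), norm_mul, mul_pow,
      (D.norm_plane_coef (fun h => hy (hle12 (cons_mem_W0.1 h)))).2 (mt sp_cons_iff.1 hy),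
      norm_pow, Complex.norm_natCast]

/-- The orthogonal case is impossible. -/
theorem orth_false [Nontrivial V] (hle : DimLe π) (hno : ∀ v, MFix π v → v = 0) (hψ : D.ψ ≠ 1) :
    False := by
  classical
  have hq : (2 : ℝ) ≤ qq := by exact_mod_cast Fintype.one_lt_card (α := F)
  obtain ⟨c, hc⟩ : ∃ c, D.ψ c ≠ 1 := by
    by_contra h; push Not at h; exact hψ (MonoidHom.ext fun c => h c)
  have hφ0 : ∀ a, D.φ a ≠ 0 := fun a h => by have := norm_hom D.φ a; simp [h] at this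
  have hψ0 : ∀ a, D.ψ a ≠ 0 := fun a h => by have := norm_hom D.ψ a; simp [h] at this
  have rel := D.line_relation hle hno hψ
  by_cases hφ : D.φ = 1
  · have hφ1 : ∀ a, D.φ a = 1 := fun a => by rw [hφ]; rfl
    have hb : D.r (ev F 1) (ev F 0) = 0 := by
      have h := D.rel10 c 1
      simp only [hφ1, map_one, one_mul] at h
      exact zero_of_factor (y := 1) (by rw [h, one_mul]) hc
    have h20 : D.r (ev F 2) (ev F 0) = 0 := by
      have h := D.rel20 c 1
      simp only [hφ1, map_one, one_mul, mul_one] at h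
      exact zero_of_factor (y := 1) (by rw [h, one_mul]) hc
    have := rel hb
    rw [h20, norm_zero, zero_pow two_ne_zero, mul_zero] at this
    linarith
  obtain ⟨d, hd⟩ : ∃ d, D.φ d ≠ 1 := by
    by_contra h; push Not at h; exact hφ (MonoidHom.ext fun c => h c)
  have h21 : D.r (ev F 2) (ev F 1) = 0 := by
    have h := D.rel21 1 d
    simp only [map_one, one_mul] at h
    refine zero_of_factor (x := D.φ d⁻¹) (y := 1) ?_ (inv_apply_ne_one hd)
    apply mul_left_cancel₀ (hψ0 d)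
    linear_combination h
  have E2 := D.plane_relation hle hno hψ h21
  have hS := D.schur_pairs (noProper_pi hle hno)
  have hD := D.orth_dim hle hno hψ
  rw [total_real D.cells_norm, D.r02_zero hψ, h21, norm_zero, cellTotal] at hS
  set Q : ℝ := (qq : ℝ) with hQ
  set M : ℝ := Q ^ (s + 2) with hM
  have hN : Q ^ (s + 3) = Q * M := by rw [hM, ← pow_succ']
  rw [hN] at hS hD
  have hMQ : Q ^ 2 ≤ M := pow_le_pow_right₀ (by linarith) (by omega)
  have hNq : 0 < Q * M - Q := by nlinarith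
  set β := ‖D.r (ev F 1) (ev F 0)‖ ^ 2 with hβ
  set x := ‖D.r (ev F 1) (ev F 2)‖ ^ 2 with hx
  set y := ‖D.r (ev F 2) (ev F 0)‖ ^ 2 with hy
  set z := ‖D.r34‖ ^ 2 with hz
  have hT : (Q - 1) * (Q ^ 2 - Q) + (Q ^ 2 - Q) * ((Q ^ 2 - Q) * β + (Q * M - Q ^ 2) * x) +
      (Q * M - Q ^ 2) * ((Q ^ 2 - Q) * y + (Q * M - Q ^ 3) * z) = (Q * M - 1) * (Q - 1) := by
    apply mul_left_cancel₀ hNq.ne'
    linear_combination (Q - 1) * hS - ((Q - 1) * (Q ^ 2 - Q) + (Q ^ 2 - Q) * ((Q ^ 2 - Q) * β +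
      (Q * M - Q ^ 2) * x) + (Q * M - Q ^ 2) * ((Q ^ 2 - Q) * y + (Q * M - Q ^ 3) * z)) * hD
  by_cases hφψ : D.φ = D.ψ
  · have h20 : D.r (ev F 2) (ev F 0) = 0 := by
      have h := D.rel20 d 1
      simp only [← hφψ, map_one, one_mul, mul_one] at h
      rw [← map_mul, inv_mul_cancel, map_one] at h
      exact zero_of_factor h.symm hd
    have h12 : D.r (ev F 1) (ev F 2) = 0 := by
      have h := D.rel12 1 d
      simp only [← hφψ, map_one, one_mul, mul_one] at h
      rw [← map_mul, mul_inv_cancel, map_one] at h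
      exact zero_of_factor h.symm hd
    have hy0 : y = 0 := by rw [hy, h20, norm_zero, zero_pow two_ne_zero]
    have hx0 : x = 0 := by rw [hx, h12, norm_zero, zero_pow two_ne_zero]
    rw [hy0, hx0] at hT
    rw [hx0] at E2
    rcases Nat.eq_zero_or_pos s with h0 | hs
    · have : M = Q ^ 2 := by rw [hM, h0]
      rw [this] at E2
      simp at E2
      linarith
    have hb1 : β ≤ 1 := by
      have hli : LinearIndependent F ![ev F (1 : Fin (s + 3)), ev F 0] :=
        indep_ev (idx_ne (s := s)).1.symm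
      obtain ⟨g, g0, g1⟩ := exists_g hli
      refine pow_le_one₀ (norm_nonneg _) ?_
      rw [Flag.r, D.phi_eq g0 g1]
      exact I.norm_le_one D.unit ((I.inv _ _ _).trans D.unit)
    have hM3 : Q ^ 3 ≤ M := pow_le_pow_right₀ (by linarith) (by omega)
    have h1 : Q * (Q - 1) + Q ^ 2 * (Q - 1) * β + (M - Q) = Q * M - 1 := by
      apply mul_left_cancel₀ (show Q - 1 ≠ 0 by linarith)
      linear_combination hT - (M - Q) * E2
    nlinarith [mul_le_mul_of_nonneg_left hb1 (show 0 ≤ Q ^ 2 * (Q - 1) by nlinarith),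
      mul_le_mul_of_nonneg_left hM3 (show 0 ≤ Q - 1 by linarith)]
  · have hb : D.r (ev F 1) (ev F 0) = 0 := by
      obtain ⟨e, he⟩ : ∃ e, D.φ e ≠ D.ψ e := by
        by_contra h; push Not at h; exact hφψ (MonoidHom.ext h)
      have h := D.rel10 1 e
      simp only [map_one, one_mul, mul_one] at h
      exact zero_of_factor h he
    have hy' := rel hb
    have hb0 : β = 0 := by rw [hβ, hb, norm_zero, zero_pow two_ne_zero]
    rw [hb0] at hT
    have h1 : (Q - 1) * ((Q - 1) * (M - 2 * Q + 1)) = 0 := by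
      linear_combination -hT + (M - Q) * E2 + Q * (Q - 1) * hy'
    have h2 : 0 < M - 2 * Q + 1 := by nlinarith
    have h3 : 0 < (Q - 1) * ((Q - 1) * (M - 2 * Q + 1)) := mul_pos (by linarith) (mul_pos (by linarith) h2)
    linarith

end Flag

end CfsgLib.MinDeg.SLn
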