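import Cfsg.Agent.Lib.KnownB.MinDeg.OrbitBound

/-!
# Invariant inner products, the norm relation and weight decompositions
-/

set_option autoImplicit false
set_option linter.unusedSectionVars false

open scoped ComplexConjugate

namespace CfsgLib.MinDeg.SLn

variable {G : Type*} [Group G] {V : Type*} [AddCommGroup V] [Module ℂ V]

/-- An invariant inner product. -/
structure InvForm (ρ : Representation ℂ G V) where
  B : V → V → ℂ
  add_right : ∀ u v w, B u (v + w) = B u v + B u w
  smul_right : ∀ (c : ℂ) u v, B u (c • v) = c * B u v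
  conj_symm : ∀ u v, conj (B v u) = B u v
  pos : ∀ v, v ≠ 0 → 0 < (B v v).re
  inv : ∀ g u v, B (ρ g u) (ρ g v) = B u v

namespace InvForm

variable {ρ : Representation ℂ G V} (I : InvForm ρ)

theorem zero_right (u : V) : I.B u 0 = 0 := by
  simpa using I.smul_right 0 u 0

theorem zero_left (u : V) : I.B 0 u = 0 := by
  rw [← I.conj_symm, I.zero_right, map_zero]

theorem sum_right {ι : Type*} (s : Finset ι) (u : V) (f : ι → V) :
    I.B u (∑ i ∈ s, f i) = ∑ i ∈ s, I.B u (f i) := by
  classical
  induction s using Finset.induction_on with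
  | empty => simp [I.zero_right]
  | insert a s ha ih => rw [Finset.sum_insert ha, Finset.sum_insert ha, I.add_right, ih]

theorem sub_right (u v w : V) : I.B u (v - w) = I.B u v - I.B u w := by
  rw [sub_eq_add_neg, ← neg_one_smul ℂ w, I.add_right, I.smul_right]
  ring

theorem add_left (u v w : V) : I.B (u + v) w = I.B u w + I.B v w := by
  rw [← I.conj_symm, I.add_right, map_add, I.conj_symm, I.conj_symm]

theorem smul_left (c : ℂ) (u v : V) : I.B (c • u) v = conj c * I.B u v := by
  rw [← I.conj_symm, I.smul_right, map_mul, I.conj_symm]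

theorem sub_left (u v w : V) : I.B (u - v) w = I.B u w - I.B v w := by
  rw [sub_eq_add_neg, ← neg_one_smul ℂ v, I.add_left, I.smul_left, map_neg, map_one]
  ring

theorem self_real (v : V) : I.B v v = ((I.B v v).re : ℂ) :=
  (Complex.conj_eq_iff_re.1 (I.conj_symm v v)).symm

theorem eq_zero_of_self {v : V} (h : I.B v v = 0) : v = 0 := by
  by_contra hv
  exact (I.pos v hv).ne' (by rw [h, Complex.zero_re])

theorem inv_right (g : G) (u v : V) : I.B u (ρ g v) = I.B (ρ g⁻¹ u) v := by
  rw [← I.inv g⁻¹, ← Module.End.mul_apply, ← map_mul, inv_mul_cancel, map_one, Module.End.one_apply]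

/-- Non-zero vectors can be normalised. -/
theorem exists_unit {v : V} (hv : v ≠ 0) : ∃ c : ℂ, c ≠ 0 ∧ I.B (c • v) (c • v) = 1 := by
  have hp := I.pos v hv
  refine ⟨((Real.sqrt (I.B v v).re)⁻¹ : ℝ), ?_, ?_⟩
  · rw [Complex.ofReal_ne_zero]
    exact inv_ne_zero (Real.sqrt_ne_zero'.2 hp)
  · rw [I.smul_left, I.smul_right, Complex.conj_ofReal, I.self_real, ← Complex.ofReal_mul,
      ← Complex.ofReal_mul, ← Complex.ofReal_one, Complex.ofReal_inj, Complex.ofReal_re]
    rw [← mul_assoc, ← mul_inv, Real.mul_self_sqrt hp.le, inv_mul_cancel₀ hp.ne']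

theorem norm_le_one {u v : V} (hu : I.B u u = 1) (hv : I.B v v = 1) : ‖I.B u v‖ ≤ 1 := by
  set β := I.B u v with hβ
  have h : 0 ≤ (I.B (v - β • u) (v - β • u)).re := by
    by_cases h0 : v - β • u = 0
    · simp [h0, I.zero_left]
    · exact (I.pos _ h0).le
  have e : I.B (v - β • u) (v - β • u) = 1 - (Complex.normSq β : ℂ) := by
    rw [I.sub_right, I.sub_left, I.sub_left, I.smul_right, I.smul_left, I.smul_left, I.smul_right,
      hu, hv, ← I.conj_symm v u, ← hβ, mul_one, ← Complex.normSq_eq_conj_mul_self,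
      Complex.mul_conj]
    ring
  rw [e, Complex.sub_re, Complex.one_re, Complex.ofReal_re, Complex.normSq_eq_norm_sq] at h
  nlinarith [norm_nonneg β]

/-- Pull back along a homomorphism. -/
def comp {H : Type*} [Group H] (j : H →* G) : InvForm (ρ.comp j) where
  B := I.B
  add_right := I.add_right
  smul_right := I.smul_right
  conj_symm := I.conj_symm
  pos := I.pos
  inv g := I.inv (j g)

end InvForm

/-- Every representation of a finite group on a finite-dimensional space has an invariant inner
product. -/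
theorem exists_invForm [Finite G] [FiniteDimensional ℂ V] (ρ : Representation ℂ G V) :
    Nonempty (InvForm ρ) := by
  cases nonempty_fintype G
  let b := Module.finBasis ℂ V
  refine ⟨{
    B := fun u v => ∑ g : G, ∑ i, conj (b.repr (ρ g u) i) * b.repr (ρ g v) i
    add_right := fun u v w => by
      simp only [map_add, Finsupp.add_apply, mul_add, Finset.sum_add_distrib]
    smul_right := fun c u v => by
      simp only [map_smul, Finsupp.smul_apply, smul_eq_mul, Finset.mul_sum]
      exact Finset.sum_congr rfl fun g _ => Finset.sum_congr rfl fun i _ => by ring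
    conj_symm := fun u v => by
      simp only [map_sum, map_mul, Complex.conj_conj]
      exact Finset.sum_congr rfl fun g _ => Finset.sum_congr rfl fun i _ => by ring
    pos := fun v hv => ?_
    inv := fun h u v => ?_ }⟩
  · simp only [Complex.re_sum, ← Complex.normSq_eq_conj_mul_self, Complex.ofReal_re]
    refine Finset.sum_pos' (fun g _ => Finset.sum_nonneg fun i _ => Complex.normSq_nonneg _)
      ⟨1, Finset.mem_univ _, ?_⟩
    obtain ⟨i, hi⟩ : ∃ i, b.repr v i ≠ 0 := by
      by_contra hall
      push Not at hall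
      exact hv (b.repr.injective (Finsupp.ext fun i => by simp [hall i]))
    refine Finset.sum_pos' (fun i _ => Complex.normSq_nonneg _) ⟨i, Finset.mem_univ _, ?_⟩
    simpa using Complex.normSq_pos.2 hi
  · refine Fintype.sum_equiv (Equiv.mulRight h) _ _ fun g => ?_
    simp only [Equiv.coe_mulRight, map_mul, Module.End.mul_apply]

/-- No proper invariant subspaces. -/
def NoProper (ρ : Representation ℂ G V) : Prop :=
  ∀ W : Submodule ℂ V, (∀ g, ∀ v ∈ W, ρ g v ∈ W) → W = ⊥ ∨ W = ⊤

theorem noProper_of_irreducible {ρ : Representation ℂ G V} (h : ρ.IsIrreducible) : NoProper ρ :=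
  fun W hW => (h.eq_bot_or_eq_top ⟨W, fun g _ hv => hW g _ hv⟩).imp
    (congrArg Subrepresentation.toSubmodule) (congrArg Subrepresentation.toSubmodule)

theorem irreducible_of_noProper [Nontrivial V] {ρ : Representation ℂ G V} (h : NoProper ρ) :
    ρ.IsIrreducible := by
  have : Nontrivial (Subrepresentation ρ) := ⟨⟨⊥, ⊤, fun h' =>
    (bot_ne_top : (⊥ : Submodule ℂ V) ≠ ⊤) (congrArg Subrepresentation.toSubmodule h')⟩⟩
  refine ⟨fun a => ?_⟩
  refine (h a.toSubmodule fun g v hv => a.apply_mem_toSubmodule g hv).imp ?_ ?_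
  · exact fun h' => Subrepresentation.toSubmodule_injective (h'.trans rfl)
  · exact fun h' => Subrepresentation.toSubmodule_injective (h'.trans rfl)

/-- An operator commuting with a representation without proper invariant subspaces is scalar. -/
theorem scalar_of_commute [FiniteDimensional ℂ V] [Nontrivial V] {ρ : Representation ℂ G V}
    (h : NoProper ρ) (T : Module.End ℂ V) (hT : ∀ g v, T (ρ g v) = ρ g (T v)) :
    ∃ c : ℂ, ∀ v, T v = c • v := by
  obtain ⟨c, hc⟩ := Module.End.exists_eigenvalue T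
  refine ⟨c, fun v => ?_⟩
  have hW : T.eigenspace c = ⊤ := by
    refine (h _ fun g w hw => ?_).resolve_left hc
    rw [Module.End.mem_eigenspace_iff] at hw ⊢
    rw [hT, hw, map_smul]
  exact Module.End.mem_eigenspace_iff.1 (hW ▸ Submodule.mem_top)

/-- The norm relation. -/
theorem schur [Fintype G] [FiniteDimensional ℂ V] {ρ : Representation ℂ G V} (h : NoProper ρ)
    (I : InvForm ρ) {e : V} (he : I.B e e = 1) :
    (Module.finrank ℂ V : ℝ) * ∑ g, ‖I.B e (ρ g e)‖ ^ 2 = Fintype.card G := by
  have hne : e ≠ 0 := fun h0 => by simp [h0, I.zero_left] at he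
  have : Nontrivial V := ⟨⟨e, 0, hne⟩⟩
  let φ : G → V →ₗ[ℂ] ℂ := fun g =>
    { toFun := fun v => I.B (ρ g e) v
      map_add' := fun v w => I.add_right _ v w
      map_smul' := fun c v => by simp [I.smul_right] }
  let T : Module.End ℂ V := ∑ g, (φ g).smulRight (ρ g e)
  have hTapp : ∀ v, T v = ∑ g, I.B (ρ g e) v • ρ g e := fun v => by
    simp [T, φ]
  obtain ⟨c, hc⟩ := scalar_of_commute h T fun k v => by
    rw [hTapp, hTapp, map_sum]
    symm
    refine Fintype.sum_equiv (Equiv.mulLeft k) _ _ fun g => ?_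
    rw [Equiv.coe_mulLeft, map_smul, map_mul, Module.End.mul_apply, I.inv]
  have htr : c * (Module.finrank ℂ V : ℂ) = (Fintype.card G : ℂ) := by
    have h1 : LinearMap.trace ℂ V T = (Fintype.card G : ℂ) := by
      simp only [T, map_sum, LinearMap.trace_smulRight]
      simp [φ, I.inv, he]
    have h2 : T = c • (1 : Module.End ℂ V) := LinearMap.ext fun v => by simp [hc]
    rw [h2, map_smul, LinearMap.trace_one, smul_eq_mul] at h1
    exact h1
  have hsum : ((∑ g, ‖I.B e (ρ g e)‖ ^ 2 : ℝ) : ℂ) = c := by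
    have h1 : I.B e (T e) = c := by rw [hc, I.smul_right, he, mul_one]
    rw [← h1, hTapp, I.sum_right, Complex.ofReal_sum]
    refine Finset.sum_congr rfl fun g _ => ?_
    rw [I.smul_right, ← I.conj_symm (ρ g e) e, ← Complex.normSq_eq_norm_sq,
      Complex.normSq_eq_conj_mul_self]
  apply Complex.ofReal_injective
  rw [Complex.ofReal_mul, hsum, Complex.ofReal_natCast, Complex.ofReal_natCast, mul_comm, htr]

/-- Summing over a group through a transitive map. -/
theorem sum_transitive [Fintype G] {α : Type*} [Fintype α] {β : Type*} [AddCommMonoid β]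
    (π : G → α) (act : G → α → α) (h : ∀ g k, π (g * k) = act g (π k))
    (hsurj : Function.Surjective π) (f : α → β) :
    Fintype.card α • ∑ g, f (π g) = Fintype.card G • ∑ a, f a := by
  classical
  have hfib : ∀ a b, (Finset.univ.filter fun g => π g = a).card =
      (Finset.univ.filter fun g => π g = b).card := by
    intro a b
    obtain ⟨g₀, rfl⟩ := hsurj a
    obtain ⟨g₁, rfl⟩ := hsurj b
    refine Finset.card_bij' (fun g _ => g₁ * g₀⁻¹ * g) (fun g _ => g₀ * g₁⁻¹ * g) ?_ ?_ ?_ ?_
    · intro g hg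
      simp only [Finset.mem_filter, Finset.mem_univ, true_and] at hg ⊢
      rw [h, hg, ← h, inv_mul_cancel_right]
    · intro g hg
      simp only [Finset.mem_filter, Finset.mem_univ, true_and] at hg ⊢
      rw [h, hg, ← h, inv_mul_cancel_right]
    · intro g _; group
    · intro g _; group
  have hcard : ∀ a, Fintype.card α * (Finset.univ.filter fun g => π g = a).card = Fintype.card G := by
    intro a
    conv_rhs => rw [← Finset.card_univ (α := G), Finset.card_eq_sum_card_fiberwise
      (f := π) (t := Finset.univ) (fun g _ => Finset.mem_univ _)]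
    rw [Finset.sum_congr rfl (fun b _ => hfib b a), Finset.sum_const, smul_eq_mul, Finset.card_univ]
  rw [← Finset.sum_fiberwise (s := Finset.univ) (g := π), Finset.smul_sum, Finset.smul_sum]
  refine Finset.sum_congr rfl fun a _ => ?_
  rw [Finset.sum_congr rfl (g := fun _ => f a) (fun g hg => by rw [(Finset.mem_filter.1 hg).2]),
    Finset.sum_const, smul_smul, hcard]

section Weights

variable {X : Type*} [AddCommGroup X] [Fintype X] (ρ : Representation ℂ G V) (u : X → G)

/-- The projection to a weight space. -/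
noncomputable def proj (χ : AddChar X ℂ) : Module.End ℂ V :=
  (Fintype.card X : ℂ)⁻¹ • ∑ b, χ (-b) • ρ (u b)

variable {ρ u}

theorem proj_apply (χ : AddChar X ℂ) (v : V) :
    proj ρ u χ v = (Fintype.card X : ℂ)⁻¹ • ∑ b, χ (-b) • ρ (u b) v := by
  simp [proj]

variable (hu : ∀ a b, u (a + b) = u a * u b)
include hu

theorem proj_mem (χ : AddChar X ℂ) (v : V) : proj ρ u χ v ∈ weightSpace ρ u χ := by
  intro c
  rw [proj_apply, map_smul, map_sum, smul_comm (χ c), Finset.smul_sum (r := χ c)]
  congr 1
  refine Fintype.sum_equiv (Equiv.addLeft c) _ _ fun b => ?_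
  simp only [Equiv.coe_addLeft]
  rw [map_smul, ← Module.End.mul_apply, ← map_mul, ← hu, smul_smul, ← AddChar.map_add_eq_mul]
  congr 2
  abel

theorem sum_proj (v : V) : ∑ χ : AddChar X ℂ, proj ρ u χ v = v := by
  classical
  simp only [proj_apply, ← Finset.smul_sum]
  rw [Finset.sum_comm]
  simp only [← Finset.sum_smul, AddChar.sum_apply_eq_ite, neg_eq_zero]
  rw [Finset.sum_eq_single 0 (fun b _ hb => by simp [hb]) (by simp)]
  simp [u_zero hu, smul_smul, inv_mul_cancel₀ (Nat.cast_ne_zero.2 Fintype.card_ne_zero : (Fintype.card X : ℂ) ≠ 0)]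

theorem sum_proj' : ∑ χ : AddChar X ℂ, proj ρ u χ = 1 :=
  LinearMap.ext fun v => by simp [sum_proj hu v]

omit hu in
theorem proj_of_mem {χ χ' : AddChar X ℂ} {v : V} (hv : v ∈ weightSpace ρ u χ') :
    proj ρ u χ v = if χ' = χ then v else 0 := by
  classical
  rw [proj_apply]
  simp only [mem_weightSpace.1 hv _, smul_smul, ← Finset.sum_smul]
  have e : ∀ b, χ (-b) * χ' b = (χ' - χ) b := fun b => by
    rw [AddChar.sub_apply, AddChar.map_neg_eq_inv]
    ring
  simp only [e, AddChar.sum_eq_ite, sub_eq_zero, smul_smul]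
  split_ifs with h
  · rw [inv_mul_cancel₀ (Nat.cast_ne_zero.2 Fintype.card_ne_zero), one_smul]
  · simp

omit hu in
/-- An element carrying the weights along. -/
theorem proj_comm {χ χ' : AddChar X ℂ} {l : G} (f : X ≃+ X) (hl : ∀ a, l * u a = u (f a) * l)
    (hχ : ∀ a, χ' (f a) = χ a) (v : V) : ρ l (proj ρ u χ v) = proj ρ u χ' (ρ l v) := by
  rw [proj_apply, proj_apply, map_smul, map_sum]
  congr 1
  refine Fintype.sum_equiv f.toEquiv _ _ fun b => ?_
  rw [map_smul, ← Module.End.mul_apply, ← map_mul, hl, map_mul, Module.End.mul_apply,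
    AddEquiv.toEquiv_eq_coe, EquivLike.coe_coe, ← map_neg f, hχ]

omit hu in
theorem mem_weightSpace_map {χ χ' : AddChar X ℂ} {l : G} (f : X ≃+ X)
    (hl : ∀ a, l * u a = u (f a) * l) (hχ : ∀ a, χ' (f a) = χ a) {v : V}
    (hv : v ∈ weightSpace ρ u χ) : ρ l v ∈ weightSpace ρ u χ' := by
  intro a
  obtain ⟨b, rfl⟩ := f.surjective a
  rw [← Module.End.mul_apply, ← map_mul, ← hl, map_mul, Module.End.mul_apply,
    mem_weightSpace.1 hv b, map_smul, hχ]

variable [FiniteDimensional ℂ V]

omit hu in
theorem finrank_weight_le {χ χ' : AddChar X ℂ} {l : G} (f : X ≃+ X)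
    (hl : ∀ a, l * u a = u (f a) * l) (hχ : ∀ a, χ' (f a) = χ a) :
    Module.finrank ℂ (weightSpace ρ u χ) ≤ Module.finrank ℂ (weightSpace ρ u χ') := by
  refine LinearMap.finrank_le_finrank_of_injective
    (f := (ρ l).restrict fun v hv => mem_weightSpace_map f hl hχ hv) ?_
  intro v w hvw
  refine Subtype.ext ?_
  have := congrArg (fun z => ρ l⁻¹ (Subtype.val z)) hvw
  simpa only [LinearMap.coe_restrict_apply, ← Module.End.mul_apply, ← map_mul, inv_mul_cancel,
    map_one, Module.End.one_apply] using this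

/-- The trace of an operator on a weight space through the projection. -/
theorem trace_mul_proj (χ : AddChar X ℂ) (T : Module.End ℂ V)
    (hT : ∀ v ∈ weightSpace ρ u χ, T v ∈ weightSpace ρ u χ) :
    LinearMap.trace ℂ V (T * proj ρ u χ) =
      LinearMap.trace ℂ (weightSpace ρ u χ) (T.restrict hT) := by
  let P : V →ₗ[ℂ] weightSpace ρ u χ := LinearMap.codRestrict _ (proj ρ u χ) (proj_mem hu χ)
  have h1 : T * proj ρ u χ = ((weightSpace ρ u χ).subtype ∘ₗ T.restrict hT) ∘ₗ P := rfl
  rw [h1, LinearMap.trace_comp_comm']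
  congr 1
  refine LinearMap.ext fun v => Subtype.ext ?_
  show proj ρ u χ (T v) = T v
  rw [proj_of_mem (hT v v.2), if_pos rfl]

theorem trace_proj (χ : AddChar X ℂ) :
    LinearMap.trace ℂ V (proj ρ u χ) = (Module.finrank ℂ (weightSpace ρ u χ) : ℂ) := by
  have h := trace_mul_proj (ρ := ρ) hu χ (1 : Module.End ℂ V) (fun v hv => hv)
  rw [one_mul] at h
  rw [h, ← LinearMap.trace_one ℂ (weightSpace ρ u χ)]
  rfl

theorem trace_eq_sum (T : Module.End ℂ V) :
    LinearMap.trace ℂ V T = ∑ χ : AddChar X ℂ, LinearMap.trace ℂ V (T * proj ρ u χ) := by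
  rw [← map_sum, ← Finset.mul_sum, sum_proj' hu, mul_one]

/-- An operator moving a weight to another one contributes no trace. -/
theorem trace_mul_proj_eq_zero {χ χ' : AddChar X ℂ} (T : Module.End ℂ V)
    (hT : ∀ v ∈ weightSpace ρ u χ, T v ∈ weightSpace ρ u χ') (hne : χ' ≠ χ) :
    LinearMap.trace ℂ V (T * proj ρ u χ) = 0 := by
  have h1 : proj ρ u χ * proj ρ u χ = proj ρ u χ := LinearMap.ext fun v => by
    rw [Module.End.mul_apply, proj_of_mem (proj_mem hu χ v), if_pos rfl]
  have h2 : proj ρ u χ * (T * proj ρ u χ) = 0 := LinearMap.ext fun v => by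
    rw [Module.End.mul_apply, Module.End.mul_apply, LinearMap.zero_apply,
      proj_of_mem (hT _ (proj_mem hu χ v)), if_neg hne]
  rw [← h1, ← mul_assoc, LinearMap.trace_mul_comm, h2, map_zero]

omit hu in
theorem norm_trace_fixed [Finite G] {χ : AddChar X ℂ} {g : G}
    (hT : ∀ v ∈ weightSpace ρ u χ, ρ g v ∈ weightSpace ρ u χ)
    (hd : Module.finrank ℂ (weightSpace ρ u χ) ≤ 1) :
    ‖LinearMap.trace ℂ (weightSpace ρ u χ) ((ρ g).restrict hT)‖ ≤
      Module.finrank ℂ (weightSpace ρ u χ) := by
  rcases Nat.le_one_iff_eq_zero_or_eq_one.1 hd with h0 | h1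
  · have : Subsingleton (weightSpace ρ u χ) := Module.finrank_zero_iff.1 h0
    rw [Subsingleton.elim ((ρ g).restrict hT) 0]
    simp
  · obtain ⟨w, hw0, hw⟩ := finrank_eq_one_iff'.1 h1
    obtain ⟨c, hc⟩ := hw ((ρ g).restrict hT w)
    have hfun : (ρ g).restrict hT = c • (1 : Module.End ℂ _) := LinearMap.ext fun v => by
      obtain ⟨a, rfl⟩ := hw v
      rw [map_smul, ← hc]
      simp [smul_comm a c w]
    have hpow : ∀ k : ℕ, ρ (g ^ k) (w : V) = c ^ k • (w : V) := by
      intro k
      induction k with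
      | zero => simp
      | succ k ih =>
        rw [pow_succ', map_mul, Module.End.mul_apply, ih, map_smul,
          show ρ g (w : V) = c • (w : V) from (congrArg Subtype.val hc).symm, smul_smul, pow_succ]
    have hc1 : c ^ orderOf g = 1 := by
      have := hpow (orderOf g)
      rw [pow_orderOf_eq_one, map_one, Module.End.one_apply] at this
      have h' : ((c ^ orderOf g - 1) • (w : V)) = 0 := by rw [sub_smul, one_smul, ← this, sub_self]
      exact sub_eq_zero.1 ((smul_eq_zero.1 h').resolve_right fun h => hw0 (Subtype.ext h))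
    rw [hfun, map_smul, LinearMap.trace_one, h1]
    simp [Complex.norm_eq_one_of_pow_eq_one hc1 (orderOf_pos g).ne']

/-- The dimension through the weights. -/
theorem finrank_eq_of_uniform {d : ℕ}
    (hd : ∀ χ : AddChar X ℂ, χ ≠ 0 → Module.finrank ℂ (weightSpace ρ u χ) = d) :
    Module.finrank ℂ V = Module.finrank ℂ (weightSpace ρ u (0 : AddChar X ℂ)) +
      d * (Fintype.card X - 1) := by
  classical
  apply Nat.cast_injective (R := ℂ)
  rw [← LinearMap.trace_one ℂ V, trace_eq_sum (ρ := ρ) hu (1 : Module.End ℂ V)]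
  simp only [one_mul, trace_proj hu]
  rw [← Finset.add_sum_erase _ _ (Finset.mem_univ (0 : AddChar X ℂ)),
    Finset.sum_congr rfl (g := fun _ => (d : ℂ)) fun χ hχ => by rw [hd χ (Finset.mem_erase.1 hχ).1],
    Finset.sum_const, nsmul_eq_mul, Finset.card_erase_of_mem (Finset.mem_univ _), Finset.card_univ,
    AddChar.card_eq]
  push_cast
  ring

/-- The trace of a non-trivial element of the abelian subgroup. -/
theorem trace_u_of_uniform {d : ℕ}
    (hd : ∀ χ : AddChar X ℂ, χ ≠ 0 → Module.finrank ℂ (weightSpace ρ u χ) = d) {a : X} (ha : a ≠ 0) :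
    LinearMap.trace ℂ V (ρ (u a)) =
      (Module.finrank ℂ (weightSpace ρ u (0 : AddChar X ℂ)) : ℂ) - d := by
  classical
  rw [trace_eq_sum (ρ := ρ) hu (ρ (u a))]
  have h : ∀ χ : AddChar X ℂ, LinearMap.trace ℂ V (ρ (u a) * proj ρ u χ) =
      χ a * (Module.finrank ℂ (weightSpace ρ u χ) : ℂ) := by
    intro χ
    have : ρ (u a) * proj ρ u χ = χ a • proj ρ u χ := LinearMap.ext fun v => by
      rw [Module.End.mul_apply, mem_weightSpace.1 (proj_mem hu χ v), LinearMap.smul_apply]
    rw [this, map_smul, trace_proj hu, smul_eq_mul]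
  simp only [h]
  rw [← Finset.add_sum_erase _ _ (Finset.mem_univ (0 : AddChar X ℂ)),
    Finset.sum_congr rfl (g := fun χ : AddChar X ℂ => χ a * (d : ℂ)) fun χ hχ => by
      rw [hd χ (Finset.mem_erase.1 hχ).1],
    ← Finset.sum_mul]
  have hs : ∑ χ ∈ Finset.univ.erase (0 : AddChar X ℂ), χ a = -1 := by
    have h1 := AddChar.sum_apply_eq_ite (α := X) a
    rw [if_neg ha, ← Finset.add_sum_erase _ _ (Finset.mem_univ (0 : AddChar X ℂ)),
      AddChar.zero_apply] at h1
    exact eq_neg_of_add_eq_zero_right h1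
  rw [hs, AddChar.zero_apply]
  ring

end Weights

/-- The representation on an invariant subspace. -/
def resRep {ρ : Representation ℂ G V} (W : Submodule ℂ V) (hW : ∀ g, ∀ v ∈ W, ρ g v ∈ W) :
    Representation ℂ G W where
  toFun g := (ρ g).restrict (hW g)
  map_one' := LinearMap.ext fun v => Subtype.ext (by simp)
  map_mul' a b := LinearMap.ext fun v => Subtype.ext (by simp)

theorem resRep_coe {ρ : Representation ℂ G V} (W : Submodule ℂ V) (hW : ∀ g, ∀ v ∈ W, ρ g v ∈ W)
    (g : G) (v : W) : (resRep W hW g v : V) = ρ g v := rfl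

/-- The restricted inner product. -/
def InvForm.res {ρ : Representation ℂ G V} (I : InvForm ρ) (W : Submodule ℂ V)
    (hW : ∀ g, ∀ v ∈ W, ρ g v ∈ W) : InvForm (resRep W hW) where
  B u v := I.B u v
  add_right u v w := I.add_right _ _ _
  smul_right c u v := I.smul_right _ _ _
  conj_symm u v := I.conj_symm _ _
  pos v hv := I.pos _ fun h => hv (Subtype.ext h)
  inv g u v := I.inv g _ _

end CfsgLib.MinDeg.SLn
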