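import Cfsg.Agent.Lib.KnownB.MinDeg.SLn.Main

/-!
# Minimal degree of `SL n`: the induction and the existence
-/

set_option autoImplicit false
set_option linter.unusedSectionVars false
set_option backward.isDefEq.respectTransparency false

open Matrix
open scoped ComplexConjugate

namespace CfsgLib.MinDeg.SLn

universe v

variable {F : Type*} [Field F] [Fintype F] [DecidableEq F]
  {V : Type*} [AddCommGroup V] [Module ℂ V] [FiniteDimensional ℂ V] {s : ℕ}

local notation "qq" => Fintype.card F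

theorem dg_comm {r : ℕ} (c : Fˣ) (A : GL (Fin r) F) :
    dg c * Matrix.SpecialLinearGroup.toGL (lev A) = Matrix.SpecialLinearGroup.toGL (lev A) * dg c := by
  refine Units.ext (Matrix.ext_of_mulVec_single fun i => ?_)
  simp only [Units.val_mul, ← Matrix.mulVec_mulVec]
  generalize Pi.single (M := fun _ : Fin (r + 1) => F) i 1 = z
  show ((dg c : GL (Fin (r + 1)) F) : Matrix (Fin (r + 1)) (Fin (r + 1)) F) *ᵥ ac (lev A) z =
    ac (lev A) (((dg c : GL (Fin (r + 1)) F) : Matrix (Fin (r + 1)) (Fin (r + 1)) F) *ᵥ z)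
  rw [dg_mulVec, dg_mulVec, lev_ac, lev_ac, Fin.cons_zero, Fin.tail_cons, Fin.cons_zero, Fin.tail_cons,
    mul_left_comm]

theorem dg_conj {r : ℕ} (c : Fˣ) (g : SLg F r) : ∃ g' : SLg F r,
    dg c * Matrix.SpecialLinearGroup.toGL g = Matrix.SpecialLinearGroup.toGL g' * dg c := by
  have hdet : ((dg c * Matrix.SpecialLinearGroup.toGL g * (dg c)⁻¹ : GL (Fin (r + 1)) F) :
      Matrix (Fin (r + 1)) (Fin (r + 1)) F).det = 1 := by
    rw [Units.val_mul, Units.val_mul, Matrix.det_units_conj]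
    exact g.2
  exact ⟨⟨_, hdet⟩, by
    rw [show Matrix.SpecialLinearGroup.toGL (⟨_, hdet⟩ : SLg F r) =
      dg c * Matrix.SpecialLinearGroup.toGL g * (dg c)⁻¹ from Units.ext rfl, inv_mul_cancel_right]⟩

set_option maxHeartbeats 1000000 in
/-- The orthogonal case does not extend to `GL`. -/
theorem gl_orth_false (ρ : Representation ℂ (GL (Fin (s + 3)) F) V) (J : InvForm ρ)
    (D : Flag (ρ.comp Matrix.SpecialLinearGroup.toGL) (J.comp Matrix.SpecialLinearGroup.toGL))
    (hle : DimLe (ρ.comp Matrix.SpecialLinearGroup.toGL))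
    (hno : ∀ v, MFix (ρ.comp Matrix.SpecialLinearGroup.toGL) v → v = 0) (hψ : D.ψ ≠ 1) : False := by
  classical
  obtain ⟨h01, h02, h12⟩ := idx_ne (s := s)
  have he : D.e ≠ 0 := fun h => by have := D.unit; rw [h, InvForm.zero_left]  at this; exact zero_ne_one this
  have : Nontrivial V := ⟨⟨D.e, 0, he⟩⟩
  have : Nontrivial (fixQ (ρ.comp Matrix.SpecialLinearGroup.toGL)) := ⟨⟨⟨D.e, D.e_mem⟩, 0, fun h => he (congrArg Subtype.val h)⟩⟩
  -- the first diagonal torus acts as scalars on the fixed space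
  have hscal : ∀ c : Fˣ, ∃ γ : ℂ, ‖γ‖ = 1 ∧ ∀ v ∈ fixQ (ρ.comp Matrix.SpecialLinearGroup.toGL), ρ (dg c) v = γ • v := by
    intro c
    have hst : ∀ v ∈ fixQ (ρ.comp Matrix.SpecialLinearGroup.toGL), ρ (dg c) v ∈ fixQ (ρ.comp Matrix.SpecialLinearGroup.toGL) := by
      intro v hv
      refine mem_fixQ.2 fun a => ?_
      obtain ⟨b, rfl⟩ := (smulEquiv (r := s + 2) c).surjective a
      show ρ (Matrix.SpecialLinearGroup.toGL (u ((c : F) • b))) (ρ (dg c) v) = ρ (dg c) v
      rw [← Module.End.mul_apply, ← map_mul, ← dg_u, map_mul, Module.End.mul_apply]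
      exact congrArg _ (mem_fixQ.1 hv b)
    obtain ⟨γ, hγ⟩ := scalar_of_commute (sig_noProper hle hno) ((ρ (dg c)).restrict hst) fun A v => by
      refine Subtype.ext ?_
      show ρ (dg c) (ρ (Matrix.SpecialLinearGroup.toGL (lev A)) (v : V)) =
        ρ (Matrix.SpecialLinearGroup.toGL (lev A)) (ρ (dg c) (v : V))
      rw [← Module.End.mul_apply, ← Module.End.mul_apply, ← map_mul, ← map_mul, dg_comm]
    have hγ' : ∀ v ∈ fixQ (ρ.comp Matrix.SpecialLinearGroup.toGL), ρ (dg c) v = γ • v := fun v hv => congrArg Subtype.val (hγ ⟨v, hv⟩)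
    refine ⟨γ, ?_, hγ'⟩
    have h := J.inv (dg c) D.e D.e
    rw [hγ' _ D.e_mem, J.smul_left, J.smul_right, show J.B D.e D.e = 1 from D.unit, mul_one,
      ← Complex.normSq_eq_conj_mul_self, Complex.ofReal_eq_one, Complex.normSq_eq_norm_sq] at h
    exact (sq_eq_one_iff.1 h).resolve_right (by linarith [norm_nonneg γ])
  choose γ hγn hγ using hscal
  have hγc : ∀ c, conj (γ c) * γ c = 1 := fun c => by
    rw [← Complex.normSq_eq_conj_mul_self, Complex.normSq_eq_norm_sq, hγn]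
    simp
  have hz0 : ∀ (c : Fˣ), ((dg c : GL (Fin (s + 3)) F) : Matrix (Fin (s + 3)) (Fin (s + 3)) F) *ᵥ ev F 0 =
      (c : F) • ev F 0 := by
    intro c
    rw [dg_mulVec]
    funext k
    refine Fin.cases ?_ ?_ k
    · simp
    · intro k; simp [Fin.tail, Fin.succ_ne_zero]
  have hzne : ∀ (c : Fˣ) (i : Fin (s + 3)), i ≠ 0 →
      ((dg c : GL (Fin (s + 3)) F) : Matrix (Fin (s + 3)) (Fin (s + 3)) F) *ᵥ ev F i = ev F i := by
    intro c i hi
    rw [dg_mulVec]
    funext k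
    refine Fin.cases ?_ ?_ k
    · simp [Ne.symm hi]
    · intro k; simp [Fin.tail]
  have hzPhi : ∀ (c : Fˣ) (x y : Fin (s + 3) → F), LinearIndependent F ![x, y] →
      ρ (dg c) (D.Φ x y) = (γ c * D.φ c⁻¹) •
        D.Φ (((dg c : GL (Fin (s + 3)) F) : Matrix (Fin (s + 3)) (Fin (s + 3)) F) *ᵥ x)
          (((dg c : GL (Fin (s + 3)) F) : Matrix (Fin (s + 3)) (Fin (s + 3)) F) *ᵥ y) := by
    intro c x y h
    obtain ⟨g, g0, g1⟩ := Flag.exists_g h
    obtain ⟨g', hg'⟩ := dg_conj c g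
    have hmv : ∀ z, ac g' (((dg c : GL (Fin (s + 3)) F) : Matrix (Fin (s + 3)) (Fin (s + 3)) F) *ᵥ z) =
        ((dg c : GL (Fin (s + 3)) F) : Matrix (Fin (s + 3)) (Fin (s + 3)) F) *ᵥ ac g z := fun z => by
      have := congrArg (fun M : GL (Fin (s + 3)) F => (M : Matrix (Fin (s + 3)) (Fin (s + 3)) F) *ᵥ z) hg'
      simp only [Units.val_mul, ← Matrix.mulVec_mulVec] at this
      exact this.symm
    set X := ((dg c : GL (Fin (s + 3)) F) : Matrix (Fin (s + 3)) (Fin (s + 3)) F) *ᵥ x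
    set Y := ((dg c : GL (Fin (s + 3)) F) : Matrix (Fin (s + 3)) (Fin (s + 3)) F) *ᵥ y
    have k0 : ac g' (ev F 0) = ((c⁻¹ : Fˣ) : F) • X := by
      have := hmv (ev F 0)
      rw [hz0, ac_smul, g0] at this
      show ac g' (ev F 0) = ((c⁻¹ : Fˣ) : F) •
        (((dg c : GL (Fin (s + 3)) F) : Matrix (Fin (s + 3)) (Fin (s + 3)) F) *ᵥ x)
      rw [← this, smul_smul, ← Units.val_mul, inv_mul_cancel, Units.val_one, one_smul]
    have k1 : ac g' (ev F 1) = Y := by
      have := hmv (ev F 1)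
      rwa [hzne c 1 h01.symm, g1] at this
    have hli : LinearIndependent F ![((c⁻¹ : Fˣ) : F) • X, Y] := by
      rw [← k0, ← k1]; exact indep_ac g' indep_std
    have h2 := D.phi_scale hli c 1 0
    rw [zero_smul, add_zero, Units.val_one, one_smul, smul_smul, ← Units.val_mul, mul_inv_cancel,
      Units.val_one, one_smul, map_one, mul_one] at h2
    rw [D.phi_eq g0 g1, h2, smul_smul, show γ c * D.φ c⁻¹ * D.φ c = γ c by
      rw [mul_assoc, ← map_mul, inv_mul_cancel, map_one, mul_one], D.phi_eq k0 k1]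
    show ρ (dg c) (ρ (Matrix.SpecialLinearGroup.toGL g) D.e) = γ c • ρ (Matrix.SpecialLinearGroup.toGL g') D.e
    rw [← Module.End.mul_apply, ← map_mul, hg', map_mul, Module.End.mul_apply, hγ c _ D.e_mem, map_smul]
  have hli10 : LinearIndependent F ![ev F (1 : Fin (s + 3)), ev F 0] := by
    simpa using Flag.line_indep (F := F) (s := s) 0
  -- the two characters agree
  have hφψ : D.φ = D.ψ := by
    by_contra hne
    obtain ⟨c, hc⟩ : ∃ c, D.φ c ≠ D.ψ c := by
      by_contra h; push Not at h; exact hne (MonoidHom.ext h)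
    have ht : D.φ c⁻¹ * D.ψ c ≠ 1 := fun h => hc (by
      have h1 : D.φ c * (D.φ c⁻¹ * D.ψ c) = D.ψ c := by
        rw [← mul_assoc, ← map_mul, mul_inv_cancel, map_one, one_mul]
      rw [h, mul_one] at h1
      exact h1)
    have hline : ∀ x : F, ρ (dg c) (D.Φ (ev F 1 + x • ev F 0) (ev F 0)) =
        (γ c * D.φ c⁻¹ * D.ψ c) • D.Φ (ev F 1 + ((c : F) * x) • ev F 0) (ev F 0) := by
      intro x
      rw [hzPhi c _ _ (Flag.line_indep x), Matrix.mulVec_add, Matrix.mulVec_smul, hz0, hzne c 1 h01.symm,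
        smul_smul, mul_comm x (c : F)]
      have h := D.phi_scale (Flag.line_indep ((c : F) * x)) 1 c 0
      rw [zero_smul, add_zero, Units.val_one, one_smul, map_one, one_mul] at h
      rw [h, smul_smul]
    have hb : D.r (ev F 1) (ev F 0) = 0 := by
      have h := J.inv (dg c) D.e (D.Φ (ev F 1) (ev F 0))
      have h2 := hline 0
      rw [mul_zero, zero_smul, add_zero] at h2
      rw [hγ c _ D.e_mem, h2, J.smul_left, J.smul_right, ← mul_assoc] at h
      have h3 : (D.φ c⁻¹ * D.ψ c - 1) * D.r (ev F 1) (ev F 0) = 0 := by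
        show (D.φ c⁻¹ * D.ψ c - 1) * J.B D.e (D.Φ (ev F 1) (ev F 0)) = 0
        linear_combination h - (D.φ c⁻¹ * D.ψ c * J.B D.e (D.Φ (ev F 1) (ev F 0))) * hγc c
      exact (mul_eq_zero.1 h3).resolve_left (sub_ne_zero.2 ht)
    have hS : ρ (dg c) D.lineSum = (γ c * D.φ c⁻¹ * D.ψ c) • D.lineSum := by
      rw [Flag.lineSum, map_sum, Finset.smul_sum]
      refine Fintype.sum_equiv (Equiv.mulLeft₀ (c : F) c.ne_zero) _ _ fun x => ?_
      rw [hline]
      rfl
    rw [hγ c _ D.lineSum_mem] at hS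
    have h1 : (γ c * (D.φ c⁻¹ * D.ψ c - 1)) • D.lineSum = 0 := by
      rw [mul_sub, mul_one, sub_smul, ← mul_assoc, ← hS, sub_self]
    have hS0 := (smul_eq_zero.1 h1).resolve_left (mul_ne_zero
      (fun h => by have := hγn c; rw [h, norm_zero] at this; exact zero_ne_one this) (sub_ne_zero.2 ht))
    have := D.lineSum_ne hb
    rw [hS0, InvForm.zero_right] at this
    exact zero_ne_one this
  obtain ⟨c, hc⟩ : ∃ c, D.φ c ≠ 1 := by
    by_contra h; push Not at h; exact hψ (hφψ ▸ MonoidHom.ext fun c => h c)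
  -- the coefficients off the plane vanish
  have he' : ∀ (a b : Fˣ), ac (tor (s := s) a b) (ev F 0) = (a : F) • ev F 0 ∧
      ac (tor (s := s) a b) (ev F 1) = (b : F) • ev F 1 + (0 : F) • ev F 0 ∧
      ac (tor (s := s) a b) (ev F 2) = (((a * b)⁻¹ : Fˣ) : F) • ev F 2 := fun a b => by
    refine ⟨?_, ?_, ?_⟩ <;> rw [tor_ac_ev] <;> simp [torDiag, h01.symm, h02.symm, h12.symm]
  have h2li : LinearIndependent F ![ev F (2 : Fin (s + 3)), ev F 0] := indep_two.2 ⟨by simp, fun hm => by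
    obtain ⟨t, ht⟩ := mem_sp_one.1 hm
    have := congrFun ht 0
    simp [h02] at this⟩
  have h21 : LinearIndependent F ![ev F (2 : Fin (s + 3)), ev F 1] := indep_two.2 ⟨by simp, fun hm => by
    obtain ⟨t, ht⟩ := mem_sp_one.1 hm
    have := congrFun ht 1
    simp [h12] at this⟩
  have h12li : LinearIndependent F ![ev F (1 : Fin (s + 3)), ev F 2] := LinearIndependent.pair_symm_iff.1 h21
  have hx : ∀ d : Fˣ, D.φ d ≠ 0 := fun d h => by have := norm_hom D.φ d; simp [h] at this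
  have r12 : D.r (ev F 1) (ev F 2) = 0 := by
    obtain ⟨e0, e1, e2⟩ := he' 1 c
    have h := D.r_map e0 e1 (ev F 1) (ev F 2)
    rw [e1, zero_smul, add_zero, e2] at h
    have h2 := D.r_scale h12li c (1 * c)⁻¹ 0
    rw [zero_smul, add_zero] at h2
    rw [h2, ← hφψ, map_one, one_mul, one_mul, ← map_mul, mul_inv_cancel, map_one, one_mul] at h
    have h3 : (D.φ c - 1) * D.r (ev F 1) (ev F 2) = 0 := by linear_combination -h
    exact (mul_eq_zero.1 h3).resolve_left (sub_ne_zero.2 hc)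
  have r20 : D.r (ev F 2) (ev F 0) = 0 := by
    obtain ⟨e0, e1, e2⟩ := he' c 1
    have h := D.r_map e0 e1 (ev F 2) (ev F 0)
    rw [e0, e2] at h
    have h2 := D.r_scale h2li (c * 1)⁻¹ c 0
    rw [zero_smul, add_zero] at h2
    rw [h2, ← hφψ, map_one, mul_one, mul_one, ← map_mul, inv_mul_cancel, map_one, one_mul] at h
    have h3 : (D.φ c - 1) * D.r (ev F 2) (ev F 0) = 0 := by linear_combination -h
    exact (mul_eq_zero.1 h3).resolve_left (sub_ne_zero.2 hc)
  have r21 : D.r (ev F 2) (ev F 1) = 0 := by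
    obtain ⟨e0, e1, e2⟩ := he' 1 c
    have h := D.r_map e0 e1 (ev F 2) (ev F 1)
    rw [e1, zero_smul, add_zero, e2] at h
    have h2 := D.r_scale h21 (1 * c)⁻¹ c 0
    rw [zero_smul, add_zero] at h2
    rw [h2, ← hφψ, map_one, one_mul, one_mul, ← map_mul, inv_mul_cancel, map_one, one_mul] at h
    have h3 : (D.φ c - 1) * D.r (ev F 2) (ev F 1) = 0 := by linear_combination -h
    exact (mul_eq_zero.1 h3).resolve_left (sub_ne_zero.2 hc)
  have r34z : D.r34 = 0 := by
    rw [Flag.r34]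
    split_ifs with hs
    · have h30 : (⟨3, hs⟩ : Fin (s + 3)) ≠ 0 := by simp [Fin.ext_iff]
      have h23 : LinearIndependent F ![ev F (2 : Fin (s + 3)), ev F ⟨3, hs⟩] := indep_two.2 ⟨by simp, fun hm => by
        obtain ⟨t, ht⟩ := mem_sp_one.1 hm
        have := congrFun ht ⟨3, hs⟩
        simp [Fin.ext_iff, Nat.mod_eq_of_lt (show 2 < s + 2 + 1 by omega)] at this⟩
      have h := J.inv (dg c) D.e (D.Φ (ev F 2) (ev F ⟨3, hs⟩))
      rw [hγ c _ D.e_mem, hzPhi c _ _ h23, hzne c 2 h02.symm, hzne c _ h30, J.smul_left, J.smul_right] at h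
      have h3 : (D.φ c⁻¹ - 1) * J.B D.e (D.Φ (ev F 2) (ev F ⟨3, hs⟩)) = 0 := by
        linear_combination h - (D.φ c⁻¹ * J.B D.e (D.Φ (ev F 2) (ev F ⟨3, hs⟩))) * hγc c
      refine (mul_eq_zero.1 h3).resolve_left (sub_ne_zero.2 fun h1 => hc ?_)
      have h4 := D.φ.map_mul c c⁻¹
      rw [mul_inv_cancel, map_one, h1, mul_one] at h4
      exact h4.symm
    · rfl
  have r02 := D.r02_zero hψ
  have hT := Flag.total_real D.cells_norm
  rw [r02, r12, r20, r21, r34z, norm_zero] at hT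
  have hS := D.schur_pairs (noProper_pi hle hno)
  rw [hT, cellTotal] at hS
  have hD := D.orth_dim hle hno hψ
  have hb1 : ‖D.r (ev F 1) (ev F 0)‖ ≤ 1 := by
    obtain ⟨g, g0, g1⟩ := Flag.exists_g hli10
    rw [Flag.r, D.phi_eq g0 g1]
    exact (J.comp Matrix.SpecialLinearGroup.toGL).norm_le_one D.unit (((J.comp Matrix.SpecialLinearGroup.toGL).inv _ _ _).trans D.unit)
  have hb2 : ‖D.r (ev F 1) (ev F 0)‖ ^ 2 ≤ 1 := pow_le_one₀ (norm_nonneg _) hb1
  set q : ℝ := (qq : ℝ) with hq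
  set N : ℝ := q ^ (s + 3)
  set Dv : ℝ := (Module.finrank ℂ V : ℝ)
  set β : ℝ := ‖D.r (ev F 1) (ev F 0)‖ ^ 2
  have hq2 : 2 ≤ q := by rw [hq]; exact_mod_cast Fintype.one_lt_card (α := F)
  have hN3 : q ^ 3 ≤ N := pow_le_pow_right₀ (by linarith) (by omega)
  have hqp : (0 : ℝ) < q - 1 := by linarith
  have hA : 0 ≤ q ^ 2 - q := by nlinarith
  have hNq : 0 < N - q := by nlinarith
  have h1 : (N - 1) * (N - q) * (q - 1) ≤ (N - q) * ((q ^ 2 - 1) * (q ^ 2 - q)) := by
    have h2 : (N - 1) * (N - q) * (q - 1) =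
        (N - q) * ((q - 1) * (q ^ 2 - q) + (q ^ 2 - q) * (q ^ 2 - q) * β) := by
      linear_combination -(q - 1) * hS + ((q - 1) * (q ^ 2 - q) + (q ^ 2 - q) * (q ^ 2 - q) * β) * hD
    rw [h2]
    have := mul_le_mul_of_nonneg_left hb2 (mul_nonneg hA hA)
    exact mul_le_mul_of_nonneg_left (by nlinarith) hNq.le
  have h5 : (N - 1) * (q - 1) ≤ (q ^ 2 - 1) * (q ^ 2 - q) :=
    le_of_mul_le_mul_left (a := N - q) (by linarith) hNq
  have h6 : N - 1 ≤ q ^ 3 - q := le_of_mul_le_mul_right (a := q - 1) (by linarith) hqp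
  linarith

/-- In `GL`, multiplicity one forces a vector fixed by the stabilizer of a vector. -/
theorem exists_mfix : ∀ r : ℕ, 1 ≤ r → ∀ (W : Type v) [AddCommGroup W] [Module ℂ W]
    [FiniteDimensional ℂ W] (ρ : Representation ℂ (GL (Fin (r + 1)) F) W),
    DimLe (ρ.comp Matrix.SpecialLinearGroup.toGL) →
    fixQ (ρ.comp Matrix.SpecialLinearGroup.toGL) ≠ ⊥ →
    ∃ w, w ≠ 0 ∧ MFix (ρ.comp Matrix.SpecialLinearGroup.toGL) w := by
  intro r
  induction r with
  | zero => intro h; omega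
  | succ r ih =>
    intro _ W _ _ _ ρ hle hne
    rcases r with _ | s
    · obtain ⟨w, hw, hw0⟩ := Submodule.exists_mem_ne_zero_of_ne_bot hne
      refine ⟨w, hw0, mfix_of hw fun A hA => ?_⟩
      have : A = 1 := Units.ext (by
        ext i j
        fin_cases i; fin_cases j
        simpa [Matrix.det_fin_one] using hA)
      rw [this, map_one, map_one, Module.End.one_apply]
    · by_contra hall
      push Not at hall
      have hno : ∀ w, MFix (ρ.comp Matrix.SpecialLinearGroup.toGL) w → w = 0 := fun w hw =>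
        by_contra fun h => hall w h hw
      obtain ⟨J⟩ := exists_invForm ρ
      obtain ⟨w, hw, hw0⟩ := Submodule.exists_mem_ne_zero_of_ne_bot hne
      have : Nontrivial W := ⟨⟨w, 0, hw0⟩⟩
      have hM := ih (by omega) _ (sig (ρ.comp Matrix.SpecialLinearGroup.toGL)) (dimLe_sig hle)
        (sigQ_ne_bot hle hno (J.comp Matrix.SpecialLinearGroup.toGL) hne)
      obtain ⟨D⟩ := exists_flag (J.comp Matrix.SpecialLinearGroup.toGL) hM
      by_cases hψ : D.ψ = 1
      · exact D.star_false hle hno hψ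
      · exact gl_orth_false ρ J D hle hno hψ

open scoped Classical in
/-- The translates of a vector fixed by the stabilizer of a vector. -/
noncomputable def Φ1 {r : ℕ} (π : Representation ℂ (SLg F r) V) (e : V) (x : Fin (r + 1) → F) : V :=
  if h : ∃ g : SLg F r, ac g (ev F 0) = x then π h.choose e else 0

theorem phi1_eq {r : ℕ} {π : Representation ℂ (SLg F r) V} {e : V} (he : MFix π e) {g : SLg F r}
    {x : Fin (r + 1) → F} (hg : ac g (ev F 0) = x) : Φ1 π e x = π g e := by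
  classical
  have h : ∃ g : SLg F r, ac g (ev F 0) = x := ⟨g, hg⟩
  rw [Φ1, dif_pos h]
  have := he (g⁻¹ * h.choose) (by rw [ac_mul, h.choose_spec, ← hg, ac_inv_ac])
  conv_rhs => rw [← this]
  rw [← Module.End.mul_apply, ← map_mul, mul_inv_cancel_left]

theorem phi1_map {r : ℕ} {π : Representation ℂ (SLg F r) V} {e : V} (he : MFix π e) (hr : 1 ≤ r)
    (k : SLg F r) (x : Fin (r + 1) → F) : Φ1 π e (ac k x) = π k (Φ1 π e x) := by
  classical
  by_cases hx : x = 0
  · subst hx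
    have h0 : Φ1 π e (0 : Fin (r + 1) → F) = 0 := by
      rw [Φ1, dif_neg]
      rintro ⟨g, hg⟩
      exact ac_ne_zero g (by simp) hg
    rw [ac_zero, h0, map_zero]
  · obtain ⟨g, hg⟩ := exists_sl_map_one hr hx
    rw [phi1_eq he hg, phi1_eq he (g := k * g) (by rw [ac_mul, hg]), map_mul, Module.End.mul_apply]

/-- A vector fixed by the stabilizer of a vector gives the bound. -/
theorem mfix_bound {π : Representation ℂ (SLg F (s + 2)) V} (hirr : NoProper π)
    (hfix : ∀ w, (∀ g, π g w = w) → w = 0) {e₀ : V} (he₀ : MFix π e₀) (hne : e₀ ≠ 0) :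
    (qq : ℝ) ^ (s + 3) - qq ≤ (Module.finrank ℂ V : ℝ) * ((qq : ℝ) - 1) := by
  classical
  obtain ⟨I⟩ := exists_invForm π
  obtain ⟨c, hc0, hc⟩ := I.exists_unit hne
  set e := c • e₀ with he_def
  have he : MFix π e := fun g hg => by rw [map_smul, he₀ g hg]
  set rr : (Fin (s + 3) → F) → ℂ := fun x => I.B e (Φ1 π e x) with hrr
  have hzero : Φ1 π e (0 : Fin (s + 3) → F) = 0 := by
    rw [Φ1, dif_neg]
    rintro ⟨g, hg⟩
    exact ac_ne_zero g (by simp) hg
  have hle1 : ∀ x, ‖rr x‖ ≤ 1 := by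
    intro x
    by_cases hx : x = 0
    · simp [hrr, hx, hzero, I.zero_right]
    · obtain ⟨g, hg⟩ := exists_sl_map_one (F := F) (r := s + 2) (by omega) hx
      simp only [hrr, phi1_eq he hg]
      exact I.norm_le_one hc (by rw [I.inv, hc])
  have hout : ∀ x, x ∉ Flag.L0 F s → rr x = rr (ev F 1) := by
    intro x hx
    obtain ⟨g, g0, g1⟩ := Flag.exists_g (indep_two.2 ⟨(by simp : ev F (0 : Fin (s + 3)) ≠ 0), hx⟩)
    simp only [hrr]
    rw [← g1, phi1_map he (by omega)]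
    calc I.B e (π g (Φ1 π e (ev F 1))) = I.B (π g e) (π g (Φ1 π e (ev F 1))) := by rw [he g g0]
      _ = _ := I.inv g _ _
  have hsum : ∑ x, Φ1 π e x = 0 := hfix _ fun k => by
    rw [map_sum]
    exact Fintype.sum_equiv ⟨ac k, ac k⁻¹, ac_inv_ac k, ac_ac_inv k⟩ _ _ fun x => (phi1_map he (by omega) k x).symm
  set a := rr (ev F (1 : Fin (s + 3))) with ha
  set q : ℝ := (qq : ℝ) with hq
  set N : ℝ := q ^ (s + 3) with hN
  have hcards : Nat.card (⊥ : Submodule F (Fin (s + 3) → F)) = 1 := by simp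
  have hcast1 : (((qq - 1 : ℕ)) : ℝ) = q - 1 := by
    rw [Nat.cast_sub Fintype.card_pos]; simp [hq]
  have hcast2 : (((qq ^ (s + 3) - qq : ℕ)) : ℝ) = N - q := by
    rw [Nat.cast_sub (Nat.le_self_pow (by omega) _)]; simp [hq, hN]
  have hq2 : 2 ≤ q := by rw [hq]; exact_mod_cast Fintype.one_lt_card (α := F)
  have hNq : 0 < N - q := by
    rw [hN]
    have := pow_lt_pow_right₀ (show 1 < q by linarith) (show 1 < s + 3 by omega)
    linarith
  have hL : ∑ x, (if x ∈ Flag.L0 F s ∧ x ≠ 0 then (1 : ℝ) else 0) = q - 1 := by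
    rw [sum_chain2 (F := F) (W := Fin (s + 3) → F) (β := ℝ) ⊥ (Flag.L0 F s) bot_le _ 1 0
      (fun y hy => by simp [(Submodule.mem_bot F).1 hy])
      (fun y hy hy' => if_pos ⟨hy, fun h => hy' ((Submodule.mem_bot F).2 h)⟩)
      (fun y hy => if_neg fun h => hy h.1), hcards, Flag.card_L0, nsmul_eq_mul, nsmul_eq_mul, hcast1,
      mul_one, mul_zero, add_zero]
  have hbound : ‖a‖ * (N - q) ≤ q - 1 := by
    have h := congrArg (I.B e) hsum
    rw [I.sum_right, I.zero_right,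
      ← Finset.sum_filter_add_sum_filter_not Finset.univ (fun x => x ∈ Flag.L0 F s)] at h
    have h2 : ∑ x ∈ Finset.univ.filter (fun x => x ∉ Flag.L0 F s), I.B e (Φ1 π e x) =
        ((N - q : ℝ) : ℂ) * a := by
      rw [Finset.sum_congr rfl (g := fun _ => a) fun x hx => hout x (Finset.mem_filter.1 hx).2,
        Finset.sum_const, nsmul_eq_mul, ← hcast2, Complex.ofReal_natCast]
      congr 2
      rw [Finset.filter_not, Finset.card_sdiff_of_subset (Finset.filter_subset _ _), Finset.card_univ,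
        Fintype.card_fun, Fintype.card_fin, ← Fintype.card_subtype,
        ← Nat.card_eq_fintype_card (α := {x // x ∈ Flag.L0 F s}), Flag.card_L0]
    have h3 : ‖∑ x ∈ Finset.univ.filter (fun x => x ∈ Flag.L0 F s), I.B e (Φ1 π e x)‖ ≤ q - 1 := by
      refine (norm_sum_le _ _).trans ?_
      rw [← hL, Finset.sum_filter]
      refine Finset.sum_le_sum fun x _ => ?_
      by_cases hx : x ∈ Flag.L0 F s
      · by_cases hx0 : x = 0
        · simp [hx0, hzero, I.zero_right]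
        · rw [if_pos hx, if_pos ⟨hx, hx0⟩]; exact hle1 x
      · rw [if_neg hx, if_neg fun h => hx h.1]
    rw [h2, ← eq_neg_iff_add_eq_zero] at h
    rw [h, norm_neg, norm_mul, Complex.norm_real, Real.norm_of_nonneg hNq.le, mul_comm] at h3
    exact h3
  have hS := schur hirr I hc
  let α := {x : Fin (s + 3) → F // x ≠ 0}
  have ht := sum_transitive (G := SLg F (s + 2)) (α := α)
    (fun g => ⟨ac g (ev F 0), ac_ne_zero g (by simp)⟩)
    (fun g x => ⟨ac g x.1, ac_ne_zero g x.2⟩) (fun g k => Subtype.ext (ac_mul g k _))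
    (fun x => by
      obtain ⟨g, hg⟩ := exists_sl_map_one (F := F) (r := s + 2) (by omega) x.2
      exact ⟨g, Subtype.ext hg⟩)
    (fun x => ‖rr x.1‖ ^ 2)
  have hα : (Fintype.card α : ℝ) = N - 1 := by
    rw [Fintype.card_subtype_compl, Fintype.card_subtype_eq, Fintype.card_fun, Fintype.card_fin,
      Nat.cast_sub (Nat.one_le_pow _ _ Fintype.card_pos)]
    simp [hN, hq]
  have hg : ∀ g : SLg F (s + 2), ‖rr (ac g (ev F 0))‖ ^ 2 = ‖I.B e (π g e)‖ ^ 2 := fun g => by
    simp only [hrr, phi1_eq he rfl]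
  have hTle : ∑ x : α, ‖rr x.1‖ ^ 2 ≤ (q - 1) + (N - q) * ‖a‖ ^ 2 := by
    rw [← Finset.sum_subtype (Finset.univ.filter fun x : Fin (s + 3) → F => x ≠ 0) (fun x => by simp)
      (fun x => ‖rr x‖ ^ 2), Finset.sum_filter]
    refine (Finset.sum_le_sum (g := fun x => if x ∈ Flag.L0 F s then
      (if x ∈ Flag.L0 F s ∧ x ≠ 0 then (1 : ℝ) else 0) else ‖a‖ ^ 2) fun x _ => ?_).trans ?_
    · by_cases hx : x ∈ Flag.L0 F s
      · by_cases hx0 : x = 0
        · simp [hx0]
        · rw [if_pos hx0, if_pos hx, if_pos ⟨hx, hx0⟩]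
          exact pow_le_one₀ (norm_nonneg _) (hle1 x)
      · rw [if_neg hx, hout x hx]
        split_ifs <;> simp
    · rw [sum_chain2 (F := F) (W := Fin (s + 3) → F) (β := ℝ) ⊥ (Flag.L0 F s) bot_le _ 1 (‖a‖ ^ 2)
        (fun y hy => by simp [(Submodule.mem_bot F).1 hy])
        (fun y hy hy' => by rw [if_pos hy, if_pos ⟨hy, fun h => hy' ((Submodule.mem_bot F).2 h)⟩])
        (fun y hy => if_neg hy), hcards, Flag.card_L0, nsmul_eq_mul, nsmul_eq_mul, hcast1,
        Fintype.card_fun, Fintype.card_fin, hcast2, mul_one]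
  simp only [nsmul_eq_mul, hα, hg] at ht
  set Dv : ℝ := (Module.finrank ℂ V : ℝ)
  set T := ∑ x : α, ‖rr x.1‖ ^ 2
  have hDT : Dv * T = N - 1 := by
    refine mul_left_cancel₀ (Nat.cast_ne_zero.2 Fintype.card_ne_zero : (Fintype.card (SLg F (s + 2)) : ℝ) ≠ 0) ?_
    linear_combination (N - 1) * hS - Dv * ht
  have hsq : ((N - q) * ‖a‖) ^ 2 ≤ (q - 1) ^ 2 :=
    pow_le_pow_left₀ (mul_nonneg hNq.le (norm_nonneg _)) (by linarith) 2
  have h4 : (N - q) * T ≤ (q - 1) * (N - 1) := by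
    calc (N - q) * T ≤ (N - q) * ((q - 1) + (N - q) * ‖a‖ ^ 2) := mul_le_mul_of_nonneg_left hTle hNq.le
      _ = (N - q) * (q - 1) + ((N - q) * ‖a‖) ^ 2 := by ring
      _ ≤ _ := by linarith
  have h5 : (N - q) * (N - 1) ≤ Dv * (q - 1) * (N - 1) := by
    calc (N - q) * (N - 1) = Dv * ((N - q) * T) := by rw [← hDT]; ring
      _ ≤ Dv * ((q - 1) * (N - 1)) := mul_le_mul_of_nonneg_left h4 (Nat.cast_nonneg _)
      _ = _ := by ring
  exact le_of_mul_le_mul_right h5 (by linarith)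

/-- The minimal degree. -/
theorem sl_degree_bound [Nontrivial V] (π : Representation ℂ (SLg F (s + 2)) V) (hirr : NoProper π)
    (hfix : ∀ w, (∀ g, π g w = w) → w = 0)
    (hex0 : s = 0 → qq ≠ 2 ∧ qq ≠ 4) (hex1 : s = 1 → qq ≠ 2 ∧ qq ≠ 3) :
    (qq : ℝ) ^ (s + 3) - qq ≤ (Module.finrank ℂ V : ℝ) * ((qq : ℝ) - 1) := by
  classical
  by_cases hM : ∃ e, MFix π e ∧ e ≠ 0
  · obtain ⟨e, he, he0⟩ := hM
    exact mfix_bound hirr hfix he he0
  push Not at hM
  have hno : ∀ v, MFix π v → v = 0 := hM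
  have hq2 : (2 : ℝ) ≤ qq := by exact_mod_cast Fintype.one_lt_card (α := F)
  by_contra hlt
  push Not at hlt
  have hle : DimLe π := by
    obtain ⟨d, hd⟩ := exists_uniform π (MonoidHom.id _) (sl_transitive (by omega) π)
    intro χ hχ
    by_contra h2
    have hd' : Module.finrank ℂ (weightSpace π u χ) = d := hd χ hχ
    have h := finrank_eq_of_uniform (ρ := π) u_add hd
    rw [Fintype.card_fun, Fintype.card_fin] at h
    have h3 : 2 * (qq ^ (s + 2) - 1) ≤ Module.finrank ℂ V := by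
      rw [h]
      exact (Nat.mul_le_mul_right _ (show 2 ≤ d by omega)).trans (Nat.le_add_left _ _)
    have h4 : (2 : ℝ) * ((qq : ℝ) ^ (s + 2) - 1) ≤ Module.finrank ℂ V := by
      have := (Nat.cast_le (α := ℝ)).2 h3
      rwa [Nat.cast_mul, Nat.cast_sub (Nat.one_le_pow _ _ Fintype.card_pos), Nat.cast_pow, Nat.cast_one,
        Nat.cast_ofNat] at this
    have hN1 : 0 ≤ (qq : ℝ) ^ (s + 2) - 1 := by linarith [one_le_pow₀ (show (1 : ℝ) ≤ qq by linarith) (n := s + 2)]
    rw [pow_succ' (qq : ℝ) (s + 2)] at hlt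
    nlinarith [mul_le_mul_of_nonneg_right h4 (show (0 : ℝ) ≤ (qq : ℝ) - 1 by linarith)]
  obtain ⟨I⟩ := exists_invForm π
  have hne := fixQ_ne_bot hle hex0 hex1
  have hMs := exists_mfix (s + 1) (by omega) _ (sig π) (dimLe_sig hle) (sigQ_ne_bot hle hno I hne)
  obtain ⟨D⟩ := exists_flag I hMs
  by_cases hψ : D.ψ = 1
  · exact D.star_false hle hno hψ
  · exact hlt.ne (D.orth_dim hle hno hψ)

end CfsgLib.MinDeg.SLn
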